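/-
Groups with a (B,N)-pair: Bruhat decomposition, length function, exchange condition and the lattice of
standard parabolic subgroups.
-/
import Cfsg.Prelude.Def_LieExceptional

set_option autoImplicit false

namespace Cfsg.Agent.BN

open Cfsg

variable {G : Type*} [Group G] (P : BNPair G)

/-- `B ⊓ N` as a subgroup of `N`. -/
abbrev interN : Subgroup P.N := (P.B ⊓ P.N).subgroupOf P.N

instance interN_normal : (interN P).Normal := by
  constructor
  intro t ht n
  simp only [interN, Subgroup.mem_subgroupOf] at ht ⊢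
  exact ⟨P.conj_mem _ n.2 _ ht, (n * t * n⁻¹).2⟩

/-- The Weyl group. -/
abbrev Weyl : Type _ := P.N ⧸ interN P

/-- Image of a distinguished representative in the Weyl group. -/
def refl (s : P.S) : Weyl P := QuotientGroup.mk (⟨s.1, P.subset s.2⟩ : P.N)

theorem mk_eq_mk {n n' : P.N} :
    (QuotientGroup.mk n : Weyl P) = QuotientGroup.mk n' ↔ (n : G)⁻¹ * n' ∈ P.B := by
  rw [QuotientGroup.eq, interN, Subgroup.mem_subgroupOf]
  exact ⟨fun h => h.1, fun h => ⟨h, (n⁻¹ * n').2⟩⟩

theorem mk_eq_one {n : P.N} : (QuotientGroup.mk n : Weyl P) = 1 ↔ (n : G) ∈ P.B := by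
  rw [QuotientGroup.eq_one_iff, interN, Subgroup.mem_subgroupOf]
  exact ⟨fun h => h.1, fun h => ⟨h, n.2⟩⟩

theorem refl_mul_self (s : P.S) : refl P s * refl P s = 1 := by
  rw [refl, ← QuotientGroup.mk_mul, mk_eq_one]
  exact P.sq_mem _ s.2

theorem refl_inv (s : P.S) : (refl P s)⁻¹ = refl P s :=
  inv_eq_of_mul_eq_one_right (refl_mul_self P s)

theorem refl_cancel_left (s : P.S) (w : Weyl P) : refl P s * (refl P s * w) = w := by
  rw [← mul_assoc, refl_mul_self, one_mul]

theorem refl_cancel_right (s : P.S) (w : Weyl P) : w * refl P s * refl P s = w := by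
  rw [mul_assoc, refl_mul_self, mul_one]

theorem refl_injective : Function.Injective (refl P) := by
  intro s t h
  rw [refl, refl, mk_eq_mk] at h
  exact Subtype.ext (P.inj _ s.2 _ t.2 h)

theorem not_mem_B {s : G} (hs : s ∈ P.S) : s ∉ P.B := by
  intro hB
  refine P.conj_ne s hs ?_
  ext x
  constructor
  · rintro ⟨b, hb, rfl⟩
    exact P.B.mul_mem (P.B.mul_mem hB hb) hB
  · intro hx
    exact ⟨s⁻¹ * x * s⁻¹, P.B.mul_mem (P.B.mul_mem (P.B.inv_mem hB) hx) (P.B.inv_mem hB), by group⟩

theorem refl_ne_one (s : P.S) : refl P s ≠ 1 := fun h => not_mem_B P s.2 ((mk_eq_one P).1 h)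

/-- Product of a word in the distinguished generators. -/
def word (l : List P.S) : Weyl P := (l.map (refl P)).prod

@[simp] theorem word_nil : word P [] = 1 := rfl

@[simp] theorem word_cons (s : P.S) (l : List P.S) : word P (s :: l) = refl P s * word P l := by
  simp [word]

theorem word_append (l l' : List P.S) : word P (l ++ l') = word P l * word P l' := by
  simp [word]

theorem word_singleton (s : P.S) : word P [s] = refl P s := by simp [word]

theorem word_reverse (l : List P.S) : word P l.reverse = (word P l)⁻¹ := by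
  induction l with
  | nil => simp
  | cons s l ih => simp [word_append, ih, refl_inv, mul_inv_rev]

/-- The elements of `W` represented by an element of `closure J`. -/
def weylJ (J : Set G) : Subgroup (Weyl P) :=
  (Subgroup.closure {n : P.N | (n : G) ∈ J}).map (QuotientGroup.mk' (interN P))

theorem exists_word_of_mem_closure {J : Set G} (hJ : J ⊆ P.S) (n : P.N)
    (hn : (n : G) ∈ Subgroup.closure J ⊔ (P.B ⊓ P.N)) :
    ∃ l : List P.S, (∀ s ∈ l, (s : G) ∈ J) ∧ word P l = QuotientGroup.mk n := by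
  have key : ∀ g ∈ Subgroup.closure (J ∪ ((P.B ⊓ P.N : Subgroup G) : Set G)), ∃ hg : g ∈ P.N,
      ∃ l : List P.S, (∀ s ∈ l, (s : G) ∈ J) ∧ word P l = QuotientGroup.mk (⟨g, hg⟩ : P.N) := by
    intro g hg
    induction hg using Subgroup.closure_induction with
    | mem x hx =>
      rcases hx with hx | hx
      · exact ⟨P.subset (hJ hx), [⟨x, hJ hx⟩], by simpa using hx, by simp [refl]⟩
      · exact ⟨hx.2, [], by simp, by rw [word_nil, eq_comm, mk_eq_one]; exact hx.1⟩
    | one => exact ⟨P.N.one_mem, [], by simp, by rw [word_nil, eq_comm, mk_eq_one]; exact P.B.one_mem⟩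
    | mul x y _ _ ihx ihy =>
      obtain ⟨hx, l, hl, hlx⟩ := ihx
      obtain ⟨hy, l', hl', hly⟩ := ihy
      refine ⟨P.N.mul_mem hx hy, l ++ l', ?_, ?_⟩
      · intro s hs
        rcases List.mem_append.1 hs with h | h
        exacts [hl s h, hl' s h]
      · rw [word_append, hlx, hly, ← QuotientGroup.mk_mul]
        rfl
    | inv x _ ih =>
      obtain ⟨hx, l, hl, hlx⟩ := ih
      refine ⟨P.N.inv_mem hx, l.reverse, fun s hs => hl s (List.mem_reverse.1 hs), ?_⟩
      rw [word_reverse, hlx, ← QuotientGroup.mk_inv]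
      rfl
  rw [← Subgroup.closure_eq (P.B ⊓ P.N), ← Subgroup.closure_union] at hn
  obtain ⟨_, h⟩ := key _ hn
  exact h

theorem exists_word (w : Weyl P) : ∃ l : List P.S, word P l = w := by
  obtain ⟨n, rfl⟩ := QuotientGroup.mk_surjective w
  obtain ⟨l, -, hl⟩ := exists_word_of_mem_closure P subset_rfl n (by rw [P.closure_sup]; exact n.2)
  exact ⟨l, hl⟩

theorem mk_coe_prod (l : List P.S) :
    ∃ n : P.N, (n : G) = (l.map Subtype.val).prod ∧ QuotientGroup.mk n = word P l := by
  induction l with
  | nil => exact ⟨1, by simp, rfl⟩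
  | cons s l ih =>
    obtain ⟨n, hn, hw⟩ := ih
    exact ⟨⟨s.1, P.subset s.2⟩ * n, by simp [hn], by simp [refl, ← hw]⟩

/-! ### Length -/

open Classical in
/-- Length in the distinguished generators. -/
noncomputable def len (w : Weyl P) : ℕ :=
  Nat.find (p := fun k => ∃ l : List P.S, word P l = w ∧ l.length = k)
    (let ⟨l, hl⟩ := exists_word P w; ⟨l.length, l, hl, rfl⟩)

open Classical in
theorem exists_reduced (w : Weyl P) : ∃ l : List P.S, word P l = w ∧ l.length = len P w :=
  Nat.find_spec (p := fun k => ∃ l : List P.S, word P l = w ∧ l.length = k) _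

open Classical in
theorem len_word_le (l : List P.S) : len P (word P l) ≤ l.length :=
  Nat.find_min' _ ⟨l, rfl, rfl⟩

theorem len_eq_zero {w : Weyl P} : len P w = 0 ↔ w = 1 := by
  constructor
  · intro h
    obtain ⟨l, rfl, hl⟩ := exists_reduced P w
    rw [h, List.length_eq_zero_iff] at hl
    simp [hl]
  · rintro rfl
    simpa using len_word_le P []

theorem len_refl_mul_le (s : P.S) (w : Weyl P) : len P (refl P s * w) ≤ len P w + 1 := by
  obtain ⟨l, rfl, hl⟩ := exists_reduced P w
  have := len_word_le P (s :: l)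
  simpa [hl] using this

theorem len_le_refl_mul (s : P.S) (w : Weyl P) : len P w ≤ len P (refl P s * w) + 1 := by
  simpa [refl_cancel_left] using len_refl_mul_le P s (refl P s * w)

theorem len_inv_le (w : Weyl P) : len P w⁻¹ ≤ len P w := by
  obtain ⟨l, rfl, hl⟩ := exists_reduced P w
  have := len_word_le P l.reverse
  simpa [word_reverse, hl] using this

theorem len_inv (w : Weyl P) : len P w⁻¹ = len P w :=
  le_antisymm (len_inv_le P w) (by simpa using len_inv_le P w⁻¹)

theorem len_mul_refl_le (w : Weyl P) (s : P.S) : len P (w * refl P s) ≤ len P w + 1 := by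
  obtain ⟨l, rfl, hl⟩ := exists_reduced P w
  have := len_word_le P (l ++ [s])
  simpa [hl, word_append] using this

theorem len_refl (s : P.S) : len P (refl P s) = 1 := by
  have h1 := len_word_le P [s]
  have h2 : len P (refl P s) ≠ 0 := fun h => refl_ne_one P s ((len_eq_zero P).1 h)
  simp at h1
  omega

theorem exists_descent {w : Weyl P} (h : w ≠ 1) :
    ∃ (s : P.S) (v : Weyl P), w = refl P s * v ∧ len P w = len P v + 1 := by
  obtain ⟨l, hlw, hl⟩ := exists_reduced P w
  cases l with
  | nil => exact absurd (by simpa using hlw.symm) h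
  | cons s l =>
    refine ⟨s, word P l, by simpa using hlw.symm, le_antisymm ?_ ?_⟩
    · rw [← hlw, word_cons]; exact len_refl_mul_le P s _
    · have := len_word_le P l; simp only [List.length_cons] at hl; omega

/-! ### Cells -/

/-- The double coset of an element of the Weyl group. -/
def cell (w : Weyl P) : Set G :=
  {g | ∃ n : P.N, QuotientGroup.mk n = w ∧ ∃ b ∈ P.B, ∃ c ∈ P.B, g = b * (n : G) * c}

theorem cell_mk (n : P.N) :
    cell P (QuotientGroup.mk n) = DoubleCoset.doubleCoset (n : G) (P.B : Set G) P.B := by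
  ext g
  rw [DoubleCoset.mem_doubleCoset]
  constructor
  · rintro ⟨n', hn', b, hb, c, hc, rfl⟩
    refine ⟨b, hb, (n : G)⁻¹ * n' * c, P.B.mul_mem ?_ hc, by group⟩
    exact (mk_eq_mk P).1 hn'.symm
  · rintro ⟨b, hb, c, hc, rfl⟩
    exact ⟨n, rfl, b, hb, c, hc, rfl⟩

theorem mem_cell_self (n : P.N) : (n : G) ∈ cell P (QuotientGroup.mk n) :=
  ⟨n, rfl, 1, P.B.one_mem, 1, P.B.one_mem, by simp⟩

theorem coe_mem_cell_refl (s : P.S) : (s : G) ∈ cell P (refl P s) := mem_cell_self P ⟨s.1, P.subset s.2⟩

theorem cell_nonempty (w : Weyl P) : ∃ g, g ∈ cell P w := by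
  obtain ⟨n, rfl⟩ := QuotientGroup.mk_surjective w
  exact ⟨n, mem_cell_self P n⟩

theorem mul_mem_cell {w : Weyl P} {g b c : G} (hg : g ∈ cell P w) (hb : b ∈ P.B) (hc : c ∈ P.B) :
    b * g * c ∈ cell P w := by
  obtain ⟨n, hn, b', hb', c', hc', rfl⟩ := hg
  exact ⟨n, hn, b * b', P.B.mul_mem hb hb', c' * c, P.B.mul_mem hc' hc, by group⟩

theorem mem_cell_one {g : G} : g ∈ cell P 1 ↔ g ∈ P.B := by
  constructor
  · rintro ⟨n, hn, b, hb, c, hc, rfl⟩
    exact P.B.mul_mem (P.B.mul_mem hb ((mk_eq_one P).1 hn)) hc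
  · intro hg
    simpa using mul_mem_cell P (mem_cell_self P 1) hg P.B.one_mem

theorem exists_of_mem_cell {w : Weyl P} {g h : G} (hg : g ∈ cell P w) (hh : h ∈ cell P w) :
    ∃ b ∈ P.B, ∃ c ∈ P.B, g = b * h * c := by
  obtain ⟨n, rfl⟩ := QuotientGroup.mk_surjective w
  rw [cell_mk, DoubleCoset.mem_doubleCoset] at hg hh
  obtain ⟨b, hb, c, hc, rfl⟩ := hg
  obtain ⟨b', hb', c', hc', rfl⟩ := hh
  exact ⟨b * b'⁻¹, P.B.mul_mem hb (P.B.inv_mem hb'), c'⁻¹ * c, P.B.mul_mem (P.B.inv_mem hc') hc,
    by group⟩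

theorem inv_mem_cell {w : Weyl P} {g : G} (hg : g ∈ cell P w) : g⁻¹ ∈ cell P w⁻¹ := by
  obtain ⟨n, rfl, b, hb, c, hc, rfl⟩ := hg
  exact ⟨n⁻¹, QuotientGroup.mk_inv _ n, c⁻¹, P.B.inv_mem hc, b⁻¹, P.B.inv_mem hb, by
    rw [Subgroup.coe_inv]; group⟩

theorem exists_factor {w v : Weyl P} {g : G} (hg : g ∈ cell P (w * v)) :
    ∃ x ∈ cell P w, ∃ y ∈ cell P v, g = x * y := by
  obtain ⟨n, rfl⟩ := QuotientGroup.mk_surjective w
  obtain ⟨m, rfl⟩ := QuotientGroup.mk_surjective v
  rw [← QuotientGroup.mk_mul, cell_mk, DoubleCoset.mem_doubleCoset] at hg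
  obtain ⟨b, hb, c, hc, rfl⟩ := hg
  refine ⟨b * n, ?_, m * c, ?_, by simp [mul_assoc]⟩
  · simpa using mul_mem_cell P (mem_cell_self P n) hb P.B.one_mem
  · simpa using mul_mem_cell P (mem_cell_self P m) P.B.one_mem hc

theorem mul_mem_or {s : P.S} {w : Weyl P} {x y : G} (hx : x ∈ cell P (refl P s))
    (hy : y ∈ cell P w) : x * y ∈ cell P (refl P s * w) ∨ x * y ∈ cell P w := by
  obtain ⟨b, hb, c, hc, rfl⟩ := exists_of_mem_cell P hx (coe_mem_cell_refl P s)
  obtain ⟨n, rfl, b', hb', c', hc', rfl⟩ := hy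
  have h := P.mul_mem_union _ s.2 _ n.2 (c * b') (P.B.mul_mem hc hb')
  have e : b * s.1 * c * (b' * (n : G) * c') = b * (s.1 * (c * b') * n) * c' := by group
  rw [e]
  rcases h with h | h
  · left
    refine mul_mem_cell P ?_ hb hc'
    rw [refl, ← QuotientGroup.mk_mul, cell_mk]
    exact h
  · right
    refine mul_mem_cell P ?_ hb hc'
    rw [cell_mk]
    exact h

theorem mul_mem_or_right {s : P.S} {w : Weyl P} {x y : G} (hy : y ∈ cell P w)
    (hx : x ∈ cell P (refl P s)) : y * x ∈ cell P (w * refl P s) ∨ y * x ∈ cell P w := by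
  have hx' : x⁻¹ ∈ cell P (refl P s) := by simpa [refl_inv] using inv_mem_cell P hx
  rcases mul_mem_or P hx' (inv_mem_cell P hy) with h | h
  · left; simpa [refl_inv] using inv_mem_cell P h
  · right; simpa using inv_mem_cell P h

/-- Cells are disjoint. -/
theorem cell_disjoint {w v : Weyl P} {g : G} (hw : g ∈ cell P w) (hv : g ∈ cell P v) : w = v := by
  suffices h : ∀ d, ∀ w v : Weyl P, len P w = d → len P w ≤ len P v →
      ∀ g, g ∈ cell P w → g ∈ cell P v → w = v by
    rcases le_total (len P w) (len P v) with hl | hl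
    · exact h _ w v rfl hl g hw hv
    · exact (h _ v w rfl hl g hv hw).symm
  intro d
  induction d with
  | zero =>
    intro w v hw _ g hgw hgv
    obtain rfl := (len_eq_zero P).1 hw
    obtain ⟨n, rfl, b, hb, c, hc, rfl⟩ := hgv
    rw [mem_cell_one] at hgw
    rw [eq_comm, mk_eq_one]
    have := P.B.mul_mem (P.B.mul_mem (P.B.inv_mem hb) hgw) (P.B.inv_mem hc)
    simpa [mul_assoc] using this
  | succ d ih =>
    intro w v hw hwv g hgw hgv
    obtain ⟨s, m, rfl, hlen⟩ := exists_descent P (w := w) (fun h => by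
      rw [(len_eq_zero P).2 h] at hw; omega)
    obtain ⟨x, hx, y, hy, rfl⟩ := exists_factor P hgw
    have hx' : x⁻¹ ∈ cell P (refl P s) := by simpa [refl_inv] using inv_mem_cell P hx
    have hv1 := len_le_refl_mul P s v
    rcases mul_mem_or P hx' hgv with h | h <;> rw [inv_mul_cancel_left] at h
    · rw [ih m (refl P s * v) (by omega) (by omega) y hy h, refl_cancel_left]
    · have := ih m v (by omega) (by omega) y hy h
      subst this
      omega

theorem exists_refl_square (s : P.S) :
    ∃ a ∈ cell P (refl P s), ∃ a' ∈ cell P (refl P s), a * a' ∈ cell P (refl P s) := by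
  by_contra hcon
  push Not at hcon
  have hin : ∀ b ∈ P.B, (s : G) * b * s ∈ P.B := by
    intro b hb
    have h1 : (s : G) * b ∈ cell P (refl P s) := by
      simpa using mul_mem_cell P (coe_mem_cell_refl P s) P.B.one_mem hb
    rcases mul_mem_or P h1 (coe_mem_cell_refl P s) with h | h
    · rwa [refl_mul_self, mem_cell_one] at h
    · exact absurd h (hcon _ h1 _ (coe_mem_cell_refl P s))
  refine P.conj_ne s s.2 (Set.Subset.antisymm ?_ ?_)
  · rintro _ ⟨b, hb, rfl⟩
    exact hin b hb
  · intro x hx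
    refine ⟨(s : G)⁻¹ * x * (s : G)⁻¹, ?_, by group⟩
    have h2 := P.sq_mem _ s.2
    have h3 := hin x hx
    have e : (s : G)⁻¹ * x * (s : G)⁻¹ =
        ((s : G) * s)⁻¹ * ((s : G) * x * s) * ((s : G) * s)⁻¹ := by group
    rw [SetLike.mem_coe, e]
    exact P.B.mul_mem (P.B.mul_mem (P.B.inv_mem h2) h3) (P.B.inv_mem h2)

/-- If left multiplication by `s` does not shorten `w`, then `(B s B)(B w B) = B s w B`. -/
theorem mul_mem_of_len_le {s : P.S} {w : Weyl P} (h : len P w ≤ len P (refl P s * w)) {x y : G}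
    (hx : x ∈ cell P (refl P s)) (hy : y ∈ cell P w) : x * y ∈ cell P (refl P s * w) := by
  suffices key : ∀ d, ∀ w : Weyl P, len P w = d → len P w ≤ len P (refl P s * w) →
      ∀ x y, x ∈ cell P (refl P s) → y ∈ cell P w → x * y ∈ cell P (refl P s * w) from
    key _ w rfl h x y hx hy
  intro d
  induction d with
  | zero =>
    intro w hw _ x y hx hy
    obtain rfl := (len_eq_zero P).1 hw
    rw [mul_one]
    simpa using mul_mem_cell P hx P.B.one_mem ((mem_cell_one P).1 hy)
  | succ d ih =>
    intro w hw hsw x y hx hy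
    obtain ⟨t, v, hv, hlen⟩ := exists_descent P (w := w⁻¹) (fun h => by
      rw [inv_eq_one] at h; rw [(len_eq_zero P).2 h] at hw; omega)
    have hw' : w = v⁻¹ * refl P t := by
      rw [← inv_inv w, hv, mul_inv_rev, refl_inv]
    rw [len_inv] at hlen
    obtain ⟨p, hp, q, hq, rfl⟩ := exists_factor P (hw' ▸ hy)
    have h1 : len P v⁻¹ = d := by rw [len_inv]; omega
    have h2 : refl P s * w = refl P s * v⁻¹ * refl P t := by rw [hw', mul_assoc]
    have h3 : len P v⁻¹ ≤ len P (refl P s * v⁻¹) := by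
      have := len_mul_refl_le P (refl P s * v⁻¹) t
      rw [← h2] at this
      omega
    have h4 := ih v⁻¹ h1 h3 x p hx hp
    rcases mul_mem_or P hx hy with h5 | h5
    · exact h5
    · exfalso
      rw [mul_assoc x p q |>.symm] at h5
      rcases mul_mem_or_right P h4 hq with h6 | h6
      · have := cell_disjoint P h5 h6
        rw [← h2] at this
        exact refl_ne_one P s (mul_right_cancel (this.symm.trans (one_mul w).symm))
      · have h7 := cell_disjoint P h5 h6
        have : refl P s * w = v⁻¹ := by rw [h7, refl_cancel_left]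
        rw [this] at hsw
        omega

theorem len_refl_mul_ne (s : P.S) (w : Weyl P) : len P (refl P s * w) ≠ len P w := by
  intro h
  obtain ⟨a, ha, a', ha', haa⟩ := exists_refl_square P s
  obtain ⟨y, hy⟩ := cell_nonempty P w
  have h1 := mul_mem_of_len_le P h.ge haa hy
  have h2 := mul_mem_of_len_le P h.ge ha' hy
  have h3 := mul_mem_of_len_le P (s := s) (w := refl P s * w) (by rw [refl_cancel_left]; omega) ha h2
  rw [refl_cancel_left, ← mul_assoc] at h3
  have := cell_disjoint P h1 h3
  exact refl_ne_one P s (mul_right_cancel (this.trans (one_mul w).symm))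

theorem len_refl_mul_cases (s : P.S) (w : Weyl P) :
    len P (refl P s * w) = len P w + 1 ∨ len P (refl P s * w) + 1 = len P w := by
  have := len_refl_mul_ne P s w
  have := len_refl_mul_le P s w
  have := len_le_refl_mul P s w
  omega

/-- If left multiplication by `s` shortens `w`, then `(B s B)(B w B)` meets `B w B`. -/
theorem exists_mul_mem_self {s : P.S} {w : Weyl P} (h : len P (refl P s * w) < len P w) :
    ∃ a ∈ cell P (refl P s), ∃ z ∈ cell P w, a * z ∈ cell P w := by
  obtain ⟨a, ha, a', ha', haa⟩ := exists_refl_square P s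
  obtain ⟨y, hy⟩ := cell_nonempty P (refl P s * w)
  have hle : len P (refl P s * w) ≤ len P (refl P s * (refl P s * w)) := by
    rw [refl_cancel_left]; omega
  have h1 := mul_mem_of_len_le P hle ha' hy
  have h2 := mul_mem_of_len_le P hle haa hy
  rw [refl_cancel_left] at h1 h2
  exact ⟨a, ha, a' * y, h1, by rwa [← mul_assoc]⟩

/-- Exchange condition. -/
theorem exchange (t : P.S) (l : List P.S) (hl : len P (word P l) = l.length)
    (h : len P (refl P t * word P l) ≤ l.length) :
    ∃ i < l.length, refl P t * word P l = word P (l.eraseIdx i) := by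
  induction l using List.reverseRecOn with
  | nil =>
    exfalso
    simp only [word_nil, mul_one, List.length_nil, len_refl] at h
    omega
  | append_singleton u r ih =>
    have hu : len P (word P u) = u.length := by
      apply le_antisymm (len_word_le P u)
      have := len_mul_refl_le P (word P u) r
      simp [word_append] at hl
      omega
    simp only [word_append, word_singleton, List.length_append, List.length_singleton] at hl h ⊢
    by_cases hu2 : len P (refl P t * word P u) ≤ u.length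
    · obtain ⟨i, hi, hi'⟩ := ih hu hu2
      refine ⟨i, by omega, ?_⟩
      rw [List.eraseIdx_append_of_lt_length hi, word_append, word_singleton, ← mul_assoc, hi']
    · refine ⟨u.length, by omega, ?_⟩
      rw [List.eraseIdx_append_of_length_le le_rfl]
      simp only [Nat.sub_self, List.eraseIdx_zero, List.tail_cons, List.append_nil]
      have hlt : len P (refl P t * (word P u * refl P r)) < len P (word P u * refl P r) := by
        have := len_refl_mul_ne P t (word P u * refl P r)
        omega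
      obtain ⟨a, ha, z, hz, haz⟩ := exists_mul_mem_self P hlt
      obtain ⟨p, hp, q, hq, rfl⟩ := exists_factor P hz
      have h4 := mul_mem_of_len_le P (by omega) ha hp
      rw [← mul_assoc] at haz
      rcases mul_mem_or_right P h4 hq with h6 | h6
      · exfalso
        have := cell_disjoint P h6 haz
        rw [mul_assoc] at this
        exact refl_ne_one P t (mul_right_cancel (this.trans (one_mul _).symm))
      · have := cell_disjoint P haz h6
        rw [this, refl_cancel_left]

/-- Any element spelled by a word in `J` has a reduced word in `J`. -/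
theorem exists_reduced_sublist {J : Set P.S} (l : List P.S) (hl : ∀ s ∈ l, s ∈ J) :
    ∃ l' : List P.S, (∀ s ∈ l', s ∈ J) ∧ word P l' = word P l ∧ len P (word P l) = l'.length := by
  induction l with
  | nil => exact ⟨[], by simp, rfl, by simp [len_eq_zero]⟩
  | cons s l ih =>
    obtain ⟨l', hl', hw, hlen⟩ := ih (fun x hx => hl x (List.mem_cons_of_mem _ hx))
    rcases len_refl_mul_cases P s (word P l) with h | h
    · refine ⟨s :: l', ?_, by simp [hw], by simp [h, hlen]⟩
      intro x hx
      rcases List.mem_cons.1 hx with rfl | hx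
      exacts [hl _ List.mem_cons_self, hl' x hx]
    · obtain ⟨i, hi, hi'⟩ := exchange P s l' (by rw [hw, hlen]) (by rw [hw]; omega)
      refine ⟨l'.eraseIdx i, fun x hx => hl' x (List.mem_of_mem_eraseIdx hx), ?_, ?_⟩
      · rw [← hi', word_cons, hw]
      · rw [List.length_eraseIdx, if_pos hi, word_cons]
        omega

theorem mem_of_word_eq_refl {s : P.S} {J : Set P.S} {l : List P.S} (hl : ∀ x ∈ l, x ∈ J)
    (h : word P l = refl P s) : s ∈ J := by
  obtain ⟨l', hl', hw, hlen⟩ := exists_reduced_sublist P l hl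
  rw [h, len_refl] at hlen
  obtain ⟨t, rfl⟩ := List.length_eq_one_iff.1 hlen.symm
  rw [word_singleton, h] at hw
  rw [← refl_injective P hw]
  exact hl' t List.mem_cons_self

/-! ### Parabolic subgroups -/

theorem B_le_parabolic (J : Set G) : P.B ≤ P.parabolic J := le_sup_left

theorem subset_parabolic (J : Set G) : J ⊆ P.parabolic J := fun _ hx =>
  Subgroup.mem_sup_right (Subgroup.subset_closure hx)

theorem cell_subset_of_mem {M : Subgroup G} (hM : P.B ≤ M) {w : Weyl P} {g : G}
    (hg : g ∈ cell P w) (hgM : g ∈ M) {h : G} (hh : h ∈ cell P w) : h ∈ M := by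
  obtain ⟨b, hb, c, hc, rfl⟩ := exists_of_mem_cell P hh hg
  exact M.mul_mem (M.mul_mem (hM hb) hgM) (hM hc)

theorem cell_subset_parabolic {J : Set G} {l : List P.S} (hl : ∀ s ∈ l, (s : G) ∈ J) {g : G}
    (hg : g ∈ cell P (word P l)) : g ∈ P.parabolic J := by
  obtain ⟨n, hn, hw⟩ := mk_coe_prod P l
  refine cell_subset_of_mem P (B_le_parabolic P J) (hw ▸ mem_cell_self P n) ?_ hg
  rw [hn]
  refine Subgroup.list_prod_mem _ ?_
  intro x hx
  obtain ⟨s, hs, rfl⟩ := List.mem_map.1 hx
  exact subset_parabolic P J (hl s hs)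

theorem exists_word_of_mem_parabolic {J : Set G} (hJ : J ⊆ P.S) {g : G} (hg : g ∈ P.parabolic J) :
    ∃ l : List P.S, (∀ s ∈ l, (s : G) ∈ J) ∧ g ∈ cell P (word P l) := by
  rw [BNPair.parabolic, ← Subgroup.closure_eq P.B, ← Subgroup.closure_union] at hg
  induction hg using Subgroup.closure_induction_left with
  | one => exact ⟨[], by simp, by simp [mem_cell_one]⟩
  | mul_left x hx y _ ih =>
    obtain ⟨l, hl, hy⟩ := ih
    rcases hx with hx | hx
    · exact ⟨l, hl, by simpa using mul_mem_cell P hy hx P.B.one_mem⟩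
    · rcases mul_mem_or P (coe_mem_cell_refl P ⟨x, hJ hx⟩) hy with h | h
      · exact ⟨⟨x, hJ hx⟩ :: l, by simp [hx]; exact fun a b hb => hl ⟨a, b⟩ hb, by simpa using h⟩
      · exact ⟨l, hl, h⟩
  | inv_mul_cancel x hx y _ ih =>
    obtain ⟨l, hl, hy⟩ := ih
    rcases hx with hx | hx
    · exact ⟨l, hl, by simpa using mul_mem_cell P hy (P.B.inv_mem hx) P.B.one_mem⟩
    · have hx' : x⁻¹ ∈ cell P (refl P ⟨x, hJ hx⟩) := by
        simpa [refl_inv] using inv_mem_cell P (coe_mem_cell_refl P ⟨x, hJ hx⟩)
      rcases mul_mem_or P hx' hy with h | h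
      · exact ⟨⟨x, hJ hx⟩ :: l, by simp [hx]; exact fun a b hb => hl ⟨a, b⟩ hb, by simpa using h⟩
      · exact ⟨l, hl, h⟩

/-- `S ∩ P_J = J`. -/
theorem mem_parabolic_iff_of_mem_S {J : Set G} (hJ : J ⊆ P.S) {s : G} (hs : s ∈ P.S) :
    s ∈ P.parabolic J ↔ s ∈ J := by
  refine ⟨fun h => ?_, fun h => subset_parabolic P J h⟩
  obtain ⟨l, hl, hsl⟩ := exists_word_of_mem_parabolic P hJ h
  have := cell_disjoint P hsl (coe_mem_cell_refl P ⟨s, hs⟩)
  exact mem_of_word_eq_refl P (J := {x | (x : G) ∈ J}) hl this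

theorem parabolic_S : P.parabolic P.S = ⊤ := by
  rw [← top_le_iff, ← P.sup_eq_top]
  refine sup_le (B_le_parabolic P _) ?_
  conv_lhs => rw [← P.closure_sup]
  exact sup_le le_sup_right (inf_le_left.trans le_sup_left)

/-- Bruhat decomposition. -/
theorem exists_cell (g : G) : ∃ w, g ∈ cell P w := by
  obtain ⟨l, -, h⟩ := exists_word_of_mem_parabolic P subset_rfl
    (g := g) (by rw [parabolic_S]; exact Subgroup.mem_top g)
  exact ⟨_, h⟩

/-- A subgroup containing `B` and `x B x⁻¹` contains `x` and every letter of a reduced word of `x`. -/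
theorem mem_of_conj_le {M : Subgroup G} (hM : P.B ≤ M) (l : List P.S)
    (hl : len P (word P l) = l.length) {x : G} (hx : x ∈ cell P (word P l))
    (hc : ∀ b ∈ P.B, x * b * x⁻¹ ∈ M) : x ∈ M ∧ ∀ s ∈ l, (s : G) ∈ M := by
  induction l generalizing x with
  | nil => exact ⟨hM ((mem_cell_one P).1 (by simpa using hx)), by simp⟩
  | cons s l ih =>
    have hl' : len P (word P l) = l.length := by
      apply le_antisymm (len_word_le P l)
      have := len_refl_mul_le P s (word P l)
      simp at hl
      omega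
    simp only [word_cons, List.length_cons] at hl hx
    have hlt : len P (refl P s * (refl P s * word P l)) < len P (refl P s * word P l) := by
      rw [refl_cancel_left]; omega
    obtain ⟨a, ha, z, hz, haz⟩ := exists_mul_mem_self P hlt
    obtain ⟨b1, hb1, b2, hb2, rfl⟩ := exists_of_mem_cell P hz hx
    obtain ⟨b3, hb3, b4, hb4, heq⟩ := exists_of_mem_cell P haz hx
    have haM : a ∈ M := by
      have e : a = b3 * (x * (b4 * b2⁻¹) * x⁻¹) * b1⁻¹ := by
        calc a = a * (b1 * x * b2) * (b1 * x * b2)⁻¹ := by group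
          _ = b3 * x * b4 * (b1 * x * b2)⁻¹ := by rw [heq]
          _ = _ := by group
      rw [e]
      exact M.mul_mem (M.mul_mem (hM hb3) (hc _ (P.B.mul_mem hb4 (P.B.inv_mem hb2))))
        (M.inv_mem (hM hb1))
    obtain ⟨p, hp, q, hq, rfl⟩ := exists_factor P hx
    have hpM : p ∈ M := cell_subset_of_mem P hM ha haM hp
    obtain ⟨hqM, hls⟩ := ih hl' hq (fun b hb => by
      have := M.mul_mem (M.mul_mem (M.inv_mem hpM) (hc b hb)) hpM
      simpa [mul_assoc] using this)
    refine ⟨M.mul_mem hpM hqM, ?_⟩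
    intro r hr
    rcases List.mem_cons.1 hr with rfl | hr
    exacts [cell_subset_of_mem P hM ha haM (coe_mem_cell_refl P r), hls r hr]

theorem mem_of_conj_le' {M : Subgroup G} (hM : P.B ≤ M) {x : G}
    (hc : ∀ b ∈ P.B, x * b * x⁻¹ ∈ M) : x ∈ M := by
  obtain ⟨w, hw⟩ := exists_cell P x
  obtain ⟨l, rfl, hl⟩ := exists_reduced P w
  exact (mem_of_conj_le P hM l hl.symm hw hc).1

/-- Every subgroup containing `B` is a standard parabolic subgroup. -/
theorem eq_parabolic_inter {M : Subgroup G} (hM : P.B ≤ M) :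
    M = P.parabolic (P.S ∩ M) := by
  refine le_antisymm ?_ (sup_le hM ((Subgroup.closure_le M).2 Set.inter_subset_right))
  intro x hx
  obtain ⟨w, hw⟩ := exists_cell P x
  obtain ⟨l, rfl, hl⟩ := exists_reduced P w
  have := (mem_of_conj_le P hM l hl.symm hw
    (fun b hb => M.mul_mem (M.mul_mem hx (hM hb)) (M.inv_mem hx))).2
  exact cell_subset_parabolic P (J := P.S ∩ M) (fun s hs => ⟨s.2, this s hs⟩) hw

end Cfsg.Agent.BN
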