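/-
The Weyl group of a (B,N)-pair is a Coxeter system (Matsumoto's argument from the exchange condition).
-/
import Cfsg.Agent.Lib.BNPair.Basic

set_option autoImplicit false

namespace Cfsg.Agent.BN

open Cfsg

variable {G : Type*} [Group G] (P : BNPair G)

/-- The Coxeter matrix of a (B,N)-pair. -/
noncomputable def coxMat : CoxeterMatrix P.S where
  M := Matrix.of fun s t => orderOf (refl P s * refl P t)
  isSymm := by
    ext s t
    rw [Matrix.transpose_apply, Matrix.of_apply, Matrix.of_apply,
      ← orderOf_inv (refl P s * refl P t), mul_inv_rev, refl_inv, refl_inv]
  diagonal := fun s => by simp [Matrix.of_apply, refl_mul_self]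
  off_diagonal := fun s t hst h => by
    rw [Matrix.of_apply, orderOf_eq_one_iff] at h
    exact hst (refl_injective P (mul_right_cancel (h.trans (refl_mul_self P t).symm)))

theorem coxMat_liftable : (coxMat P).IsLiftable (refl P) := fun s t => pow_orderOf_eq_one _

/-- The generators of the abstract Coxeter group. -/
noncomputable def gen (s : P.S) : (coxMat P).Group := (coxMat P).toCoxeterSystem.simple s

/-- The natural map from the abstract Coxeter group to the Weyl group. -/
noncomputable def coxHom : (coxMat P).Group →* Weyl P :=
  (coxMat P).toCoxeterSystem.lift ⟨refl P, coxMat_liftable P⟩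

theorem coxHom_gen (s : P.S) : coxHom P (gen P s) = refl P s :=
  CoxeterSystem.lift_apply_simple _ _ _

theorem gen_mul_self (s : P.S) : gen P s * gen P s = 1 :=
  CoxeterSystem.simple_mul_simple_self _ _

/-- Value of a word in the abstract Coxeter group. -/
noncomputable def genWord (l : List P.S) : (coxMat P).Group := (l.map (gen P)).prod

theorem genWord_cons (s : P.S) (l : List P.S) : genWord P (s :: l) = gen P s * genWord P l := by
  simp [genWord]

theorem coxHom_genWord (l : List P.S) : coxHom P (genWord P l) = word P l := by
  induction l with
  | nil => simp [genWord]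
  | cons s l ih => rw [genWord_cons, map_mul, ih, coxHom_gen, word_cons]

/-- The alternating word `a b a b ...` of length `d`. -/
def altList {α : Type*} : α → α → ℕ → List α
  | _, _, 0 => []
  | a, b, d + 1 => a :: altList b a d

theorem altList_prod_mul_inv {α H : Type*} [Group H] (f : α → H) (hf : ∀ a, f a * f a = 1)
    (d : ℕ) : ∀ a b : α,
    ((altList a b d).map f).prod * (((altList b a d).map f).prod)⁻¹ = (f a * f b) ^ d := by
  induction d with
  | zero => simp [altList]
  | succ d ih =>
    intro a b
    have hb : (f b)⁻¹ = f b := inv_eq_of_mul_eq_one_right (hf b)
    have key : ∀ n : ℕ, f a * (f b * f a) ^ n = (f a * f b) ^ n * f a := by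
      intro n
      induction n with
      | zero => simp
      | succ n ihn => rw [pow_succ, ← mul_assoc, ihn, pow_succ]; simp only [mul_assoc]
    simp only [altList, List.map_cons, List.prod_cons]
    rw [mul_inv_rev, hb, mul_assoc, ← mul_assoc _ _ (f b), ih b a, ← mul_assoc, key, pow_succ,
      mul_assoc]

theorem len_word_tail {s : P.S} {l : List P.S} (h : len P (word P (s :: l)) = (s :: l).length) :
    len P (word P l) = l.length := by
  apply le_antisymm (len_word_le P l)
  have := len_refl_mul_le P s (word P l)
  simp only [word_cons, List.length_cons] at h
  omega

theorem len_word_init {s : P.S} {l : List P.S} (h : len P (word P (l ++ [s])) = (l ++ [s]).length) :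
    len P (word P l) = l.length := by
  apply le_antisymm (len_word_le P l)
  have := len_mul_refl_le P (word P l) s
  simp only [word_append, word_singleton, List.length_append, List.length_singleton] at h
  omega

/-- Reduced words with the same value agree in the Coxeter group. -/
theorem genWord_eq_of_word_eq (l l' : List P.S) (hl : len P (word P l) = l.length)
    (hl' : len P (word P l') = l'.length) (h : word P l = word P l') :
    genWord P l = genWord P l' := by
  suffices key : ∀ d, ∀ l l' : List P.S, l.length = d → l'.length = d → len P (word P l) = d →
      word P l = word P l' → genWord P l = genWord P l' from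
    key l.length l l' rfl (by rw [← hl', ← h, hl]) hl h
  intro d
  induction d with
  | zero => intro l l' h1 h2 _ _; rw [List.length_eq_zero_iff.1 h1, List.length_eq_zero_iff.1 h2]
  | succ d ih =>
    have hfirst : ∀ (a : P.S) (u v : List P.S), u.length = d → v.length = d →
        len P (word P (a :: u)) = d + 1 → word P (a :: u) = word P (a :: v) →
        genWord P (a :: u) = genWord P (a :: v) := by
      intro a u v hu hv hlen he
      rw [word_cons, word_cons] at he
      rw [genWord_cons, genWord_cons, ih u v hu hv ?_ (mul_left_cancel he)]
      rw [← hu]
      exact len_word_tail P (s := a) (by rw [word_cons] at hlen ⊢; simp [hlen, hu])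
    have hlast : ∀ (a : P.S) (u v : List P.S), u.length = d → v.length = d →
        len P (word P (u ++ [a])) = d + 1 → word P (u ++ [a]) = word P (v ++ [a]) →
        genWord P (u ++ [a]) = genWord P (v ++ [a]) := by
      intro a u v hu hv hlen he
      rw [word_append, word_append] at he
      have := ih u v hu hv
        (by rw [← hu]; exact len_word_init P (s := a) (by simp [hlen, hu]))
        (mul_right_cancel he)
      simp only [genWord, List.map_append, List.prod_append] at this ⊢
      rw [this]
    -- one step
    have step : ∀ (s t : P.S) (u v : List P.S), u.length = d → v.length = d →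
        len P (word P (s :: u)) = d + 1 → word P (s :: u) = word P (t :: v) →
        genWord P (s :: u) ≠ genWord P (t :: v) →
        word P (t :: (s :: u).dropLast) = word P (s :: u) ∧
          genWord P (t :: (s :: u).dropLast) ≠ genWord P (s :: u) := by
      intro s t u v hu hv hlen he hne
      have h1 : refl P t * word P (s :: u) = word P v := by rw [he, word_cons, refl_cancel_left]
      obtain ⟨i, hi, hi'⟩ := exchange P t (s :: u) (by rw [hlen, List.length_cons, hu])
        (by rw [h1]; have := len_word_le P v; simp only [List.length_cons]; omega)
      have hv' : word P (t :: (s :: u).eraseIdx i) = word P (s :: u) := by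
        rw [word_cons, ← hi', refl_cancel_left]
      have hlen' : ((s :: u).eraseIdx i).length = d := by
        rw [List.length_eraseIdx, if_pos hi, List.length_cons, hu]; rfl
      have hne' : genWord P (t :: (s :: u).eraseIdx i) ≠ genWord P (s :: u) := by
        rw [hfirst t _ v hlen' hv (by rw [hv', hlen]) (hv'.trans he)]
        exact hne.symm
      have hlast' : i = d := by
        by_contra hid
        simp only [List.length_cons, hu] at hi
        obtain ⟨u', a, hua⟩ : ∃ u' a, s :: u = u' ++ [a] :=
          ⟨(s :: u).dropLast, (s :: u).getLast (by simp), (List.dropLast_append_getLast _).symm⟩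
        have hu' : u'.length = d := by
          have := congrArg List.length hua
          simp at this
          omega
        have hilt : i < u'.length := by omega
        apply hne'
        rw [hua, List.eraseIdx_append_of_lt_length hilt, ← List.cons_append]
        have hw := hv'
        rw [hua, List.eraseIdx_append_of_lt_length hilt, ← List.cons_append] at hw
        refine hlast a _ u' ?_ hu' ?_ hw
        · rw [List.length_cons, List.length_eraseIdx, if_pos hilt]; omega
        · rw [hw, ← hua, hlen]
      subst hlast'
      have : (s :: u).eraseIdx i = (s :: u).dropLast := by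
        rw [List.dropLast_eq_eraseIdx (xs := s :: u) (i := i) (by simp [hu])]
      rw [this] at hv' hne'
      exact ⟨hv', hne'⟩
    intro l l' h1 h2 h3 h4
    by_contra hne
    have inv : ∀ k, k ≤ d → ∃ (s t : P.S) (u v : List P.S), u.length = d ∧ v.length = d ∧
        len P (word P (s :: u)) = d + 1 ∧ word P (s :: u) = word P (t :: v) ∧
        genWord P (s :: u) ≠ genWord P (t :: v) ∧
        u.take k = altList t s k ∧ v.take k = altList s t k := by
      intro k hk
      induction k with
      | zero =>
        match l, l', h1, h2 with
        | s :: u, t :: v, h1, h2 =>
          exact ⟨s, t, u, v, by simpa using h1, by simpa using h2, h3, h4, hne, by simp [altList],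
            by simp [altList]⟩
      | succ k ihk =>
        obtain ⟨s, t, u, v, hu, hv, hlen, he, hne0, hku, hkv⟩ := ihk (by omega)
        obtain ⟨e1, n1⟩ := step s t u v hu hv hlen he hne0
        set u1 := (s :: u).dropLast with hu1
        have hl1 : u1.length = d := by simp [hu1, hu]
        have ht1 : u1.take (k + 1) = altList s t (k + 1) := by
          rw [hu1, List.dropLast_eq_take, List.take_take, altList, List.length_cons, hu,
            show min (k + 1) (d + 1 - 1) = k + 1 by omega, List.take_succ_cons, hku]
        obtain ⟨e2, n2⟩ := step t s u1 u hl1 hu (by rw [e1, hlen]) e1 n1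
        have ht2 : ((t :: u1).dropLast).take (k + 1) = altList t s (k + 1) := by
          rw [List.dropLast_eq_take, List.take_take, altList, List.length_cons, hl1,
            show min (k + 1) (d + 1 - 1) = k + 1 by omega, List.take_succ_cons]
          have hp := congrArg (List.take k) ht1
          rw [List.take_take, min_eq_left (by omega)] at hp
          rw [hp]
          congr 1
          clear * - k
          induction k generalizing s t with
          | zero => simp [altList]
          | succ k ihk => simp only [altList, List.take_succ_cons]; congr 1; exact ihk t s
        exact ⟨s, t, (t :: u1).dropLast, u1, by simp [hl1], hl1, by rw [e2, e1, hlen], e2, n2,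
          ht2, ht1⟩
    obtain ⟨s, t, u, v, hu, hv, -, he, hne0, hku, hkv⟩ := inv d le_rfl
    rw [List.take_of_length_le hu.le] at hku
    rw [List.take_of_length_le hv.le] at hkv
    subst hku hkv
    rw [show s :: altList t s d = altList s t (d + 1) from rfl,
      show t :: altList s t d = altList t s (d + 1) from rfl] at he hne0
    apply hne0
    have hW := altList_prod_mul_inv (refl P) (refl_mul_self P) (d + 1) s t
    rw [show ((altList s t (d + 1)).map (refl P)).prod = ((altList t s (d + 1)).map (refl P)).prod
      from he, mul_inv_cancel] at hW
    have hdvd : (coxMat P).M s t ∣ d + 1 := orderOf_dvd_of_pow_eq_one hW.symm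
    obtain ⟨c, hc⟩ := hdvd
    have hC := altList_prod_mul_inv (gen P) (gen_mul_self P) (d + 1) s t
    rw [show (gen P s * gen P t) ^ (d + 1) = 1 by
      rw [hc, pow_mul]
      unfold gen
      rw [CoxeterSystem.simple_mul_simple_pow, one_pow], mul_inv_eq_one] at hC
    exact hC

theorem exists_reduced_gen (x : (coxMat P).Group) :
    ∃ l : List P.S, genWord P l = x ∧ len P (word P l) = l.length := by
  induction x using (coxMat P).toCoxeterSystem.simple_induction_left with
  | one => exact ⟨[], rfl, by simp [len_eq_zero]⟩
  | mul_simple_left x s ih =>
    obtain ⟨l, rfl, hl⟩ := ih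
    rcases len_refl_mul_cases P s (word P l) with h | h
    · exact ⟨s :: l, genWord_cons P s l, by simp [h, hl]⟩
    · obtain ⟨i, hi, hi'⟩ := exchange P s l hl (by omega)
      refine ⟨l.eraseIdx i, ?_, ?_⟩
      · have hlen : len P (word P (s :: l.eraseIdx i)) = (s :: l.eraseIdx i).length := by
          rw [word_cons, ← hi', refl_cancel_left, hl, List.length_cons, List.length_eraseIdx,
            if_pos hi]
          omega
        have := genWord_eq_of_word_eq P (s :: l.eraseIdx i) l hlen hl
          (by rw [word_cons, ← hi', refl_cancel_left])
        rw [← this, genWord_cons, ← mul_assoc]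
        show _ = gen P s * gen P s * _
        rw [gen_mul_self, one_mul]
      · rw [← hi', List.length_eraseIdx, if_pos hi]
        omega

theorem coxHom_bijective : Function.Bijective (coxHom P) := by
  constructor
  · rw [injective_iff_map_eq_one]
    intro x hx
    obtain ⟨l, rfl, hl⟩ := exists_reduced_gen P x
    rw [coxHom_genWord] at hx
    rw [hx, (len_eq_zero P).2 rfl, eq_comm, List.length_eq_zero_iff] at hl
    subst hl
    rfl
  · intro w
    obtain ⟨l, rfl⟩ := exists_word P w
    exact ⟨genWord P l, coxHom_genWord P l⟩

/-- The Coxeter system structure on the Weyl group. -/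
noncomputable def coxSystem : CoxeterSystem (coxMat P) (Weyl P) :=
  (coxMat P).toCoxeterSystem.map (MulEquiv.ofBijective (coxHom P) (coxHom_bijective P))

theorem coxSystem_simple (s : P.S) : (coxSystem P).simple s = refl P s := coxHom_gen P s

end Cfsg.Agent.BN
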