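/-
The Steinberg character of a finite group with a (B,N)-pair: the alternating sum of the permutation
characters on the standard parabolic subgroups is irreducible, and on B it is the permutation
character on B / (B ∩ ⁿB) for n a representative of the longest element.
-/
import Cfsg.Agent.Lib.BNPair.Basic
import Cfsg.Agent.Lib.Char.PermChar
import Cfsg.Agent.Lib.Char.Generalized
import Cfsg.Prelude.Def_ParabolicCharacters

set_option autoImplicit false
set_option linter.style.haveILetI false
set_option linter.unusedSectionVars false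

namespace Cfsg.Agent.BN

open Cfsg

universe u

variable {G : Type u} [Group G] (P : BNPair G)

/-! ### Words -/

theorem len_mul_le (a b : Weyl P) : len P (a * b) ≤ len P a + len P b := by
  obtain ⟨u, hu, hul⟩ := exists_reduced P a
  obtain ⟨v, hv, hvl⟩ := exists_reduced P b
  have := len_word_le P (u ++ v)
  rw [word_append, hu, hv, List.length_append, hul, hvl] at this
  exact this

theorem len_mul_refl_ne (w : Weyl P) (s : P.S) : len P (w * refl P s) ≠ len P w := by
  rw [← len_inv P w, ← len_inv P (w * refl P s), mul_inv_rev, refl_inv]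
  exact len_refl_mul_ne P s w⁻¹

/-- Every word has a reduced subword spelling the same element. -/
theorem exists_reduced_subword (l : List P.S) :
    ∃ l' : List P.S, l'.Sublist l ∧ word P l' = word P l ∧ len P (word P l) = l'.length := by
  induction l with
  | nil => exact ⟨[], List.Sublist.refl _, rfl, by simp [len_eq_zero]⟩
  | cons s l ih =>
    obtain ⟨l', hl', hw, hlen⟩ := ih
    rcases len_refl_mul_cases P s (word P l) with h | h
    · exact ⟨s :: l', List.cons_sublist_cons.2 hl', by simp [hw], by simp [h, hlen]⟩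
    · obtain ⟨i, hi, hi'⟩ := exchange P s l' (by rw [hw, hlen]) (by rw [hw]; omega)
      refine ⟨l'.eraseIdx i, ((List.eraseIdx_sublist l' i).trans hl').trans (List.sublist_cons_self s l),
        ?_, ?_⟩
      · rw [← hi', word_cons, hw]
      · rw [List.length_eraseIdx, if_pos hi, word_cons]
        omega

/-- No element of `J` on the left and none of `K` on the right shortens `w`. -/
def Asc (J K : Set P.S) (w : Weyl P) : Prop :=
  (∀ s ∈ J, len P w < len P (refl P s * w)) ∧ ∀ s ∈ K, len P w < len P (w * refl P s)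

/-- Shortest in the double coset `W_J w W_K`. -/
def DMin (J K : Set P.S) (w : Weyl P) : Prop :=
  ∀ u v : List P.S, (∀ s ∈ u, s ∈ J) → (∀ s ∈ v, s ∈ K) → len P w ≤ len P (word P u * w * word P v)

theorem DMin.asc {J K : Set P.S} {w : Weyl P} (h : DMin P J K w) : Asc P J K w := by
  constructor
  · intro s hs
    have h1 := h [s] [] (by simpa using hs) (by simp)
    simp only [word_singleton, word_nil, mul_one] at h1
    exact lt_of_le_of_ne h1 (len_refl_mul_ne P s w).symm
  · intro s hs
    have h1 := h [] [s] (by simp) (by simpa using hs)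
    simp only [word_singleton, word_nil, one_mul] at h1
    exact lt_of_le_of_ne h1 (len_mul_refl_ne P w s).symm

/-- Normal form in a double coset. -/
theorem DMin.exists_additive {J K : Set P.S} {w : Weyl P} (h : DMin P J K w) {u v : List P.S}
    (hu : ∀ s ∈ u, s ∈ J) (hv : ∀ s ∈ v, s ∈ K) :
    ∃ u' v' : List P.S, (∀ s ∈ u', s ∈ J) ∧ (∀ s ∈ v', s ∈ K) ∧
      word P u * w * word P v = word P u' * w * word P v' ∧
      len P (word P u * w * word P v) = u'.length + len P w + v'.length := by
  obtain ⟨r, hr, hrl⟩ := exists_reduced P w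
  obtain ⟨l', hl', hlw, hlen⟩ := exists_reduced_subword P (u ++ r ++ v)
  obtain ⟨ab, c, rfl, hab, hc⟩ := List.sublist_append_iff.1 hl'
  obtain ⟨a, b, rfl, ha, hb⟩ := List.sublist_append_iff.1 hab
  simp only [word_append, hr, List.length_append] at hlw hlen
  have hb' : word P b = word P (a.reverse ++ u) * w * word P (v ++ c.reverse) := by
    calc word P b = (word P a)⁻¹ * (word P a * word P b * word P c) * (word P c)⁻¹ := by group
      _ = _ := by rw [hlw, word_append, word_append, word_reverse, word_reverse]; group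
  have h1 := h (a.reverse ++ u) (v ++ c.reverse)
    (fun s hs => by
      rcases List.mem_append.1 hs with h2 | h2
      exacts [hu s (ha.subset (List.mem_reverse.1 h2)), hu s h2])
    (fun s hs => by
      rcases List.mem_append.1 hs with h2 | h2
      exacts [hv s h2, hv s (hc.subset (List.mem_reverse.1 h2))])
  rw [← hb'] at h1
  have hbr : b = r := hb.eq_of_length_le (by have := len_word_le P b; omega)
  subst hbr
  rw [hr] at hlw
  exact ⟨a, c, fun s hs => hu s (ha.subset hs), fun s hs => hv s (hc.subset hs), hlw.symm,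
    by rw [hlen, hrl]⟩

theorem DMin.eq_of_asc {J K : Set P.S} {w : Weyl P} (h : DMin P J K w) {u v : List P.S}
    (hu : ∀ s ∈ u, s ∈ J) (hv : ∀ s ∈ v, s ∈ K) (hasc : Asc P J K (word P u * w * word P v)) :
    word P u * w * word P v = w := by
  obtain ⟨u', v', hu', hv', e, hlen⟩ := DMin.exists_additive P h hu hv
  rw [e] at hasc hlen ⊢
  cases u' with
  | cons s t =>
    exfalso
    have h1 := hasc.1 s (hu' s List.mem_cons_self)
    rw [word_cons, mul_assoc, mul_assoc, refl_cancel_left, ← mul_assoc, ← mul_assoc] at h1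
    have h2 := len_mul_le P (word P t * w) (word P v')
    have h3 := len_mul_le P (word P t) w
    have h4 := len_word_le P t
    have h5 := len_word_le P v'
    rw [word_cons] at hlen
    simp only [List.length_cons, mul_assoc] at h1 h2 h3 hlen
    omega
  | nil =>
    rcases List.eq_nil_or_concat' v' with rfl | ⟨t, s, rfl⟩
    · simp
    · exfalso
      have h1 := hasc.2 s (hv' s (by simp))
      simp only [word_nil, one_mul, word_append, word_singleton] at h1
      rw [mul_assoc w, mul_assoc (word P t), refl_mul_self, mul_one] at h1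
      have h3 := len_mul_le P w (word P t)
      have h4 := len_word_le P t
      simp only [word_nil, one_mul, List.length_nil, List.length_append, List.length_singleton,
        word_append, word_singleton] at hlen
      omega

theorem exists_dmin (J K : Set P.S) (y : Weyl P) :
    ∃ w, DMin P J K w ∧ ∃ u v : List P.S, (∀ s ∈ u, s ∈ J) ∧ (∀ s ∈ v, s ∈ K) ∧
      y = word P u * w * word P v := by
  classical
  set p : ℕ → Prop := fun k => ∃ u v : List P.S, (∀ s ∈ u, s ∈ J) ∧ (∀ s ∈ v, s ∈ K) ∧
    len P (word P u * y * word P v) = k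
  have hp : ∃ k, p k := ⟨len P y, [], [], by simp, by simp, by simp⟩
  obtain ⟨u, v, hu, hv, hk⟩ := Nat.find_spec hp
  refine ⟨word P u * y * word P v, fun a b ha hb => ?_, u.reverse, v.reverse,
    fun s hs => hu s (List.mem_reverse.1 hs), fun s hs => hv s (List.mem_reverse.1 hs), ?_⟩
  · rw [hk]
    refine Nat.find_min' hp ⟨a ++ u, v ++ b, ?_, ?_, by simp [word_append, mul_assoc]⟩
    · intro s hs
      rcases List.mem_append.1 hs with h | h
      exacts [ha s h, hu s h]
    · intro s hs
      rcases List.mem_append.1 hs with h | h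
      exacts [hv s h, hb s h]
  · rw [word_reverse, word_reverse]; group

theorem Asc.dmin {J K : Set P.S} {w : Weyl P} (h : Asc P J K w) : DMin P J K w := by
  obtain ⟨m, hm, u, v, hu, hv, rfl⟩ := exists_dmin P J K w
  rwa [DMin.eq_of_asc P hm hu hv h]

theorem Asc.eq {J K : Set P.S} {w w' : Weyl P} (h : Asc P J K w) (h' : Asc P J K w') {u v : List P.S}
    (hu : ∀ s ∈ u, s ∈ J) (hv : ∀ s ∈ v, s ∈ K) (e : w' = word P u * w * word P v) : w' = w := by
  subst e
  exact DMin.eq_of_asc P (Asc.dmin P h) hu hv h'

/-! ### Cells and parabolic subgroups -/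

/-- The parabolic subgroup of a set of distinguished generators. -/
def par (J : Set P.S) : Subgroup G := P.parabolic (Subtype.val '' J)

theorem exists_word_par {J : Set P.S} {g : G} (hg : g ∈ par P J) :
    ∃ l : List P.S, (∀ s ∈ l, s ∈ J) ∧ g ∈ cell P (word P l) := by
  obtain ⟨l, hl, h⟩ := exists_word_of_mem_parabolic P (by rintro _ ⟨s, -, rfl⟩; exact s.2) hg
  refine ⟨l, fun s hs => ?_, h⟩
  obtain ⟨t, ht, e⟩ := hl s hs
  rwa [← Subtype.ext e]

theorem mem_par_of_cell {J : Set P.S} {l : List P.S} (hl : ∀ s ∈ l, s ∈ J) {g : G}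
    (hg : g ∈ cell P (word P l)) : g ∈ par P J :=
  cell_subset_parabolic P (J := Subtype.val '' J) (fun s hs => ⟨s, hl s hs, rfl⟩) hg

theorem B_le_par (J : Set P.S) : P.B ≤ par P J := B_le_parabolic P _

theorem mul_mem_of_additive {w v : Weyl P} (h : len P (w * v) = len P w + len P v) {x y : G}
    (hx : x ∈ cell P w) (hy : y ∈ cell P v) : x * y ∈ cell P (w * v) := by
  obtain ⟨l, rfl, hl⟩ := exists_reduced P w
  induction l generalizing x with
  | nil =>
    rw [word_nil, one_mul]
    simpa using mul_mem_cell P hy ((mem_cell_one P).1 (by simpa using hx)) P.B.one_mem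
  | cons s l ih =>
    rw [word_cons] at hx hl h
    obtain ⟨x1, hx1, x2, hx2, rfl⟩ := exists_factor P hx
    have h1 := len_word_le P l
    have h2 := len_mul_le P (word P l) v
    have h3 := len_refl_mul_le P s (word P l * v)
    simp only [List.length_cons] at hl
    rw [mul_assoc] at h
    have h4 : len P (word P l * v) = len P (word P l) + len P v := by
      have h5 := len_refl_mul_le P s (word P l)
      omega
    have h6 := len_refl_mul_le P s (word P l)
    have h7 := ih h4 hx2 (by omega)
    rw [word_cons, mul_assoc x1, mul_assoc (refl P s)]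
    exact mul_mem_of_len_le P (by omega) hx1 h7

theorem exists_par_mul_mem {J : Set P.S} {p g : G} (hp : p ∈ par P J) {w : Weyl P}
    (hg : g ∈ cell P w) :
    ∃ u : List P.S, (∀ s ∈ u, s ∈ J) ∧ p * g ∈ cell P (word P u * w) := by
  obtain ⟨l, hl, hpl⟩ := exists_word_par P hp
  clear hp
  rename p ∈ cell P (word P l) => hp
  induction l generalizing p with
  | nil =>
    exact ⟨[], by simp, by
      simpa using mul_mem_cell P hg ((mem_cell_one P).1 (by simpa using hp)) P.B.one_mem⟩
  | cons s l ih =>
    rw [word_cons] at hp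
    obtain ⟨x, hx, y, hy, rfl⟩ := exists_factor P hp
    obtain ⟨u, hu, h⟩ := ih (fun t ht => hl t (List.mem_cons_of_mem _ ht)) hy
    rw [mul_assoc]
    rcases mul_mem_or P hx h with h' | h'
    · refine ⟨s :: u, ?_, by rwa [word_cons, mul_assoc]⟩
      intro t ht
      rcases List.mem_cons.1 ht with rfl | ht
      exacts [hl t List.mem_cons_self, hu t ht]
    · exact ⟨u, hu, h'⟩

theorem exists_mul_par_mem {J : Set P.S} {p g : G} (hp : p ∈ par P J) {w : Weyl P}
    (hg : g ∈ cell P w) :
    ∃ u : List P.S, (∀ s ∈ u, s ∈ J) ∧ g * p ∈ cell P (w * word P u) := by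
  obtain ⟨u, hu, h⟩ := exists_par_mul_mem P ((par P J).inv_mem hp) (inv_mem_cell P hg)
  refine ⟨u.reverse, fun s hs => hu s (List.mem_reverse.1 hs), ?_⟩
  have := inv_mem_cell P h
  simpa [word_reverse] using this

/-- An element with no right descent in `K` is the only representative of its `P_K`-coset with
that property, up to `B`. -/
theorem mem_B_of_asc {K : Set P.S} {g p : G} (hp : p ∈ par P K) {w w' : Weyl P} (hg : g ∈ cell P w)
    (hgp : g * p ∈ cell P w') (hw : Asc P ∅ K w) (hw' : Asc P ∅ K w') : p ∈ P.B := by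
  obtain ⟨u, hu, hu'⟩ := exists_mul_par_mem P hp hg
  have e1 : w' = word P [] * w * word P u := by
    rw [word_nil, one_mul]; exact cell_disjoint P hgp hu'
  obtain rfl := Asc.eq P hw hw' (by simp) hu e1
  obtain ⟨l, hl, hpl⟩ := exists_word_par P hp
  obtain ⟨a, c, ha, -, e, hlen⟩ :=
    DMin.exists_additive P (Asc.dmin P hw) (u := []) (by simp) hl
  obtain rfl : a = [] := List.eq_nil_iff_forall_not_mem.2 fun s hs => ha s hs
  simp only [word_nil, one_mul, mul_right_inj, List.length_nil, zero_add] at e hlen
  have hle : len P (word P l) ≤ c.length := by rw [e]; exact len_word_le P c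
  have hadd : len P (w' * word P l) = len P w' + len P (word P l) := by
    have := len_mul_le P w' (word P l)
    omega
  have h2 := cell_disjoint P hgp (mul_mem_of_additive P hadd hg hpl)
  have h3 : word P l = 1 := mul_left_cancel (a := w') (by rw [mul_one, ← h2])
  rwa [h3, mem_cell_one] at hpl

/-! ### The element without ascents -/

/-- No right ascent. -/
def NoAsc (w : Weyl P) : Prop := ∀ s : P.S, ¬ len P w < len P (w * refl P s)

theorem exists_factor_of_noLeftAsc {w : Weyl P} (h : ∀ s : P.S, ¬ len P w < len P (refl P s * w)) :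
    ∀ r : List P.S, len P (word P r) = r.length →
      ∃ a, w = word P r * a ∧ len P w = r.length + len P a := by
  intro r
  induction r with
  | nil => intro _; exact ⟨w, by simp, by simp⟩
  | cons t r ih =>
    intro hr
    rw [word_cons] at hr
    simp only [List.length_cons] at hr
    have hr' : len P (word P r) = r.length := by
      have := len_word_le P r
      have := len_refl_mul_le P t (word P r)
      omega
    obtain ⟨a, rfl, hlen⟩ := ih hr'
    obtain ⟨α, rfl, hα⟩ := exists_reduced P a
    have hw : word P (r ++ α) = word P r * word P α := word_append P r α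
    obtain ⟨i, hi, hi'⟩ := exchange P t (r ++ α) (by rw [hw, List.length_append]; omega)
      (by rw [hw, List.length_append]; have := h t; omega)
    rw [List.length_append] at hi
    rw [hw] at hi'
    by_cases hir : i < r.length
    · exfalso
      rw [List.eraseIdx_append_of_lt_length hir, word_append, ← mul_assoc] at hi'
      have e := mul_right_cancel hi'
      have h1 := len_word_le P (r.eraseIdx i)
      rw [← e, List.length_eraseIdx, if_pos hir] at h1
      omega
    · rw [List.eraseIdx_append_of_length_le (not_lt.1 hir), word_append] at hi'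
      refine ⟨word P (α.eraseIdx (i - r.length)), ?_, ?_⟩
      · rw [word_cons, mul_assoc, ← hi', refl_cancel_left]
      · have e : word P r * word P α = refl P t * word P r * word P (α.eraseIdx (i - r.length)) := by
          rw [mul_assoc, ← hi', refl_cancel_left]
        have h1 := len_mul_le P (refl P t * word P r) (word P (α.eraseIdx (i - r.length)))
        have h2 := len_word_le P (α.eraseIdx (i - r.length))
        rw [List.length_eraseIdx, if_pos (by omega)] at h2
        rw [← e] at h1
        simp only [List.length_cons]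
        omega

theorem noLeftAsc_unique {w w' : Weyl P} (h : ∀ s : P.S, ¬ len P w < len P (refl P s * w))
    (h' : ∀ s : P.S, ¬ len P w' < len P (refl P s * w')) : w = w' := by
  obtain ⟨r, hr, hrl⟩ := exists_reduced P w'
  obtain ⟨a, e, hlen⟩ := exists_factor_of_noLeftAsc P h r (by rw [hr, hrl])
  obtain ⟨r', hr', hrl'⟩ := exists_reduced P w
  obtain ⟨a', e', hlen'⟩ := exists_factor_of_noLeftAsc P h' r' (by rw [hr', hrl'])
  have ha : len P a = 0 := by omega
  rw [(len_eq_zero P).1 ha, mul_one, hr] at e
  exact e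

theorem NoAsc.unique {w w' : Weyl P} (h : NoAsc P w) (h' : NoAsc P w') : w = w' := by
  refine inv_injective (noLeftAsc_unique P (fun s hs => h s ?_) fun s hs => h' s ?_)
  · rwa [← len_inv P w, ← len_inv P (w * refl P s), mul_inv_rev, refl_inv]
  · rwa [← len_inv P w', ← len_inv P (w' * refl P s), mul_inv_rev, refl_inv]

variable [Finite G]

theorem exists_noAsc : ∃ w, NoAsc P w ∧ ∀ s : P.S, ¬ len P w < len P (refl P s * w) := by
  obtain ⟨w, hw⟩ := Finite.exists_max (len P)
  exact ⟨w, fun s => not_lt.2 (hw _), fun s => not_lt.2 (hw _)⟩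

theorem NoAsc.noLeftAsc {w : Weyl P} (h : NoAsc P w) (s : P.S) :
    ¬ len P w < len P (refl P s * w) := by
  obtain ⟨v, hv, hv'⟩ := exists_noAsc P
  rw [NoAsc.unique P h hv]
  exact hv' s

/-! ### Cosets -/

/-- The index of the Bruhat cell of an element. -/
noncomputable def wIdx (g : G) : Weyl P := Classical.choose (exists_cell P g)

omit [Finite G] in
theorem mem_cell_wIdx (g : G) : g ∈ cell P (wIdx P g) := Classical.choose_spec (exists_cell P g)

omit [Finite G] in
theorem wIdx_eq {g : G} {w : Weyl P} (h : g ∈ cell P w) : wIdx P g = w :=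
  cell_disjoint P (mem_cell_wIdx P g) h

/-- The index of the Bruhat cell of a coset of `B`. -/
noncomputable def qIdx (y : G ⧸ P.B) : Weyl P :=
  Quotient.liftOn' y (wIdx P) fun a b h => (wIdx_eq P (by
    have e := QuotientGroup.leftRel_apply.1 h
    simpa using mul_mem_cell P (mem_cell_wIdx P b) P.B.one_mem (P.B.inv_mem e))).symm ▸ rfl

omit [Finite G] in
theorem qIdx_mk (g : G) : qIdx P (g : G ⧸ P.B) = wIdx P g := rfl

theorem card_fixedBy_par (K : Set P.S) (b : P.B) :
    Nat.card (MulAction.fixedBy (G ⧸ par P K) (b : G)) =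
      Nat.card {y : G ⧸ P.B // (b : G) • y = y ∧ Asc P ∅ K (qIdx P y)} := by
  classical
  have inj : ∀ g g' : G, Asc P ∅ K (wIdx P g) → Asc P ∅ K (wIdx P g') →
      (g : G ⧸ par P K) = (g' : G ⧸ par P K) → (g : G ⧸ P.B) = (g' : G ⧸ P.B) := by
    intro g g' h h' e
    rw [QuotientGroup.eq] at e ⊢
    refine mem_B_of_asc P e (mem_cell_wIdx P g) ?_ h h'
    rw [mul_inv_cancel_left]
    exact mem_cell_wIdx P g'
  let f : {y : G ⧸ P.B // (b : G) • y = y ∧ Asc P ∅ K (qIdx P y)} →
      MulAction.fixedBy (G ⧸ par P K) (b : G) :=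
    fun y => ⟨Subgroup.quotientMapOfLE (B_le_par P K) y.1, by
      obtain ⟨y, hy, -⟩ := y
      obtain ⟨g, rfl⟩ := QuotientGroup.mk_surjective y
      rw [MulAction.mem_fixedBy]
      exact congrArg (Subgroup.quotientMapOfLE (B_le_par P K)) hy⟩
  refine (Nat.card_eq_of_bijective f ⟨?_, ?_⟩).symm
  · rintro ⟨y, hy, ha⟩ ⟨y', hy', ha'⟩ e
    obtain ⟨g, rfl⟩ := QuotientGroup.mk_surjective y
    obtain ⟨g', rfl⟩ := QuotientGroup.mk_surjective y'
    exact Subtype.ext (inj g g' ha ha' (congrArg Subtype.val e))
  · rintro ⟨x, hx⟩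
    obtain ⟨g, rfl⟩ := QuotientGroup.mk_surjective x
    obtain ⟨m, hm, u, v, hu, hv, e⟩ := exists_dmin P ∅ K (wIdx P g)
    obtain rfl : u = [] := List.eq_nil_iff_forall_not_mem.2 fun s hs => hu s hs
    rw [word_nil, one_mul] at e
    obtain ⟨a, ha, c, hc, rfl⟩ := exists_factor P (e ▸ mem_cell_wIdx P g)
    have hasc : Asc P ∅ K (wIdx P a) := (wIdx_eq P ha).symm ▸ DMin.asc P hm
    have hac : ((a * c : G) : G ⧸ par P K) = (a : G ⧸ par P K) := by
      rw [QuotientGroup.eq]
      have := mem_par_of_cell P hv hc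
      simpa [mul_assoc] using (par P K).inv_mem this
    rw [MulAction.mem_fixedBy, hac] at hx
    have hbcell : wIdx P ((b : G) * a) = wIdx P a := by
      refine wIdx_eq P ?_
      simpa using mul_mem_cell P (mem_cell_wIdx P a) b.2 P.B.one_mem
    refine ⟨⟨(a : G ⧸ P.B), ?_, hasc⟩, Subtype.ext hac.symm⟩
    exact inj _ _ (hbcell.symm ▸ hasc) hasc hx

/-- The representatives of the double cosets `P_J \ G / P_K`. -/
theorem card_orbits (J K : Set P.S) :
    Nat.card (Quotient (MulAction.orbitRel G ((G ⧸ par P J) × (G ⧸ par P K)))) =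
      Nat.card {w : Weyl P // Asc P J K w} := by
  classical
  have hn : ∀ w : Weyl P, ∃ g, g ∈ cell P w := cell_nonempty P
  choose n hn using hn
  let f : {w : Weyl P // Asc P J K w} →
      Quotient (MulAction.orbitRel G ((G ⧸ par P J) × (G ⧸ par P K))) :=
    fun w => Quotient.mk'' (((1 : G) : G ⧸ par P J), ((n w.1 : G) : G ⧸ par P K))
  refine (Nat.card_eq_of_bijective f ⟨?_, ?_⟩).symm
  · rintro ⟨w, hw⟩ ⟨w', hw'⟩ e
    obtain ⟨p, hp⟩ := Quotient.eq''.1 e
    have h1 : p ∈ par P J := by
      have h := congrArg Prod.fst hp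
      simp only [Prod.smul_fst, MulAction.Quotient.smul_coe, smul_eq_mul, QuotientGroup.eq] at h
      simpa using (par P J).inv_mem h
    have h2 : (p * n w')⁻¹ * n w ∈ par P K := by
      have h := congrArg Prod.snd hp
      simp only [Prod.smul_snd, MulAction.Quotient.smul_coe, smul_eq_mul, QuotientGroup.eq] at h
      exact h
    obtain ⟨u, hu, hu'⟩ := exists_par_mul_mem P h1 (hn w')
    obtain ⟨v, hv, hv'⟩ := exists_mul_par_mem P h2 hu'
    rw [mul_inv_cancel_left] at hv'
    exact Subtype.ext (Asc.eq P hw' hw hu hv (cell_disjoint P (hn w) hv'))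
  · intro q
    induction q using Quotient.inductionOn' with
    | h z =>
      obtain ⟨x, y⟩ := z
      obtain ⟨x, rfl⟩ := QuotientGroup.mk_surjective x
      obtain ⟨y, rfl⟩ := QuotientGroup.mk_surjective y
      obtain ⟨m, hm, u, v, hu, hv, e⟩ := exists_dmin P J K (wIdx P (x⁻¹ * y))
      obtain ⟨ab, hab, c, hc, e1⟩ := exists_factor P (e ▸ mem_cell_wIdx P (x⁻¹ * y))
      obtain ⟨a, ha, b, hb, rfl⟩ := exists_factor P hab
      obtain ⟨b1, hb1, b2, hb2, e2⟩ := exists_of_mem_cell P hb (hn m)
      refine ⟨⟨m, DMin.asc P hm⟩, Quotient.eq''.2 ⟨(x * a * b1)⁻¹, ?_⟩⟩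
      have hA : a * b1 ∈ par P J :=
        (par P J).mul_mem (mem_par_of_cell P hu ha) (B_le_par P J hb1)
      have hC : b2 * c ∈ par P K :=
        (par P K).mul_mem (B_le_par P K hb2) (mem_par_of_cell P hv hc)
      have e3 : y = x * a * b1 * n m * (b2 * c) := by
        calc y = x * (x⁻¹ * y) := by group
          _ = _ := by rw [e1, e2]; group
      refine Prod.ext ?_ ?_
      · simp only [Prod.smul_fst, MulAction.Quotient.smul_coe, smul_eq_mul, QuotientGroup.eq]
        have : ((x * a * b1)⁻¹ * x)⁻¹ * 1 = a * b1 := by group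
        rwa [this]
      · simp only [Prod.smul_snd, MulAction.Quotient.smul_coe, smul_eq_mul, QuotientGroup.eq]
        have : ((x * a * b1)⁻¹ * y)⁻¹ * n m = (b2 * c)⁻¹ := by rw [e3]; group
        rw [this]
        exact (par P K).inv_mem hC

/-! ### The character -/

variable [Fintype P.S]

/-- The alternating sum of the permutation characters on the standard parabolic subgroups. -/
noncomputable def st (g : G) : ℂ :=
  ∑ J : Finset P.S, (-1 : ℂ) ^ J.card * fixedPointCharacter (par P (J : Set P.S)) g

omit [Finite G] in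
theorem sum_neg_one_pow_filter (p : P.S → Prop) [∀ J : Finset P.S, Decidable (∀ s ∈ J, p s)]
    [Decidable (∀ s, ¬ p s)] :
    ∑ J : Finset P.S, (if ∀ s ∈ J, p s then (-1 : ℂ) ^ J.card else 0) =
      if ∀ s, ¬ p s then 1 else 0 := by
  classical
  rw [← Finset.sum_filter (s := Finset.univ) (fun J : Finset P.S => ∀ s ∈ J, p s)]
  have e : (Finset.univ : Finset (Finset P.S)).filter (fun J => ∀ s ∈ J, p s) =
      (Finset.univ.filter p).powerset := by
    ext J
    simp [Finset.subset_iff]
  rw [e]
  have h := congrArg (fun z : ℤ => (z : ℂ))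
    (Finset.sum_powerset_neg_one_pow_card (x := Finset.univ.filter p))
  simp only [Int.cast_sum, Int.cast_pow, Int.cast_neg, Int.cast_one, Int.cast_ite, Int.cast_zero,
    Finset.filter_eq_empty_iff, Finset.mem_univ, true_implies] at h
  exact h

/-- On `B` the character counts the fixed cosets of `B` in the longest cell. -/
theorem st_eq_card (b : P.B) :
    st P (b : G) = Nat.card {y : G ⧸ P.B // (b : G) • y = y ∧ NoAsc P (qIdx P y)} := by
  classical
  haveI := Fintype.ofFinite (G ⧸ P.B)
  simp only [st, fixedPointCharacter, card_fixedBy_par, Nat.card_eq_fintype_card,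
    Fintype.card_subtype, Finset.card_filter, Nat.cast_sum, Nat.cast_ite, Nat.cast_one,
    Nat.cast_zero, Finset.mul_sum, mul_ite, mul_one, mul_zero]
  rw [Finset.sum_comm]
  refine Finset.sum_congr rfl fun y _ => ?_
  by_cases hy : (b : G) • y = y
  · simp only [hy, true_and, Asc, Set.mem_empty_iff_false, false_implies, implies_true,
      Finset.mem_coe]
    refine (sum_neg_one_pow_filter P
      (fun s => len P (qIdx P y) < len P (qIdx P y * refl P s))).trans ?_
    by_cases h : NoAsc P (qIdx P y)
    · rw [if_pos h, if_pos (show ∀ s : P.S, ¬ len P (qIdx P y) < len P (qIdx P y * refl P s) from h)]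
    · rw [if_neg h,
        if_neg (show ¬ ∀ s : P.S, ¬ len P (qIdx P y) < len P (qIdx P y * refl P s) from h)]
  · simp [hy]

/-- The restriction to `B` is a permutation character. -/
theorem st_restrict {n : P.N} (hn : NoAsc P (QuotientGroup.mk n)) (b : P.B) :
    st P (b : G) =
      fixedPointCharacter ((MulAction.stabilizer G ((n : G) : G ⧸ P.B)).subgroupOf P.B) b := by
  classical
  set y0 : G ⧸ P.B := ((n : G) : G ⧸ P.B)
  set L := (MulAction.stabilizer G y0).subgroupOf P.B
  rw [st_eq_card, fixedPointCharacter, Nat.cast_inj]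
  let f : P.B ⧸ L → G ⧸ P.B := fun x => Quotient.liftOn' x (fun c => (c : G) • y0) fun c d h => by
    have e := QuotientGroup.leftRel_apply.1 h
    rw [Subgroup.mem_subgroupOf, MulAction.mem_stabilizer_iff] at e
    simp only [Subgroup.coe_mul, InvMemClass.coe_inv, mul_smul, inv_smul_eq_iff] at e
    exact e.symm
  have hf : ∀ c : P.B, f (c : P.B ⧸ L) = (c : G) • y0 := fun c => rfl
  have finj : Function.Injective f := by
    intro x x' e
    obtain ⟨c, rfl⟩ := QuotientGroup.mk_surjective x
    obtain ⟨d, rfl⟩ := QuotientGroup.mk_surjective x'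
    rw [hf, hf] at e
    rw [QuotientGroup.eq, Subgroup.mem_subgroupOf, MulAction.mem_stabilizer_iff]
    simp only [Subgroup.coe_mul, InvMemClass.coe_inv, mul_smul, inv_smul_eq_iff, e]
  have fequiv : ∀ x, f (b • x) = (b : G) • f x := by
    intro x
    obtain ⟨c, rfl⟩ := QuotientGroup.mk_surjective x
    rw [MulAction.Quotient.smul_coe, hf, hf, smul_eq_mul, Subgroup.coe_mul, mul_smul]
  have frange : ∀ x, NoAsc P (qIdx P (f x)) := by
    intro x
    obtain ⟨c, rfl⟩ := QuotientGroup.mk_surjective x
    rw [hf, MulAction.Quotient.smul_coe, qIdx_mk, wIdx_eq P (w := QuotientGroup.mk n)]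
    · exact hn
    · simpa using mul_mem_cell P (mem_cell_self P n) c.2 P.B.one_mem
  let F : MulAction.fixedBy (P.B ⧸ L) b →
      {y : G ⧸ P.B // (b : G) • y = y ∧ NoAsc P (qIdx P y)} :=
    fun x => ⟨f x.1, by rw [← fequiv, x.2], frange _⟩
  refine (Nat.card_eq_of_bijective F ⟨fun x x' e => Subtype.ext (finj (congrArg Subtype.val e)),
    ?_⟩).symm
  rintro ⟨y, hy, hy'⟩
  obtain ⟨g, rfl⟩ := QuotientGroup.mk_surjective y
  rw [qIdx_mk] at hy'
  have e := NoAsc.unique P hn hy'
  obtain ⟨b1, hb1, b2, hb2, e2⟩ :=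
    exists_of_mem_cell P (mem_cell_wIdx P g) (e ▸ mem_cell_self P n)
  have hg : f ((⟨b1, hb1⟩ : P.B) : P.B ⧸ L) = (g : G ⧸ P.B) := by
    rw [hf, MulAction.Quotient.smul_coe, QuotientGroup.eq, smul_eq_mul, e2]
    have : (b1 * (n : G))⁻¹ * (b1 * n * b2) = b2 := by group
    rwa [this]
  refine ⟨⟨((⟨b1, hb1⟩ : P.B) : P.B ⧸ L), finj ?_⟩, Subtype.ext ?_⟩
  · rw [fequiv, hg, hy]
  · exact hg

theorem isGeneralizedCharacter_st : IsGeneralizedCharacter G (st P) := by
  classical
  have e : st P = ∑ J : Finset P.S,
      (((-1 : ℤ) ^ J.card : ℤ) : ℂ) • fixedPointCharacter (par P (J : Set P.S)) := by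
    funext g
    simp [st, Finset.sum_apply]
  rw [e]
  exact Char.IsGeneralizedCharacter.sum _ fun J _ =>
    Char.IsGeneralizedCharacter.intCast_smul
      (Char.IsCharacter.isGeneralized (Char.isCharacter_fixedBy (G ⧸ par P (J : Set P.S)))) _

theorem classInner_fixed [Fintype G] (J K : Set P.S) :
    classInner (fixedPointCharacter (par P J)) (fixedPointCharacter (par P K)) =
      Nat.card {w : Weyl P // Asc P J K w} := by
  rw [← card_orbits, ← Char.classInner_fixedBy_one]
  simp only [classInner, fixedPointCharacter, map_natCast, map_one, mul_one]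
  congr 1
  refine Finset.sum_congr rfl fun g _ => ?_
  rw [← Nat.cast_mul, ← Nat.card_prod]
  congr 1
  exact Nat.card_congr
    { toFun := fun p => ⟨(p.1.1, p.2.1), Prod.ext p.1.2 p.2.2⟩
      invFun := fun p => (⟨p.1.1, congrArg Prod.fst p.2⟩, ⟨p.1.2, congrArg Prod.snd p.2⟩)
      left_inv := fun _ => rfl
      right_inv := fun _ => rfl }

theorem classInner_st [Fintype G] : classInner (st P) (st P) = 1 := by
  classical
  haveI : Fintype (Weyl P) := Fintype.ofFinite _
  have step : classInner (st P) (st P) = ∑ J : Finset P.S, ∑ K : Finset P.S,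
      (-1 : ℂ) ^ J.card * (-1 : ℂ) ^ K.card *
        classInner (fixedPointCharacter (par P (J : Set P.S)))
          (fixedPointCharacter (par P (K : Set P.S))) := by
    simp only [classInner, st, map_sum, Finset.sum_mul, Finset.mul_sum]
    rw [Finset.sum_comm]
    conv_rhs => rw [Finset.sum_comm]
    refine Finset.sum_congr rfl fun J _ => ?_
    rw [Finset.sum_comm]
    refine Finset.sum_congr rfl fun K _ => Finset.sum_congr rfl fun g _ => ?_
    simp only [map_mul, map_pow, map_neg, map_one]
    ring
  rw [step]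
  simp only [classInner_fixed, Nat.card_eq_fintype_card, Fintype.card_subtype, Finset.card_filter,
    Nat.cast_sum, Nat.cast_ite, Nat.cast_one, Nat.cast_zero, Finset.mul_sum]
  rw [Finset.sum_congr rfl fun J _ => Finset.sum_comm, Finset.sum_comm]
  obtain ⟨w0, hw0, hw0'⟩ := exists_noAsc P
  have main : ∀ w : Weyl P, (∑ J : Finset P.S, ∑ K : Finset P.S,
      (-1 : ℂ) ^ J.card * (-1 : ℂ) ^ K.card *
        if Asc P (J : Set P.S) (K : Set P.S) w then (1 : ℂ) else 0) = if w = w0 then 1 else 0 := by
    intro w
    have e : ∀ J K : Finset P.S, ((-1 : ℂ) ^ J.card * (-1 : ℂ) ^ K.card *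
        if Asc P (J : Set P.S) (K : Set P.S) w then (1 : ℂ) else 0) =
        (if ∀ s ∈ J, len P w < len P (refl P s * w) then (-1 : ℂ) ^ J.card else 0) *
        (if ∀ s ∈ K, len P w < len P (w * refl P s) then (-1 : ℂ) ^ K.card else 0) := by
      intro J K
      simp only [Asc, Finset.mem_coe]
      split_ifs with h1 h2 h3 h4 h5
      all_goals first
        | tauto
        | simp
    simp only [e]
    rw [← Finset.sum_mul_sum, sum_neg_one_pow_filter, sum_neg_one_pow_filter]
    by_cases hw : w = w0
    · subst hw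
      have hw1 : ∀ s : P.S, ¬ len P w < len P (w * refl P s) := hw0
      rw [if_pos rfl, if_pos hw0', if_pos hw1, one_mul]
    · have : ¬ ∀ s : P.S, ¬ len P w < len P (w * refl P s) :=
        fun h => hw (NoAsc.unique P h hw0)
      rw [if_neg this, if_neg hw, mul_zero]
  rw [Finset.sum_congr rfl fun w _ => main w, Finset.sum_ite_eq' Finset.univ w0]
  simp

theorem st_one {n : P.N} (hn : NoAsc P (QuotientGroup.mk n)) :
    st P 1 = (((MulAction.stabilizer G ((n : G) : G ⧸ P.B)).subgroupOf P.B).index : ℂ) := by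
  have h := st_restrict P hn 1
  rw [Subgroup.coe_one] at h
  rw [h, fixedPointCharacter, Subgroup.index, Nat.cast_inj]
  exact Nat.card_congr (Equiv.subtypeUnivEquiv fun x => one_smul _ x)

theorem isIrrCharacter_st : IsIrrCharacter G (st P) := by
  classical
  haveI := Fintype.ofFinite G
  obtain ⟨ψ, hψ | hψ⟩ :=
    Char.IsGeneralizedCharacter.irr_or_neg_of_norm_one (isGeneralizedCharacter_st P) (classInner_st P)
  · rw [hψ]; exact ψ.2
  · exfalso
    obtain ⟨w, hw, -⟩ := exists_noAsc P
    obtain ⟨n, rfl⟩ := QuotientGroup.mk_surjective w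
    obtain ⟨d, hd, hd1⟩ := Char.IsIrrCharacter.exists_degree ψ.2
    have h1 := congrFun hψ 1
    rw [st_one P hw, Pi.neg_apply, hd1] at h1
    have h2 : ((((MulAction.stabilizer G ((n : G) : G ⧸ P.B)).subgroupOf P.B).index + d : ℕ) : ℂ) = 0 := by
      rw [Nat.cast_add, h1, neg_add_cancel]
    rw [Nat.cast_eq_zero] at h2
    omega

end Cfsg.Agent.BN
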