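/-
Steinberg's count of the p-elements of a finite group with a split (B,N)-pair of characteristic p: there are
|U|² of them, U the Sylow p-subgroup of B. The parabolic subgroups are treated by induction with the
alternating sum of the permutation characters on their cosets.
-/
import Cfsg.Agent.Lib.BNPair.Steinberg
import Mathlib.GroupTheory.Sylow

set_option autoImplicit false
set_option linter.style.haveILetI false
set_option linter.unusedSectionVars false

namespace Cfsg.Agent.BN

open Cfsg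

universe u

variable {G : Type u} [Group G] (P : BNPair G)

/-! ### The longest element of a parabolic subgroup of the Weyl group -/

/-- Spelled by a word in `J`. -/
def InW (J : Set P.S) (w : Weyl P) : Prop := ∃ l : List P.S, (∀ s ∈ l, s ∈ J) ∧ word P l = w

/-- No element of `J` lengthens `w` on the right. -/
def Desc (J : Set P.S) (w : Weyl P) : Prop := ∀ s ∈ J, ¬ len P w < len P (w * refl P s)

variable {P} in
theorem InW.inv {J : Set P.S} {w : Weyl P} (h : InW P J w) : InW P J w⁻¹ := by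
  obtain ⟨l, hl, rfl⟩ := h
  exact ⟨l.reverse, fun s hs => hl s (List.mem_reverse.1 hs), word_reverse P l⟩

variable {P} in
theorem InW.mul {J : Set P.S} {w v : Weyl P} (h : InW P J w) (h' : InW P J v) : InW P J (w * v) := by
  obtain ⟨l, hl, rfl⟩ := h
  obtain ⟨l', hl', rfl⟩ := h'
  refine ⟨l ++ l', fun s hs => ?_, word_append P l l'⟩
  rcases List.mem_append.1 hs with h | h
  exacts [hl s h, hl' s h]

theorem inW_refl {J : Set P.S} {s : P.S} (hs : s ∈ J) : InW P J (refl P s) :=
  ⟨[s], by simpa using hs, word_singleton P s⟩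

theorem exists_factor_of_leftDesc {J : Set P.S} {w : Weyl P}
    (h : ∀ s ∈ J, ¬ len P w < len P (refl P s * w)) :
    ∀ r : List P.S, (∀ s ∈ r, s ∈ J) → len P (word P r) = r.length →
      ∃ a, w = word P r * a ∧ len P w = r.length + len P a := by
  intro r
  induction r with
  | nil => intro _ _; exact ⟨w, by simp, by simp⟩
  | cons t r ih =>
    intro hJ hr
    rw [word_cons] at hr
    simp only [List.length_cons] at hr
    have hr' : len P (word P r) = r.length := by
      have := len_word_le P r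
      have := len_refl_mul_le P t (word P r)
      omega
    obtain ⟨a, rfl, hlen⟩ := ih (fun s hs => hJ s (List.mem_cons_of_mem _ hs)) hr'
    obtain ⟨α, rfl, hα⟩ := exists_reduced P a
    have hw : word P (r ++ α) = word P r * word P α := word_append P r α
    obtain ⟨i, hi, hi'⟩ := exchange P t (r ++ α) (by rw [hw, List.length_append]; omega)
      (by rw [hw, List.length_append]; have := h t (hJ t List.mem_cons_self); omega)
    rw [List.length_append] at hi
    rw [hw] at hi'
    by_cases hir : i < r.length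
    · exfalso
      rw [List.eraseIdx_append_of_lt_length hir, word_append, ← mul_assoc] at hi'
      have e := mul_right_cancel hi'
      have h1 := len_word_le P (r.eraseIdx i)
      rw [← e, List.length_eraseIdx, if_pos hir] at h1
      omega
    · rw [List.eraseIdx_append_of_length_le (not_lt.1 hir), word_append] at hi'
      refine ⟨word P (α.eraseIdx (i - r.length)), ?_, ?_⟩
      · rw [word_cons, mul_assoc, ← hi', refl_cancel_left]
      · have e : word P r * word P α = refl P t * word P r * word P (α.eraseIdx (i - r.length)) := by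
          rw [mul_assoc, ← hi', refl_cancel_left]
        have h1 := len_mul_le P (refl P t * word P r) (word P (α.eraseIdx (i - r.length)))
        have h2 := len_word_le P (α.eraseIdx (i - r.length))
        rw [List.length_eraseIdx, if_pos (by omega)] at h2
        rw [← e] at h1
        simp only [List.length_cons]
        omega

theorem exists_factor_InW {J : Set P.S} {w x : Weyl P}
    (h : ∀ s ∈ J, ¬ len P w < len P (refl P s * w)) (hx : InW P J x) :
    ∃ a, w = x * a ∧ len P w = len P x + len P a := by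
  obtain ⟨l, hl, rfl⟩ := hx
  obtain ⟨r, hr, hrw, hrl⟩ := exists_reduced_sublist P l hl
  obtain ⟨a, e, hlen⟩ := exists_factor_of_leftDesc P h r hr (by rw [hrw, hrl])
  exact ⟨a, by rw [← hrw, ← e], by rw [hrl, hlen]⟩

theorem leftDesc_unique {J : Set P.S} {w w' : Weyl P} (hw : InW P J w) (hw' : InW P J w')
    (h : ∀ s ∈ J, ¬ len P w < len P (refl P s * w))
    (h' : ∀ s ∈ J, ¬ len P w' < len P (refl P s * w')) : w = w' := by
  obtain ⟨a, e, hlen⟩ := exists_factor_InW P h hw'
  obtain ⟨a', e', hlen'⟩ := exists_factor_InW P h' hw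
  have ha : len P a = 0 := by omega
  rwa [(len_eq_zero P).1 ha, mul_one] at e

theorem Desc.unique {J : Set P.S} {w w' : Weyl P} (hw : InW P J w) (hw' : InW P J w')
    (h : Desc P J w) (h' : Desc P J w') : w = w' := by
  refine inv_injective (leftDesc_unique P hw.inv hw'.inv (fun s hs hlt => h s hs ?_)
    fun s hs hlt => h' s hs ?_)
  · rwa [← len_inv P w, ← len_inv P (w * refl P s), mul_inv_rev, refl_inv]
  · rwa [← len_inv P w', ← len_inv P (w' * refl P s), mul_inv_rev, refl_inv]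

theorem len_mul_of_asc {K : Set P.S} {m u : Weyl P} (hm : Asc P ∅ K m) (hu : InW P K u) :
    len P (m * u) = len P m + len P u := by
  obtain ⟨l, hl, rfl⟩ := hu
  obtain ⟨a, c, ha, -, e, hlen⟩ :=
    DMin.exists_additive P (Asc.dmin P hm) (u := []) (by simp) hl
  obtain rfl : a = [] := List.eq_nil_iff_forall_not_mem.2 fun s hs => ha s hs
  simp only [word_nil, one_mul, mul_right_inj, List.length_nil, zero_add] at e hlen
  have hle : len P (word P l) ≤ c.length := by rw [e]; exact len_word_le P c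
  have := len_mul_le P m (word P l)
  omega

theorem desc_mul_iff {K : Set P.S} {m u : Weyl P} (hm : Asc P ∅ K m) (hu : InW P K u) :
    Desc P K (m * u) ↔ Desc P K u := by
  refine forall₂_congr fun s hs => not_congr ?_
  rw [mul_assoc, len_mul_of_asc P hm hu, len_mul_of_asc P hm (hu.mul (inW_refl P hs))]
  omega

/-! ### Uniqueness of factorisations -/

theorem mem_B_of_mul_eq {x y : Weyl P} (h : len P (x * y) = len P x + len P y) {a a' z z' : G}
    (ha : a ∈ cell P x) (ha' : a' ∈ cell P x) (hz : z ∈ cell P y) (hz' : z' ∈ cell P y)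
    (e : a * z = a' * z') : a⁻¹ * a' ∈ P.B := by
  obtain ⟨l, rfl, hl⟩ := exists_reduced P x
  induction l generalizing a a' z z' with
  | nil =>
    rw [word_nil] at ha ha'
    exact P.B.mul_mem (P.B.inv_mem ((mem_cell_one P).1 ha)) ((mem_cell_one P).1 ha')
  | cons s l ih =>
    rw [word_cons] at ha ha' hl h
    simp only [List.length_cons] at hl
    obtain ⟨a1, ha1, a2, ha2, rfl⟩ := exists_factor P ha
    obtain ⟨b1, hb1, b2, hb2, rfl⟩ := exists_factor P ha'
    have h1 := len_word_le P l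
    have h2 := len_mul_le P (word P l) y
    have h3 := len_refl_mul_le P s (word P l * y)
    have h5 := len_refl_mul_le P s (word P l)
    rw [mul_assoc] at h
    have h4 : len P (word P l * y) = len P (word P l) + len P y := by omega
    have hc1 := mul_mem_of_additive P h4 ha2 hz
    have hc2 := mul_mem_of_additive P h4 hb2 hz'
    have e' : a2 * z = a1⁻¹ * b1 * (b2 * z') := by
      calc a2 * z = a1⁻¹ * (a1 * a2 * z) := by group
        _ = _ := by rw [e]; group
    have hb : a1⁻¹ * b1 ∈ P.B := by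
      have hi : a1⁻¹ ∈ cell P (refl P s) := by simpa [refl_inv] using inv_mem_cell P ha1
      rcases mul_mem_or P hi hb1 with hc | hc
      · rwa [refl_mul_self, mem_cell_one] at hc
      · exfalso
        have h6 := mul_mem_of_len_le P (s := s) (w := word P l * y) (by omega) hc hc2
        rw [← e'] at h6
        exact refl_ne_one P s (mul_eq_right.1 (cell_disjoint P h6 hc1))
    have hb2' : a1⁻¹ * b1 * b2 ∈ cell P (word P l) := by
      simpa using mul_mem_cell P hb2 hb P.B.one_mem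
    have := ih hz hz' (e'.trans (mul_assoc _ _ _).symm) h4 ha2 hb2' (by omega)
    simpa [mul_assoc] using this

/-- An element of `B` fixing a chamber fixes the prefixes of its gallery. -/
theorem conj_mem_B_of_prefix {x y : Weyl P} (h : len P (x * y) = len P x + len P y) {a z v : G}
    (ha : a ∈ cell P x) (hz : z ∈ cell P y) (hv : v ∈ P.B)
    (hfix : (a * z)⁻¹ * v * (a * z) ∈ P.B) : a⁻¹ * v * a ∈ P.B := by
  have h1 : v * a ∈ cell P x := by simpa using mul_mem_cell P ha hv P.B.one_mem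
  have h2 : z * ((a * z)⁻¹ * v * (a * z))⁻¹ ∈ cell P y := by
    simpa using mul_mem_cell P hz P.B.one_mem (P.B.inv_mem hfix)
  have := mem_B_of_mul_eq P h ha h1 hz h2 (by group)
  simpa [mul_assoc] using this

/-! ### Cosets inside a parabolic subgroup -/

theorem mk_out {H : Subgroup G} (y : G ⧸ H) : ((y.out : G) : G ⧸ H) = y := Quotient.out_eq' y

theorem conj_out_smul {H : Subgroup G} (y : G ⧸ H) {h : G} (hh : h ∈ H) :
    (y.out * h * y.out⁻¹) • y = y := by
  obtain ⟨g, hg⟩ : ∃ g, g = y.out := ⟨_, rfl⟩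
  rw [← hg, ← mk_out y, ← hg, MulAction.Quotient.smul_coe, smul_eq_mul, QuotientGroup.eq]
  simpa [mul_assoc] using H.inv_mem hh

theorem par_mono {K J : Set P.S} (h : K ⊆ J) : par P K ≤ par P J :=
  sup_le_sup_left (Subgroup.closure_mono (Set.image_mono h)) _

theorem inW_wIdx {J : Set P.S} {g : G} (hg : g ∈ par P J) : InW P J (wIdx P g) := by
  obtain ⟨l, hl, h⟩ := exists_word_par P hg
  exact ⟨l, hl, (wIdx_eq P h).symm⟩

/-- A coset meeting `P_J`. -/
def InP (J : Set P.S) {H : Subgroup G} (x : G ⧸ H) : Prop :=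
  ∃ g ∈ par P J, (g : G ⧸ H) = x

theorem inP_mk {J : Set P.S} {H : Subgroup G} (hH : H ≤ par P J) {g : G} :
    InP P J (g : G ⧸ H) ↔ g ∈ par P J := by
  refine ⟨?_, fun h => ⟨g, h, rfl⟩⟩
  rintro ⟨g', hg', e⟩
  rw [QuotientGroup.eq] at e
  simpa using (par P J).mul_mem hg' (hH e)

theorem inP_smul {J : Set P.S} {H : Subgroup G} (hH : H ≤ par P J) {c : G} (hc : c ∈ par P J)
    (x : G ⧸ H) : InP P J (c • x) ↔ InP P J x := by
  obtain ⟨g, rfl⟩ := QuotientGroup.mk_surjective x
  rw [MulAction.Quotient.smul_coe, inP_mk P hH, inP_mk P hH, smul_eq_mul,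
    (par P J).mul_mem_cancel_left hc]

/-- A chamber of `P_J` in the cell of the longest element. -/
def Top (J : Set P.S) (y : G ⧸ P.B) : Prop := InP P J y ∧ Desc P J (qIdx P y)

theorem eq_of_asc_of_mk_eq {K : Set P.S} {g g' : G} (h : Asc P ∅ K (wIdx P g))
    (h' : Asc P ∅ K (wIdx P g')) (e : (g : G ⧸ par P K) = (g' : G ⧸ par P K)) :
    (g : G ⧸ P.B) = (g' : G ⧸ P.B) := by
  rw [QuotientGroup.eq] at e ⊢
  refine mem_B_of_asc P e (mem_cell_wIdx P g) ?_ h h'
  rw [mul_inv_cancel_left]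
  exact mem_cell_wIdx P g'

/-- Each coset of `P_K` has a unique shortest chamber. -/
theorem exists_asc_rep {K : Set P.S} (g : G) :
    ∃ a c : G, g = a * c ∧ Asc P ∅ K (wIdx P a) ∧ c ∈ par P K := by
  obtain ⟨m, hm, u, v, hu, hv, e⟩ := exists_dmin P ∅ K (wIdx P g)
  obtain rfl : u = [] := List.eq_nil_iff_forall_not_mem.2 fun s hs => hu s hs
  rw [word_nil, one_mul] at e
  obtain ⟨a, ha, c, hc, rfl⟩ := exists_factor P (e ▸ mem_cell_wIdx P g)
  exact ⟨a, c, rfl, (wIdx_eq P ha).symm ▸ DMin.asc P hm, mem_par_of_cell P hv hc⟩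

theorem card_fixed_asc {K J : Set P.S} (hKJ : K ⊆ J) {b : G} (hb : b ∈ P.B) :
    Nat.card {x : G ⧸ par P K // InP P J x ∧ b • x = x} =
      Nat.card {y : G ⧸ P.B // InP P J y ∧ b • y = y ∧ Asc P ∅ K (qIdx P y)} := by
  let f : {y : G ⧸ P.B // InP P J y ∧ b • y = y ∧ Asc P ∅ K (qIdx P y)} →
      {x : G ⧸ par P K // InP P J x ∧ b • x = x} :=
    fun y => ⟨Subgroup.quotientMapOfLE (B_le_par P K) y.1, by
      obtain ⟨y, hy1, hy, -⟩ := y
      obtain ⟨g, rfl⟩ := QuotientGroup.mk_surjective y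
      exact ⟨(inP_mk P (par_mono P hKJ)).2 ((inP_mk P (B_le_par P J)).1 hy1),
        congrArg (Subgroup.quotientMapOfLE (B_le_par P K)) hy⟩⟩
  refine (Nat.card_eq_of_bijective f ⟨?_, ?_⟩).symm
  · rintro ⟨y, hy1, hy, ha⟩ ⟨y', hy1', hy', ha'⟩ e
    obtain ⟨g, rfl⟩ := QuotientGroup.mk_surjective y
    obtain ⟨g', rfl⟩ := QuotientGroup.mk_surjective y'
    exact Subtype.ext (eq_of_asc_of_mk_eq P ha ha' (congrArg Subtype.val e))
  · rintro ⟨x, hx1, hx⟩
    obtain ⟨g, rfl⟩ := QuotientGroup.mk_surjective x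
    obtain ⟨a, c, rfl, ha, hc⟩ := exists_asc_rep P (K := K) g
    have hac : ((a * c : G) : G ⧸ par P K) = (a : G ⧸ par P K) := by
      rw [QuotientGroup.eq]
      simpa [mul_assoc] using (par P K).inv_mem hc
    rw [hac] at hx hx1
    have hba : wIdx P (b * a) = wIdx P a :=
      wIdx_eq P (by simpa using mul_mem_cell P (mem_cell_wIdx P a) hb P.B.one_mem)
    refine ⟨⟨(a : G ⧸ P.B), (inP_mk P (B_le_par P J)).2 ((inP_mk P (par_mono P hKJ)).1 hx1), ?_, ha⟩,
      Subtype.ext hac.symm⟩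
    exact eq_of_asc_of_mk_eq P (hba.symm ▸ ha) ha hx

/-- The chambers of `P_J` with all descents in `K`, grouped by cosets of `P_K`. -/
theorem card_desc_eq_mul {K J : Set P.S} (hKJ : K ⊆ J) :
    Nat.card {y : G ⧸ P.B // InP P J y ∧ Desc P K (qIdx P y)} =
      Nat.card {x : G ⧸ par P K // InP P J x} * Nat.card {z : G ⧸ P.B // Top P K z} := by
  have h1 : Nat.card {x : G ⧸ par P K // InP P J x} =
      Nat.card {y : G ⧸ P.B // InP P J y ∧ Asc P ∅ K (qIdx P y)} := by
    simpa using card_fixed_asc P hKJ P.B.one_mem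
  rw [h1, ← Nat.card_prod]
  have hmul : ∀ (g : G) (z : G), Asc P ∅ K (wIdx P g) → z ∈ par P K →
      wIdx P (g * z) = wIdx P g * wIdx P z := fun g z hg hz =>
    wIdx_eq P (mul_mem_of_additive P (len_mul_of_asc P hg (inW_wIdx P hz)) (mem_cell_wIdx P g)
      (mem_cell_wIdx P z))
  have hq : ∀ y : G ⧸ P.B, qIdx P y = wIdx P y.out := fun y => by
    conv_lhs => rw [← mk_out y]
    exact qIdx_mk P y.out
  let f : {y : G ⧸ P.B // InP P J y ∧ Asc P ∅ K (qIdx P y)} × {z : G ⧸ P.B // Top P K z} →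
      {y : G ⧸ P.B // InP P J y ∧ Desc P K (qIdx P y)} :=
    fun p => ⟨p.1.1.out • p.2.1, by
      obtain ⟨⟨y, hy1, hy⟩, ⟨z, hz1, hz⟩⟩ := p
      obtain ⟨z, rfl⟩ := QuotientGroup.mk_surjective z
      rw [hq] at hy
      have hzK := (inP_mk P (B_le_par P K)).1 hz1
      have hy' := (inP_mk P (B_le_par P J) (g := y.out)).1 (by rwa [mk_out y])
      dsimp only
      rw [MulAction.Quotient.smul_coe, smul_eq_mul, inP_mk P (B_le_par P J), qIdx_mk,
        hmul _ _ hy hzK, desc_mul_iff P hy (inW_wIdx P hzK)]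
      exact ⟨(par P J).mul_mem hy' (par_mono P hKJ hzK), hz⟩⟩
  refine (Nat.card_eq_of_bijective f ⟨?_, ?_⟩).symm
  · rintro ⟨⟨y, hy1, hy⟩, ⟨z, hz1, hz⟩⟩ ⟨⟨y', hy1', hy'⟩, ⟨z', hz1', hz'⟩⟩ e
    obtain ⟨z, rfl⟩ := QuotientGroup.mk_surjective z
    obtain ⟨z', rfl⟩ := QuotientGroup.mk_surjective z'
    have e1 : y.out • (z : G ⧸ P.B) = y'.out • (z' : G ⧸ P.B) := congrArg Subtype.val e
    have hzK := (inP_mk P (B_le_par P K)).1 hz1
    have hzK' := (inP_mk P (B_le_par P K)).1 hz1'
    rw [hq] at hy hy'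
    have e2 : (y.out : G ⧸ par P K) = (y'.out : G ⧸ par P K) := by
      rw [MulAction.Quotient.smul_coe, MulAction.Quotient.smul_coe, QuotientGroup.eq] at e1
      rw [QuotientGroup.eq]
      have := (par P K).mul_mem ((par P K).mul_mem hzK (B_le_par P K e1)) ((par P K).inv_mem hzK')
      simpa [mul_assoc] using this
    have e3 := eq_of_asc_of_mk_eq P hy hy' e2
    rw [mk_out y, mk_out y'] at e3
    subst e3
    have e4 : (z : G ⧸ P.B) = (z' : G ⧸ P.B) := smul_left_cancel _ e1
    exact Prod.ext rfl (Subtype.ext e4)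
  · rintro ⟨h, hh1, hh⟩
    obtain ⟨h, rfl⟩ := QuotientGroup.mk_surjective h
    obtain ⟨a, c, rfl, ha, hc⟩ := exists_asc_rep P (K := K) h
    rw [inP_mk P (B_le_par P J)] at hh1
    have haJ : a ∈ par P J := by
      simpa [mul_assoc] using (par P J).mul_mem hh1 ((par P J).inv_mem (par_mono P hKJ hc))
    rw [qIdx_mk, hmul _ _ ha hc, desc_mul_iff P ha (inW_wIdx P hc)] at hh
    set y : G ⧸ P.B := (a : G ⧸ P.B) with hy
    have hb : a⁻¹ * y.out ∈ P.B := by
      rw [← QuotientGroup.eq, mk_out y]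
    have hz : (a⁻¹ * y.out)⁻¹ * c ∈ par P K :=
      (par P K).mul_mem ((par P K).inv_mem (B_le_par P K hb)) hc
    have hzi : wIdx P ((a⁻¹ * y.out)⁻¹ * c) = wIdx P c :=
      wIdx_eq P (by simpa using mul_mem_cell P (mem_cell_wIdx P c) (P.B.inv_mem hb) P.B.one_mem)
    refine ⟨(⟨y, (inP_mk P (B_le_par P J)).2 haJ, ha⟩,
      ⟨(((a⁻¹ * y.out)⁻¹ * c : G) : G ⧸ P.B), (inP_mk P (B_le_par P K)).2 hz, ?_⟩), Subtype.ext ?_⟩
    · rwa [qIdx_mk, hzi]
    · show y.out • (((a⁻¹ * y.out)⁻¹ * c : G) : G ⧸ P.B) = _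
      rw [MulAction.Quotient.smul_coe, smul_eq_mul]
      congr 1
      group

theorem sum_neg_one_filter {α : Type*} [DecidableEq α] (J : Finset α) (p : α → Prop)
    [∀ K : Finset α, Decidable (∀ s ∈ K, p s)] [Decidable (∀ s ∈ J, ¬ p s)] :
    ∑ K ∈ J.powerset, (if ∀ s ∈ K, p s then (-1 : ℤ) ^ K.card else 0) =
      if ∀ s ∈ J, ¬ p s then 1 else 0 := by
  classical
  rw [← Finset.sum_filter (s := J.powerset) (fun K : Finset α => ∀ s ∈ K, p s)]
  have e : J.powerset.filter (fun K => ∀ s ∈ K, p s) = (J.filter p).powerset := by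
    ext K
    simp only [Finset.mem_filter, Finset.mem_powerset]
    exact ⟨fun h s hs => Finset.mem_filter.2 ⟨h.1 hs, h.2 s hs⟩,
      fun h => ⟨fun s hs => (Finset.mem_filter.1 (h hs)).1, fun s hs => (Finset.mem_filter.1 (h hs)).2⟩⟩
  rw [e, Finset.sum_powerset_neg_one_pow_card]
  by_cases h : ∀ s ∈ J, ¬ p s
  · rw [if_pos h, if_pos (Finset.filter_eq_empty_iff.2 fun s hs => h s hs)]
  · rw [if_neg h, if_neg (fun he => h fun s hs => Finset.filter_eq_empty_iff.1 he hs)]

variable [Finite G]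

theorem exists_longest_inW (J : Set P.S) :
    ∃ w, InW P J w ∧ Desc P J w ∧ ∀ s ∈ J, ¬ len P w < len P (refl P s * w) := by
  haveI : Nonempty {w : Weyl P // InW P J w} := ⟨⟨1, [], by simp, rfl⟩⟩
  obtain ⟨⟨w, hw⟩, hmax⟩ := Finite.exists_max fun w : {w : Weyl P // InW P J w} => len P w.1
  exact ⟨w, hw, fun s hs => not_lt.2 (hmax ⟨_, hw.mul (inW_refl P hs)⟩),
    fun s hs => not_lt.2 (hmax ⟨_, (inW_refl P hs).mul hw⟩)⟩

theorem sum_fixed (J : Finset P.S) {b : G} (hb : b ∈ P.B) :
    ∑ K ∈ J.powerset, (-1 : ℤ) ^ K.card *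
        Nat.card {x : G ⧸ par P (K : Set P.S) // InP P (J : Set P.S) x ∧ b • x = x} =
      Nat.card {y : G ⧸ P.B // Top P (J : Set P.S) y ∧ b • y = y} := by
  classical
  haveI := Fintype.ofFinite (G ⧸ P.B)
  rw [Finset.sum_congr rfl fun K hK => by
    rw [card_fixed_asc P (Finset.coe_subset.2 (Finset.mem_powerset.1 hK)) hb]]
  simp only [Nat.card_eq_fintype_card, Fintype.card_subtype, Finset.card_filter, Nat.cast_sum,
    Nat.cast_ite, Nat.cast_one, Nat.cast_zero, Finset.mul_sum, mul_ite, mul_one, mul_zero]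
  rw [Finset.sum_comm]
  refine Finset.sum_congr rfl fun y _ => ?_
  by_cases hy : InP P (J : Set P.S) y ∧ b • y = y
  · simp only [Top, hy.1, hy.2, true_and, and_true, Asc, Set.mem_empty_iff_false, false_implies,
      implies_true, Finset.mem_coe, Desc]
    exact sum_neg_one_filter J fun s => len P (qIdx P y) < len P (qIdx P y * refl P s)
  · have h1 : ¬ (Top P (J : Set P.S) y ∧ b • y = y) := fun h => hy ⟨h.1.1, h.2⟩
    rw [if_neg h1]
    refine Finset.sum_eq_zero fun K _ => ?_
    rw [if_neg fun h => hy ⟨h.1, h.2.1⟩]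

/-- The alternating sum of the chamber counts. -/
theorem sum_card_mul_top (J : Finset P.S) :
    ∑ K ∈ J.powerset, (-1 : ℤ) ^ K.card *
        ((Nat.card {x : G ⧸ par P (K : Set P.S) // InP P (J : Set P.S) x} : ℤ) *
          Nat.card {z : G ⧸ P.B // Top P (K : Set P.S) z}) = 1 := by
  classical
  haveI := Fintype.ofFinite (G ⧸ P.B)
  rw [Finset.sum_congr rfl fun K hK => by
    rw [← Nat.cast_mul, ← card_desc_eq_mul P (Finset.coe_subset.2 (Finset.mem_powerset.1 hK))]]
  simp only [Nat.card_eq_fintype_card, Fintype.card_subtype, Finset.card_filter, Nat.cast_sum,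
    Nat.cast_ite, Nat.cast_one, Nat.cast_zero, Finset.mul_sum, mul_ite, mul_one, mul_zero]
  rw [Finset.sum_comm, Finset.sum_eq_single ((1 : G) : G ⧸ P.B)]
  · have h1 : ∀ K : Finset P.S, (InP P (J : Set P.S) ((1 : G) : G ⧸ P.B) ∧
        Desc P (K : Set P.S) (qIdx P ((1 : G) : G ⧸ P.B))) ↔ K = ∅ := by
      intro K
      rw [qIdx_mk, wIdx_eq P ((mem_cell_one P).2 P.B.one_mem)]
      constructor
      · intro h
        refine Finset.eq_empty_of_forall_notMem fun s hs => h.2 s hs ?_
        rw [one_mul, len_refl, (len_eq_zero P).2 rfl]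
        omega
      · rintro rfl
        exact ⟨(inP_mk P (B_le_par P _)).2 (par P _).one_mem, fun s hs => absurd hs (by simp)⟩
    simp only [h1]
    rw [Finset.sum_ite_eq' J.powerset (∅ : Finset P.S), if_pos (Finset.empty_mem_powerset J)]
    simp
  · intro y _ hy
    by_cases hin : InP P (J : Set P.S) y
    · simp only [hin, true_and, Desc, Finset.mem_coe]
      rw [sum_neg_one_filter J fun s => ¬ len P (qIdx P y) < len P (qIdx P y * refl P s), if_neg]
      intro hall
      apply hy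
      obtain ⟨g, rfl⟩ := QuotientGroup.mk_surjective y
      rw [qIdx_mk] at hall
      have hg := (inP_mk P (B_le_par P _)).1 hin
      have hasc : Asc P ∅ (J : Set P.S) (wIdx P g) :=
        ⟨fun s hs => absurd hs (Set.notMem_empty s), fun s hs => not_not.1 (hall s hs)⟩
      have h1 : Asc P ∅ (J : Set P.S) (wIdx P 1) := by
        rw [wIdx_eq P ((mem_cell_one P).2 P.B.one_mem)]
        refine ⟨fun s hs => absurd hs (Set.notMem_empty s), fun s _ => ?_⟩
        rw [one_mul, len_refl, (len_eq_zero P).2 rfl]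
        omega
      exact eq_of_asc_of_mk_eq P hasc h1 (QuotientGroup.eq.2 (by simpa using hg))
    · exact Finset.sum_eq_zero fun K _ => if_neg fun h => hin h.1
  · intro h
    exact absurd (Finset.mem_univ _) h

/-! ### Split pairs -/

/-- `U` is the normal Sylow `p`-subgroup of `B` with complement in `N`, and it sees the panels. -/
structure UnipotentData (p : ℕ) (U : Subgroup G) : Prop where
  le : U ≤ P.B
  isPGroup : IsPGroup p U
  not_dvd : ¬ p ∣ U.index
  normal : ∀ b ∈ P.B, ∀ u ∈ U, b * u * b⁻¹ ∈ U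
  decomp : ∀ b ∈ P.B, ∃ u ∈ U, ∃ h ∈ P.N, h ∈ P.B ∧ b = u * h
  panel : ∀ (s : P.S), ∀ v ∈ U, ∀ a ∈ cell P (refl P s), ∀ a' ∈ cell P (refl P s),
    a⁻¹ * v * a ∈ P.B → a'⁻¹ * v * a' ∈ P.B

section split

variable {p : ℕ} [hp : Fact p.Prime] {U : Subgroup G} (hU : UnipotentData P p U)
include hU

theorem mem_U_of_pow {v : G} (hv : v ∈ P.B) {k : ℕ} (hk : orderOf v = p ^ k) : v ∈ U := by
  have hcy : IsPGroup p (Subgroup.zpowers v) :=
    IsPGroup.of_card (n := k) (by rw [Nat.card_zpowers, hk])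
  have hn : Subgroup.zpowers v ≤ Subgroup.normalizer (U : Set G) := by
    intro z hz
    have hzB : z ∈ P.B := (Subgroup.zpowers_le.2 hv) hz
    refine Subgroup.mem_normalizer_iff.2 fun u => ⟨hU.normal z hzB u, fun hu => ?_⟩
    have := hU.normal z⁻¹ (P.B.inv_mem hzB) _ hu
    simpa [mul_assoc] using this
  have hK := hcy.to_sup_of_normal_right' hU.isPGroup hn
  obtain ⟨m, hm⟩ := hK.exists_card_eq
  have hdvd : U.relIndex (Subgroup.zpowers v ⊔ U) ∣ U.index :=
    ⟨_, (Subgroup.relIndex_mul_index le_sup_right).symm⟩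
  have hdvd' : U.relIndex (Subgroup.zpowers v ⊔ U) ∣ p ^ m := by
    rw [← hm]; exact Subgroup.relIndex_dvd_card _ _
  obtain ⟨i, -, hi⟩ := (Nat.dvd_prime_pow hp.out).1 hdvd'
  have h0 : i = 0 := by
    by_contra hne
    exact hU.not_dvd ((dvd_pow_self p hne).trans (hi ▸ hdvd))
  rw [h0, pow_zero, Subgroup.relIndex_eq_one] at hi
  exact hi (Subgroup.mem_sup_left (Subgroup.mem_zpowers v))

theorem exists_pow_of_mem_U {v : G} (hv : v ∈ U) : ∃ k : ℕ, orderOf v = p ^ k := by
  obtain ⟨k, hk⟩ := IsPGroup.iff_orderOf.1 hU.isPGroup ⟨v, hv⟩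
  exact ⟨k, by rw [← hk, Subgroup.orderOf_mk]⟩

theorem conj_mem_U {v g : G} (hv : v ∈ U) (hg : g⁻¹ * v * g ∈ P.B) : g⁻¹ * v * g ∈ U := by
  obtain ⟨k, hk⟩ := exists_pow_of_mem_U P hU hv
  refine mem_U_of_pow P hU hg (k := k) ?_
  rw [← hk]
  have := (MulAut.conj g⁻¹).orderOf_eq v
  simpa using this

/-- The core of `U` in `P_J`: an element fixing a chamber and an opposite one fixes all chambers. -/
theorem conj_mem_B_of_opposite {J : Set P.S} {n : G} (hn : n ∈ par P J)
    (hdesc : Desc P J (wIdx P n)) {v : G} (hv : v ∈ U) (hvn : n⁻¹ * v * n ∈ P.B) {g : G}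
    (hg : g ∈ par P J) : g⁻¹ * v * g ∈ P.B := by
  obtain ⟨w, hw, hwd, hwl⟩ := exists_longest_inW P J
  have hnc : n ∈ cell P w := Desc.unique P hw (inW_wIdx P hn) hwd hdesc ▸ mem_cell_wIdx P n
  have hwinv : w⁻¹ = w := by
    refine leftDesc_unique P hw.inv hw (fun s hs hlt => hwd s hs ?_) hwl
    rwa [← len_inv P w, ← len_inv P (w * refl P s), mul_inv_rev, refl_inv]
  obtain ⟨l, hl, hgl⟩ := exists_word_par P hg
  clear hg
  induction l generalizing v g with
  | nil =>
    have hgB : g ∈ P.B := (mem_cell_one P).1 (by simpa using hgl)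
    exact P.B.mul_mem (P.B.mul_mem (P.B.inv_mem hgB) (hU.le hv)) hgB
  | cons s l ih =>
    rw [word_cons] at hgl
    obtain ⟨a, ha, y, hy, rfl⟩ := exists_factor P hgl
    have hsJ : s ∈ J := hl s List.mem_cons_self
    have hs2 : len P (refl P s * w) + 1 = len P w := by
      have := hwl s hsJ
      rcases len_refl_mul_cases P s w with h | h <;> omega
    have hpre : len P (refl P s * (refl P s * w)) =
        len P (refl P s) + len P (refl P s * w) := by
      rw [refl_cancel_left, len_refl]; omega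
    obtain ⟨a1, ha1, z1, hz1, hn1⟩ :=
      exists_factor P (v := refl P s * w) (g := n) (by rw [refl_cancel_left]; exact hnc)
    have h1 : a1⁻¹ * v * a1 ∈ P.B :=
      conj_mem_B_of_prefix P hpre ha1 hz1 (hU.le hv) (by rw [← hn1]; exact hvn)
    have hav : a⁻¹ * v * a ∈ P.B := hU.panel s v hv a1 ha1 a ha h1
    have hx : ∃ x ∈ cell P w, (a * x)⁻¹ * v * (a * x) ∈ P.B := by
      have hai : a⁻¹ ∈ cell P (refl P s) := by simpa [refl_inv] using inv_mem_cell P ha
      rcases mul_mem_or P hai hnc with hc | hc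
      · obtain ⟨t, et, hlt⟩ := exists_factor_InW P hwl ((inW_refl P hsJ).mul hw)
        have ht1 : len P t = 1 := by omega
        have htJ : InW P J t := by
          have : t = (refl P s * w)⁻¹ * w := by rw [eq_inv_mul_iff_mul_eq, ← et]
          rw [this]; exact ((inW_refl P hsJ).mul hw).inv.mul hw
        have e2 : w = t⁻¹ * (refl P s * w)⁻¹ := by
          rw [← mul_inv_rev, ← et, hwinv]
        have hadd2 : len P (t⁻¹ * (refl P s * w)⁻¹) =
            len P t⁻¹ + len P (refl P s * w)⁻¹ := by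
          rw [← e2, len_inv, len_inv]; omega
        have hni : n⁻¹ ∈ cell P (t⁻¹ * (refl P s * w)⁻¹) := by
          rw [← e2, ← hwinv]; exact inv_mem_cell P hnc
        obtain ⟨e, he, z2, hz2, hn2⟩ := exists_factor P hni
        have he' : e ∈ cell P t := by
          have ht : t⁻¹ = t := by
            obtain ⟨r, hr, hrl⟩ := exists_reduced P t
            rw [ht1] at hrl
            obtain ⟨u, rfl⟩ := List.length_eq_one_iff.1 hrl
            rw [← hr, word_singleton, refl_inv]
          rwa [ht] at he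
        have h2 : e⁻¹ * (n⁻¹ * v * n) * e ∈ P.B :=
          conj_mem_B_of_prefix P hadd2 he hz2 hvn (by
            rw [← hn2]
            simpa [mul_assoc] using hU.le hv)
        refine ⟨a⁻¹ * n * e, ?_, ?_⟩
        · have h3 := mul_mem_of_additive P (w := refl P s * w) (v := t) (by rw [← et]; omega) hc he'
          rwa [← et] at h3
        · simpa [mul_assoc] using h2
      · exact ⟨a⁻¹ * n, hc, by simpa [mul_assoc] using hvn⟩
    obtain ⟨x, hxw, hxv⟩ := hx
    obtain ⟨b, hb, c, hc, rfl⟩ := exists_of_mem_cell P hxw hnc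
    have hbv : (a * b)⁻¹ * v * (a * b) ∈ P.B := by
      have := P.B.mul_mem (P.B.mul_mem (P.B.inv_mem hb) hav) hb
      simpa [mul_assoc] using this
    have hbn : n⁻¹ * ((a * b)⁻¹ * v * (a * b)) * n ∈ P.B := by
      have := P.B.mul_mem (P.B.mul_mem hc hxv) (P.B.inv_mem hc)
      simpa [mul_assoc] using this
    have := ih (conj_mem_U P hU hv hbv) hbn (g := b⁻¹ * y)
      (fun t ht => hl t (List.mem_cons_of_mem _ ht))
      (by simpa using mul_mem_cell P hy (P.B.inv_mem hb) P.B.one_mem)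
    simpa [mul_assoc] using this

/-- The `p`-elements of `P_J` that fix all its chambers. -/
def coreSet (J : Set P.S) : Set G := {u | u ∈ U ∧ ∀ g ∈ par P J, g⁻¹ * u * g ∈ P.B}

theorem fixed_top {J : Set P.S} {u : G} (hu : u ∈ U) {y : G ⧸ P.B} (hy : Top P J y) :
    u • y = y ↔ u ∈ coreSet P (U := U) J := by
  obtain ⟨g, rfl⟩ := QuotientGroup.mk_surjective y
  obtain ⟨hgJ, hd⟩ := hy
  rw [inP_mk P (B_le_par P J)] at hgJ
  rw [qIdx_mk] at hd
  rw [MulAction.Quotient.smul_coe, smul_eq_mul, eq_comm, QuotientGroup.eq, ← mul_assoc]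
  exact ⟨fun h => ⟨hu, fun g' hg' => conj_mem_B_of_opposite P hU hgJ hd hu h hg'⟩,
    fun h => h.2 g hgJ⟩

theorem card_top_fixed {J : Set P.S} {u : G} (hu : u ∈ U)
    [Decidable (u ∈ coreSet P (U := U) J)] :
    Nat.card {y : G ⧸ P.B // Top P J y ∧ u • y = y} =
      if u ∈ coreSet P (U := U) J then Nat.card {y : G ⧸ P.B // Top P J y} else 0 := by
  split_ifs with h
  · exact Nat.card_congr
      (Equiv.subtypeEquivRight fun y => ⟨fun h' => h'.1, fun h' => ⟨h', (fixed_top P hU hu h').2 h⟩⟩)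
  · haveI : IsEmpty {y : G ⧸ P.B // Top P J y ∧ u • y = y} :=
      ⟨fun y => h ((fixed_top P hU hu y.2.1).1 y.2.2)⟩
    exact Nat.card_of_isEmpty

theorem card_coreSet_mul {J : Set P.S} :
    Nat.card (coreSet P (U := U) J) * Nat.card {y : G ⧸ P.B // Top P J y} = Nat.card U := by
  obtain ⟨w, hw, hwd, -⟩ := exists_longest_inW P J
  obtain ⟨n, hnw⟩ := QuotientGroup.mk_surjective w
  have hnc : (n : G) ∈ cell P w := hnw ▸ mem_cell_self P n
  have hnJ : (n : G) ∈ par P J := by
    obtain ⟨l, hl, rfl⟩ := hw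
    exact mem_par_of_cell P hl hnc
  set y0 : G ⧸ P.B := ((n : G) : G ⧸ P.B)
  have htop : Top P J y0 :=
    ⟨(inP_mk P (B_le_par P J)).2 hnJ, by rw [qIdx_mk, wIdx_eq P hnc]; exact hwd⟩
  have h1 : Nat.card (MulAction.orbit U y0) = Nat.card {y : G ⧸ P.B // Top P J y} := by
    refine Nat.card_congr (Equiv.setCongr (Set.ext fun y => ?_))
    constructor
    · rintro ⟨u, rfl⟩
      show Top P J ((u : G) • y0)
      rw [Top, MulAction.Quotient.smul_coe, smul_eq_mul, inP_mk P (B_le_par P J), qIdx_mk]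
      refine ⟨(par P J).mul_mem (B_le_par P J (hU.le u.2)) hnJ, ?_⟩
      rw [wIdx_eq P (w := w) (by simpa using mul_mem_cell P hnc (hU.le u.2) P.B.one_mem)]
      exact hwd
    · intro hy
      obtain ⟨g, rfl⟩ := QuotientGroup.mk_surjective y
      obtain ⟨hgJ, hgd⟩ := hy
      rw [inP_mk P (B_le_par P J)] at hgJ
      rw [qIdx_mk] at hgd
      have hgc : g ∈ cell P w := Desc.unique P (inW_wIdx P hgJ) hw hgd hwd ▸ mem_cell_wIdx P g
      obtain ⟨b, hb, c, hc, rfl⟩ := exists_of_mem_cell P hgc hnc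
      obtain ⟨u, hu, h, hhN, hhB, rfl⟩ := hU.decomp b hb
      refine ⟨⟨u, hu⟩, ?_⟩
      show (u : G) • y0 = _
      rw [MulAction.Quotient.smul_coe, smul_eq_mul, QuotientGroup.eq]
      have h2 := P.conj_mem (n : G)⁻¹ (P.N.inv_mem n.2) h ⟨hhB, hhN⟩
      rw [inv_inv] at h2
      have := P.B.mul_mem h2 hc
      simpa [mul_assoc] using this
  have h2 : Nat.card (MulAction.stabilizer U y0) = Nat.card (coreSet P (U := U) J) :=
    Nat.card_congr
      { toFun := fun u => ⟨(u.1 : G), (fixed_top P hU u.1.2 htop).1 u.2⟩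
        invFun := fun u => ⟨⟨u.1, u.2.1⟩, (fixed_top P hU u.2.1 htop).2 u.2⟩
        left_inv := fun _ => rfl
        right_inv := fun _ => rfl }
  rw [← h1, ← h2, mul_comm, Nat.card_congr (MulAction.orbitEquivQuotientStabilizer U y0), ← Subgroup.index,
    Subgroup.index_mul_card]

omit hU in
/-- The `p`-elements of `P_J`. -/
def pElems (p : ℕ) (J : Set P.S) : Set G := {u | u ∈ par P J ∧ ∃ k : ℕ, orderOf u = p ^ k}

theorem exists_conj_mem_U {J : Set P.S} {u : G} (hu : u ∈ pElems P p J) :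
    ∃ c ∈ par P J, c⁻¹ * u * c ∈ U := by
  obtain ⟨huJ, k, hk⟩ := hu
  have hUJ : U ≤ par P J := hU.le.trans (B_le_par P J)
  have hidx : ¬ p ∣ (U.subgroupOf (par P J)).index := fun h =>
    hU.not_dvd (h.trans ⟨_, (Subgroup.relIndex_mul_index hUJ).symm⟩)
  have hpU : IsPGroup p (U.subgroupOf (par P J)) :=
    hU.isPGroup.of_equiv (Subgroup.subgroupOfEquivOfLe hUJ).symm
  set u' : par P J := ⟨u, huJ⟩
  have hcy : IsPGroup p (Subgroup.zpowers u') :=
    IsPGroup.of_card (n := k) (by rw [Nat.card_zpowers, ← hk, Subgroup.orderOf_mk])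
  obtain ⟨Q, hQ⟩ := hcy.exists_le_sylow
  obtain ⟨c, hc⟩ := MulAction.exists_smul_eq (par P J) Q (hpU.toSylow hidx)
  refine ⟨(c : G)⁻¹, (par P J).inv_mem c.2, ?_⟩
  have hm := Subgroup.smul_mem_pointwise_smul u' (MulAut.conj c) (Q : Subgroup (par P J))
    (hQ (Subgroup.mem_zpowers u'))
  have hm' : c * u' * c⁻¹ ∈ (↑(hpU.toSylow hidx) : Subgroup (par P J)) := by rw [← hc]; exact hm
  rw [IsPGroup.toSylow_coe, Subgroup.mem_subgroupOf] at hm'
  simpa [u'] using hm'

/-- Each `p`-element contributes the top chambers if it fixes everything, and nothing otherwise. -/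
theorem sum_pElems (J : Finset P.S) :
    ∑ K ∈ J.powerset, (-1 : ℤ) ^ K.card *
        ((Nat.card {x : G ⧸ par P (K : Set P.S) // InP P (J : Set P.S) x} : ℤ) *
          Nat.card (pElems P p (K : Set P.S))) = Nat.card U := by
  classical
  haveI := Fintype.ofFinite G
  set JS : Set P.S := (J : Set P.S) with hJS
  have hterm : ∀ K ∈ J.powerset,
      Nat.card {x : G ⧸ par P (K : Set P.S) // InP P JS x} * Nat.card (pElems P p (K : Set P.S)) =
        ∑ u : pElems P p JS,
          Nat.card {x : G ⧸ par P (K : Set P.S) // InP P JS x ∧ (u : G) • x = x} := by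
    intro K hK
    have hKJ : (K : Set P.S) ⊆ JS := Finset.coe_subset.2 (Finset.mem_powerset.1 hK)
    rw [← Nat.card_prod, ← Nat.card_sigma]
    have hout : ∀ x : {x : G ⧸ par P (K : Set P.S) // InP P JS x}, x.1.out ∈ par P JS := fun x =>
      (inP_mk P (par_mono P hKJ)).1 (by rw [mk_out x.1]; exact x.2)
    refine Nat.card_congr
      { toFun := fun q => ⟨⟨q.1.1.out * q.2.1 * q.1.1.out⁻¹, ?_, ?_⟩, q.1.1, q.1.2, ?_⟩
        invFun := fun q => (⟨q.2.1, q.2.2.1⟩,
          ⟨q.2.1.out⁻¹ * q.1.1 * q.2.1.out, ?_, ?_⟩)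
        left_inv := fun q => ?_
        right_inv := fun q => ?_ }
    · exact (par P JS).mul_mem ((par P JS).mul_mem (hout q.1) (par_mono P hKJ q.2.2.1))
        ((par P JS).inv_mem (hout q.1))
    · obtain ⟨k, hk⟩ := q.2.2.2
      exact ⟨k, by rw [← hk]; simpa using (MulAut.conj q.1.1.out).orderOf_eq (q.2.1 : G)⟩
    · exact conj_out_smul q.1.1 q.2.2.1
    · have h := q.2.2.2
      rw [← mk_out q.2.1, MulAction.Quotient.smul_coe, eq_comm, QuotientGroup.eq, smul_eq_mul] at h
      simpa [mul_assoc] using h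
    · obtain ⟨k, hk⟩ := q.1.2.2
      exact ⟨k, by rw [← hk]; simpa using (MulAut.conj q.2.1.out⁻¹).orderOf_eq (q.1.1 : G)⟩
    · ext
      · rfl
      · simp [mul_assoc]
    · obtain ⟨⟨u, hu⟩, x, hx⟩ := q
      refine Sigma.subtype_ext (Subtype.ext ?_) rfl
      simp [mul_assoc]
  have hval : ∀ u : pElems P p JS, ∑ K ∈ J.powerset, (-1 : ℤ) ^ K.card *
      Nat.card {x : G ⧸ par P (K : Set P.S) // InP P JS x ∧ (u : G) • x = x} =
      if (u : G) ∈ coreSet P (U := U) JS then
        (Nat.card {y : G ⧸ P.B // Top P JS y} : ℤ) else 0 := by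
    rintro ⟨u, hu⟩
    obtain ⟨c, hc, hcu⟩ := exists_conj_mem_U P hU hu
    have e : ∀ K ∈ J.powerset,
        Nat.card {x : G ⧸ par P (K : Set P.S) // InP P JS x ∧ u • x = x} =
        Nat.card {x : G ⧸ par P (K : Set P.S) // InP P JS x ∧ (c⁻¹ * u * c) • x = x} := by
      intro K hK
      have hKJ : (K : Set P.S) ⊆ JS := Finset.coe_subset.2 (Finset.mem_powerset.1 hK)
      refine Nat.card_congr ((MulAction.toPerm c⁻¹).subtypeEquiv fun x => and_congr ?_ ?_)
      · exact (inP_smul P (par_mono P hKJ) ((par P JS).inv_mem hc) x).symm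
      · simp only [MulAction.toPerm_apply, smul_smul, mul_assoc, mul_inv_cancel, mul_one]
        rw [mul_smul, smul_left_cancel_iff]
    rw [Finset.sum_congr rfl fun K hK => by rw [e K hK], sum_fixed P J (hU.le hcu),
      card_top_fixed P hU hcu, Nat.cast_ite, Nat.cast_zero]
    refine if_congr ?_ rfl rfl
    constructor
    · rintro ⟨-, h⟩
      have hu' : u ∈ U := mem_U_of_pow P hU (k := hu.2.choose) (by
        have := h c⁻¹ ((par P JS).inv_mem hc)
        simpa [mul_assoc] using this) hu.2.choose_spec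
      refine ⟨hu', fun g hg => ?_⟩
      have := h (c⁻¹ * g) ((par P JS).mul_mem ((par P JS).inv_mem hc) hg)
      simpa [mul_assoc] using this
    · rintro ⟨-, h⟩
      refine ⟨hcu, fun g hg => ?_⟩
      have := h (c * g) ((par P JS).mul_mem hc hg)
      simpa [mul_assoc] using this
  rw [Finset.sum_congr rfl fun K hK => by
    rw [← Nat.cast_mul, hterm K hK, Nat.cast_sum, Finset.mul_sum],
    Finset.sum_comm, Finset.sum_congr rfl fun u _ => hval u, ← Finset.sum_filter, Finset.sum_const,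
    nsmul_eq_mul, ← Nat.cast_mul, ← card_coreSet_mul P hU (J := JS)]
  congr 2
  rw [← Fintype.card_subtype, ← Nat.card_eq_fintype_card]
  have hsub : ∀ u ∈ coreSet P (U := U) JS, u ∈ pElems P p JS := fun u h =>
    ⟨B_le_par P JS (hU.le h.1), exists_pow_of_mem_U P hU h.1⟩
  exact Nat.card_congr (Equiv.subtypeSubtypeEquivSubtype (fun {u} h => hsub u h))

/-- The `p`-elements of `P_J`. -/
theorem card_pElems (J : Finset P.S) :
    Nat.card (pElems P p (J : Set P.S)) =
      Nat.card U * Nat.card {z : G ⧸ P.B // Top P (J : Set P.S) z} := by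
  classical
  induction J using Finset.strongInduction with
  | _ J ih =>
    have h1 := sum_pElems P hU J
    have h2 := congrArg (fun t : ℤ => (Nat.card U : ℤ) * t) (sum_card_mul_top P J)
    simp only [mul_one, Finset.mul_sum] at h2
    have key : ∀ K ∈ J.powerset.erase J, (-1 : ℤ) ^ K.card *
        ((Nat.card {x : G ⧸ par P (K : Set P.S) // InP P (J : Set P.S) x} : ℤ) *
          Nat.card (pElems P p (K : Set P.S))) =
        (Nat.card U : ℤ) * ((-1 : ℤ) ^ K.card *
          ((Nat.card {x : G ⧸ par P (K : Set P.S) // InP P (J : Set P.S) x} : ℤ) *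
            Nat.card {z : G ⧸ P.B // Top P (K : Set P.S) z})) := by
      intro K hK
      obtain ⟨hne, hK⟩ := Finset.mem_erase.1 hK
      rw [ih K (Finset.ssubset_iff_subset_ne.2 ⟨Finset.mem_powerset.1 hK, hne⟩)]
      push_cast
      ring
    have hJ : J ∈ J.powerset := Finset.mem_powerset_self J
    rw [← Finset.add_sum_erase _ _ hJ, Finset.sum_congr rfl key] at h1
    rw [← Finset.add_sum_erase _ _ hJ] at h2
    have hone : Nat.card {x : G ⧸ par P (J : Set P.S) // InP P (J : Set P.S) x} = 1 := by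
      rw [Nat.card_eq_one_iff_unique]
      refine ⟨⟨fun x y => ?_⟩, ⟨⟨((1 : G) : G ⧸ _), 1, (par P _).one_mem, rfl⟩⟩⟩
      obtain ⟨_, g, hg, rfl⟩ := x
      obtain ⟨_, g', hg', rfl⟩ := y
      exact Subtype.ext (QuotientGroup.eq.2 ((par P _).mul_mem ((par P _).inv_mem hg) hg'))
    rw [hone, Nat.cast_one, one_mul] at h1 h2
    have h3 : (-1 : ℤ) ^ J.card * (Nat.card (pElems P p (J : Set P.S)) : ℤ) =
        (-1 : ℤ) ^ J.card * ((Nat.card U * Nat.card {z : G ⧸ P.B // Top P (J : Set P.S) z} : ℕ) : ℤ) := by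
      push_cast
      linarith
    exact_mod_cast mul_left_cancel₀ (pow_ne_zero _ (by norm_num)) h3

/-- Steinberg's count. -/
theorem card_pElems_univ {n : P.N} (hn : NoAsc P (QuotientGroup.mk n))
    (htriv : ∀ u ∈ U, (n : G)⁻¹ * u * n ∈ P.B → u = 1) :
    Nat.card {g : G // ∃ k : ℕ, orderOf g = p ^ k} = Nat.card U * Nat.card U := by
  classical
  haveI := Fintype.ofFinite P.S
  have hpar : par P ((Finset.univ : Finset P.S) : Set P.S) = ⊤ := by
    rw [par, Finset.coe_univ, Set.image_univ, Subtype.range_coe_subtype, Set.setOf_mem_eq, parabolic_S]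
  have e := card_pElems P hU Finset.univ
  have hc := card_coreSet_mul P hU (J := ((Finset.univ : Finset P.S) : Set P.S))
  have hone : Nat.card (coreSet P (U := U) ((Finset.univ : Finset P.S) : Set P.S)) = 1 := by
    rw [Nat.card_eq_one_iff_unique]
    refine ⟨⟨fun x y => ?_⟩, ⟨⟨1, U.one_mem, fun g _ => by simp⟩⟩⟩
    have hx := htriv x.1 x.2.1 (x.2.2 n (by rw [hpar]; exact Subgroup.mem_top _))
    have hy := htriv y.1 y.2.1 (y.2.2 n (by rw [hpar]; exact Subgroup.mem_top _))
    exact Subtype.ext (hx.trans hy.symm)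
  rw [hone, one_mul] at hc
  rw [hc] at e
  rw [← e]
  exact Nat.card_congr (Equiv.subtypeEquivRight fun g =>
    ⟨fun h => ⟨by rw [hpar]; exact Subgroup.mem_top g, h⟩, And.right⟩)

end split

end Cfsg.Agent.BN
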