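/-
In a finite group with a split (B,N)-pair of characteristic p whose torus is generated by its rank-one
parts, an irreducible character vanishing on the non-trivial elements of U is the Steinberg character.

Proof: in a unitary realisation let E be the projection onto the U-fixed vectors and F g = E (g ·) E.
On the fixed space F of a simple reflection is bounded below by 1/q, so F of w is bounded below by
1/(number of chambers in the cell of w). Schur's relation gives the sum of the squared norms of all F g,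
and it equals the lower bound, so all bounds are attained: this forces B to fix the U-fixed vectors
and no other standard parabolic subgroup to fix any.
-/
import Cfsg.Agent.Lib.BNPair.Unipotent
import Cfsg.Agent.Lib.Clifford.Extension
import Mathlib.Analysis.InnerProductSpace.Trace
import Mathlib.Analysis.InnerProductSpace.PiL2
import Mathlib.Analysis.InnerProductSpace.Spectrum

set_option autoImplicit false
set_option linter.style.haveILetI false
set_option linter.unusedSectionVars false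

open scoped InnerProductSpace ComplexConjugate

namespace Cfsg.Agent.BN

open Cfsg

universe u

/-! ### A unitary realisation -/

theorem exists_unitary {G : Type u} [Group G] [Finite G] {χ : G → ℂ} (hχ : IsIrrCharacter G χ) :
    ∃ (V : Type u) (_ : NormedAddCommGroup V) (_ : InnerProductSpace ℂ V)
      (_ : FiniteDimensional ℂ V) (R : Representation ℂ G V),
      R.IsIrreducible ∧ R.character = χ ∧ ∀ g x y, ⟪R g x, R g y⟫_ℂ = ⟪x, y⟫_ℂ := by
  classical
  haveI := Fintype.ofFinite G
  obtain ⟨n, ρ, hirr, rfl⟩ := hχ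
  let emb : (Fin n → ℂ) →ₗ[ℂ] EuclideanSpace ℂ (G × Fin n) :=
    { toFun := fun x => WithLp.toLp 2 (fun p : G × Fin n => ρ p.1 x p.2)
      map_add' := fun x y => by ext p; simp
      map_smul' := fun a x => by ext p; simp }
  have hinj : Function.Injective emb := by
    intro x y h
    funext i
    have := congrArg (fun v : EuclideanSpace ℂ (G × Fin n) => v (1, i)) h
    simpa [emb] using this
  let e := LinearEquiv.ofInjective emb hinj
  refine ⟨LinearMap.range emb, inferInstance, inferInstance, inferInstance, Char.conjRep ρ e,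
    (Char.isIrreducible_conjRep_iff ρ e).2 hirr, Char.character_conjRep ρ e, fun g a b => ?_⟩
  obtain ⟨x, rfl⟩ := e.surjective a
  obtain ⟨y, rfl⟩ := e.surjective b
  simp only [Char.conjRep_apply, LinearEquiv.symm_apply_apply, Submodule.coe_inner]
  simp only [e, LinearEquiv.ofInjective_apply, PiLp.inner_apply]
  refine Fintype.sum_equiv ((Equiv.mulRight g).prodCongr (Equiv.refl _)) _ _ fun p => ?_
  simp [emb, map_mul]

/-- Equal norms and an extremal sum force equal summands. -/
theorem eq_of_norm_sum_eq {V : Type*} [NormedAddCommGroup V] [InnerProductSpace ℂ V] {ι : Type*}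
    {s : Finset ι} {z : ι → V} {r : ℝ} (hr : ∀ i ∈ s, ‖z i‖ = r)
    (h : (s.card : ℝ) * r ≤ ‖∑ i ∈ s, z i‖) {i j : ι} (hi : i ∈ s) (hj : j ∈ s) : z i = z j := by
  classical
  by_cases hij : i = j
  · rw [hij]
  have hj' : j ∈ s.erase i := Finset.mem_erase.2 ⟨fun e => hij e.symm, hj⟩
  rw [← Finset.add_sum_erase _ _ hi, ← Finset.add_sum_erase _ _ hj', ← add_assoc] at h
  have h1 := norm_add_le (z i + z j) (∑ x ∈ (s.erase i).erase j, z x)
  have h2 : ‖∑ x ∈ (s.erase i).erase j, z x‖ ≤ (((s.erase i).erase j).card : ℝ) * r := by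
    refine (norm_sum_le _ _).trans ?_
    rw [Finset.sum_congr rfl fun x hx =>
      hr x (Finset.mem_of_mem_erase (Finset.mem_of_mem_erase hx)), Finset.sum_const, nsmul_eq_mul]
  have hc : (s.card : ℝ) = (((s.erase i).erase j).card : ℝ) + 2 := by
    have a1 := Finset.card_erase_add_one hi
    have a2 := Finset.card_erase_add_one hj'
    exact_mod_cast (show s.card = ((s.erase i).erase j).card + 2 by omega)
  rw [hc] at h
  have h3 := norm_add_le (z i) (z j)
  rw [hr i hi, hr j hj] at h3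
  have h4 : ‖z i + z j‖ = r + r := le_antisymm h3 (by linarith)
  have h5 := parallelogram_law_with_norm ℂ (z i) (z j)
  rw [h4, hr i hi, hr j hj] at h5
  have h6 : ‖z i - z j‖ ^ 2 = 0 := by linarith
  rwa [sq_eq_zero_iff, norm_eq_zero, sub_eq_zero] at h6

variable {G : Type u} [Group G] [Finite G] (P : BNPair G)

/-! ### Chambers in a cell -/

/-- The number of chambers in a cell. -/
noncomputable def cellCount (w : Weyl P) : ℕ := Nat.card {y : G ⧸ P.B // qIdx P y = w}

theorem conj_out_mem {H : Subgroup G} (x : G ⧸ H) {g : G} (h : g • x = x) :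
    x.out⁻¹ * g * x.out ∈ H := by
  obtain ⟨a, ha⟩ : ∃ a, a = x.out := ⟨_, rfl⟩
  rw [← ha]
  rw [← mk_out x, ← ha, MulAction.Quotient.smul_coe, smul_eq_mul, eq_comm, QuotientGroup.eq] at h
  simpa [mul_assoc] using h

theorem qIdx_out (y : G ⧸ P.B) : wIdx P y.out = qIdx P y := by
  conv_rhs => rw [← mk_out y]
  exact (qIdx_mk P y.out).symm

theorem cellCount_pos (w : Weyl P) : 0 < cellCount P w := by
  obtain ⟨g, hg⟩ := cell_nonempty P w
  haveI : Nonempty {y : G ⧸ P.B // qIdx P y = w} := ⟨⟨(g : G ⧸ P.B), wIdx_eq P hg⟩⟩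
  exact Nat.card_pos

theorem cellCount_one : cellCount P 1 = 1 := by
  rw [cellCount, Nat.card_eq_one_iff_unique]
  refine ⟨⟨fun x y => ?_⟩, ⟨⟨((1 : G) : G ⧸ P.B), wIdx_eq P ((mem_cell_one P).2 P.B.one_mem)⟩⟩⟩
  obtain ⟨x, hx⟩ := x
  obtain ⟨y, hy⟩ := y
  obtain ⟨a, rfl⟩ := QuotientGroup.mk_surjective x
  obtain ⟨b, rfl⟩ := QuotientGroup.mk_surjective y
  rw [qIdx_mk] at hx hy
  have ha := (mem_cell_one P).1 (hx ▸ mem_cell_wIdx P a)
  have hb := (mem_cell_one P).1 (hy ▸ mem_cell_wIdx P b)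
  exact Subtype.ext (QuotientGroup.eq.2 (P.B.mul_mem (P.B.inv_mem ha) hb))

theorem cellCount_mul {x y : Weyl P} (h : len P (x * y) = len P x + len P y) :
    cellCount P (x * y) = cellCount P x * cellCount P y := by
  simp only [cellCount]
  rw [← Nat.card_prod]
  symm
  let f : {a : G ⧸ P.B // qIdx P a = x} × {b : G ⧸ P.B // qIdx P b = y} →
      {c : G ⧸ P.B // qIdx P c = x * y} :=
    fun p => ⟨((p.1.1.out * p.2.1.out : G) : G ⧸ P.B), by
      rw [qIdx_mk]
      exact wIdx_eq P (mul_mem_of_additive P h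
        (by
          have := mem_cell_wIdx P p.1.1.out
          rwa [(qIdx_out P p.1.1).trans p.1.2] at this)
        (by
          have := mem_cell_wIdx P p.2.1.out
          rwa [(qIdx_out P p.2.1).trans p.2.2] at this))⟩
  refine Nat.card_eq_of_bijective f ⟨?_, ?_⟩
  · rintro ⟨⟨a, ha⟩, ⟨b, hb⟩⟩ ⟨⟨a', ha'⟩, ⟨b', hb'⟩⟩ e
    have e1 : ((a.out * b.out : G) : G ⧸ P.B) = ((a'.out * b'.out : G) : G ⧸ P.B) :=
      congrArg Subtype.val e
    rw [QuotientGroup.eq] at e1
    have hac := (qIdx_out P a).trans ha ▸ mem_cell_wIdx P a.out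
    have hac' := (qIdx_out P a').trans ha' ▸ mem_cell_wIdx P a'.out
    have hbc := (qIdx_out P b).trans hb ▸ mem_cell_wIdx P b.out
    have hbc' := (qIdx_out P b').trans hb' ▸ mem_cell_wIdx P b'.out
    have hz : b.out * ((a.out * b.out)⁻¹ * (a'.out * b'.out)) ∈ cell P y := by
      simpa using mul_mem_cell P hbc P.B.one_mem e1
    have haa : a = a' := by
      rw [← mk_out a, ← mk_out a', QuotientGroup.eq]
      exact mem_B_of_mul_eq P h hac hac' hz hbc' (by group)
    subst haa
    refine Prod.ext rfl (Subtype.ext ?_)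
    show b = b'
    rw [← mk_out b, ← mk_out b', QuotientGroup.eq]
    simpa [mul_assoc] using e1
  · rintro ⟨c, hc⟩
    obtain ⟨g, rfl⟩ := QuotientGroup.mk_surjective c
    rw [qIdx_mk] at hc
    obtain ⟨a, ha, z, hz, rfl⟩ := exists_factor P (hc ▸ mem_cell_wIdx P g)
    have hb : a⁻¹ * (a : G ⧸ P.B).out ∈ P.B := by
      rw [← QuotientGroup.eq, mk_out]
    have hz' : (a⁻¹ * (a : G ⧸ P.B).out)⁻¹ * z ∈ cell P y := by
      simpa using mul_mem_cell P hz (P.B.inv_mem hb) P.B.one_mem
    set z' := (a⁻¹ * (a : G ⧸ P.B).out)⁻¹ * z with hzdef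
    refine ⟨(⟨(a : G ⧸ P.B), wIdx_eq P ha⟩, ⟨(z' : G ⧸ P.B), wIdx_eq P hz'⟩), Subtype.ext ?_⟩
    show (((a : G ⧸ P.B).out * (z' : G ⧸ P.B).out : G) : G ⧸ P.B) = _
    rw [← smul_eq_mul, ← MulAction.Quotient.smul_coe, mk_out, MulAction.Quotient.smul_coe,
      smul_eq_mul, hzdef]
    congr 1
    group

theorem sum_wIdx [Fintype G] [Fintype (Weyl P)] (h : Weyl P → ℝ) :
    ∑ g : G, h (wIdx P g) = (Nat.card P.B : ℝ) * ∑ w, (cellCount P w : ℝ) * h w := by
  classical
  haveI := Fintype.ofFinite (G ⧸ P.B)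
  rw [← Finset.sum_fiberwise Finset.univ (fun g : G => (g : G ⧸ P.B)) (fun g => h (wIdx P g))]
  have e1 : ∀ y : G ⧸ P.B,
      ∑ g ∈ Finset.univ.filter (fun g : G => (g : G ⧸ P.B) = y), h (wIdx P g) =
        (Nat.card P.B : ℝ) * h (qIdx P y) := by
    intro y
    rw [Finset.sum_congr rfl (g := fun _ => h (qIdx P y)) fun g hg => by
      rw [← (Finset.mem_filter.1 hg).2, qIdx_mk], Finset.sum_const, nsmul_eq_mul,
      ← Fintype.card_subtype, ← Nat.card_eq_fintype_card]
    congr 2
    exact Nat.card_congr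
      { toFun := fun g => ⟨y.out⁻¹ * g.1, by rw [← QuotientGroup.eq, mk_out, g.2]⟩
        invFun := fun b => ⟨y.out * b.1, by
          conv_rhs => rw [← mk_out y]
          rw [QuotientGroup.eq]
          simp⟩
        left_inv := fun g => Subtype.ext (mul_inv_cancel_left _ _)
        right_inv := fun b => Subtype.ext (inv_mul_cancel_left _ _) }
  rw [Finset.sum_congr rfl fun y _ => e1 y, ← Finset.mul_sum]
  congr 1
  rw [← Finset.sum_fiberwise Finset.univ (qIdx P) (fun y => h (qIdx P y))]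
  refine Finset.sum_congr rfl fun w _ => ?_
  rw [Finset.sum_congr rfl (g := fun _ => h w) fun y hy => by rw [(Finset.mem_filter.1 hy).2],
    Finset.sum_const, nsmul_eq_mul, cellCount, Nat.card_eq_fintype_card, Fintype.card_subtype]

section split

variable {p : ℕ} [hp : Fact p.Prime] {U : Subgroup G} (hU : UnipotentData P p U)
include hU

theorem exists_left {n : P.N} {g : G} (hg : g ∈ cell P (QuotientGroup.mk n)) :
    ∃ b ∈ P.B, ∃ u ∈ U, g = b * n * u := by
  obtain ⟨b, hb, c, hc, rfl⟩ := exists_of_mem_cell P hg (mem_cell_self P n)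
  obtain ⟨u, hu, h, hhN, hhB, rfl⟩ := hU.decomp c hc
  have h1 := P.conj_mem n n.2 h ⟨hhB, hhN⟩
  refine ⟨b * ((n : G) * h * (n : G)⁻¹), P.B.mul_mem hb h1, h⁻¹ * u * h⁻¹⁻¹,
    hU.normal _ (P.B.inv_mem hhB) u hu, ?_⟩
  group

theorem cellCount_mul_stab (n : P.N) :
    cellCount P (QuotientGroup.mk n) * Nat.card {u : U // (n : G)⁻¹ * u * n ∈ P.B} = Nat.card U := by
  set y0 : G ⧸ P.B := ((n : G) : G ⧸ P.B)
  have h1 : Nat.card (MulAction.orbit U y0) = cellCount P (QuotientGroup.mk n) := by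
    refine Nat.card_congr (Equiv.setCongr (Set.ext fun y => ?_))
    constructor
    · rintro ⟨u, rfl⟩
      show qIdx P ((u : G) • y0) = _
      rw [MulAction.Quotient.smul_coe, smul_eq_mul, qIdx_mk]
      exact wIdx_eq P (by simpa using mul_mem_cell P (mem_cell_self P n) (hU.le u.2) P.B.one_mem)
    · intro hy
      obtain ⟨g, rfl⟩ := QuotientGroup.mk_surjective y
      have hy' : wIdx P g = QuotientGroup.mk n := (qIdx_mk P g).symm.trans hy
      obtain ⟨b, hb, c, hc, rfl⟩ :=
        exists_of_mem_cell P (hy' ▸ mem_cell_wIdx P g) (mem_cell_self P n)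
      obtain ⟨u, hu, h, hhN, hhB, rfl⟩ := hU.decomp b hb
      refine ⟨⟨u, hu⟩, ?_⟩
      show (u : G) • y0 = _
      rw [MulAction.Quotient.smul_coe, smul_eq_mul, QuotientGroup.eq]
      have h2 := P.conj_mem (n : G)⁻¹ (P.N.inv_mem n.2) h ⟨hhB, hhN⟩
      rw [inv_inv] at h2
      have := P.B.mul_mem h2 hc
      simpa [mul_assoc] using this
  have h2 : Nat.card (MulAction.stabilizer U y0) = Nat.card {u : U // (n : G)⁻¹ * u * n ∈ P.B} := by
    refine Nat.card_congr (Equiv.subtypeEquivRight fun u => ?_)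
    show (u : G) • y0 = y0 ↔ _
    rw [MulAction.Quotient.smul_coe, smul_eq_mul, eq_comm, QuotientGroup.eq, mul_assoc]
  rw [← h1, ← h2, Nat.card_congr (MulAction.orbitEquivQuotientStabilizer U y0), ← Subgroup.index,
    Subgroup.index_mul_card]

theorem two_le_cellCount_refl (s : P.S) : 2 ≤ cellCount P (refl P s) := by
  have h := cellCount_pos P (refl P s)
  by_contra hcon
  have h1 : cellCount P (refl P s) = 1 := by omega
  haveI hs : Subsingleton {y : G ⧸ P.B // qIdx P y = refl P s} :=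
    (Nat.card_eq_one_iff_unique.1 h1).1
  obtain ⟨a, ha, a', ha', haa⟩ := exists_refl_square P s
  obtain ⟨b1, hb1, b2, hb2, rfl⟩ := exists_of_mem_cell P ha (coe_mem_cell_refl P s)
  obtain ⟨b3, hb3, b4, hb4, rfl⟩ := exists_of_mem_cell P ha' (coe_mem_cell_refl P s)
  have hb : b2 * b3 ∈ P.B := P.B.mul_mem hb2 hb3
  have hm : b2 * b3 * (s : G) ∈ cell P (refl P s) := by
    simpa using mul_mem_cell P (coe_mem_cell_refl P s) hb P.B.one_mem
  have e := congrArg Subtype.val
    (Subsingleton.elim (α := {y : G ⧸ P.B // qIdx P y = refl P s})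
      ⟨((b2 * b3 * (s : G) : G) : G ⧸ P.B), wIdx_eq P hm⟩
      ⟨((s : G) : G ⧸ P.B), wIdx_eq P (coe_mem_cell_refl P s)⟩)
  rw [QuotientGroup.eq] at e
  have hB : b1 * (s : G) * b2 * (b3 * (s : G) * b4) ∈ P.B := by
    have e' := P.B.inv_mem e
    have := P.B.mul_mem (P.B.mul_mem (P.B.mul_mem hb1 (P.sq_mem _ s.2)) e') hb4
    simpa [mul_assoc] using this
  exact refl_ne_one P s (cell_disjoint P haa ((mem_cell_one P).2 hB))

/-! ### The averaged operators -/

section unitary

variable {V : Type u} [NormedAddCommGroup V] [InnerProductSpace ℂ V] [FiniteDimensional ℂ V]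
  (R : Representation ℂ G V)

omit hU in
theorem apply_mul (a b : G) (x : V) : R (a * b) x = R a (R b x) := by
  rw [map_mul]; rfl

variable (U) in
omit hU in
/-- The projection onto the fixed vectors of `U`. -/
noncomputable def avg : V →ₗ[ℂ] V :=
  letI := Fintype.ofFinite U
  (Nat.card U : ℂ)⁻¹ • ∑ u : U, R u

omit hU in
theorem avg_apply [Fintype U] (x : V) :
    avg U R x = (Nat.card U : ℂ)⁻¹ • ∑ u : U, R u x := by
  simp only [avg, LinearMap.smul_apply, LinearMap.sum_apply]
  congr 1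
  convert rfl

omit hU in
theorem avg_of_fixed {x : V} (hx : ∀ u ∈ U, R u x = x) : avg U R x = x := by
  haveI := Fintype.ofFinite U
  rw [avg_apply, Finset.sum_congr rfl fun u _ => hx u.1 u.2, Finset.sum_const, Finset.card_univ,
    ← Nat.card_eq_fintype_card, ← Nat.cast_smul_eq_nsmul ℂ, smul_smul,
    inv_mul_cancel₀ (Nat.cast_ne_zero.2 Nat.card_pos.ne'), one_smul]

omit hU in
theorem apply_avg {a : G} (ha : a ∈ U) (x : V) : R a (avg U R x) = avg U R x := by
  haveI := Fintype.ofFinite U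
  rw [avg_apply, map_smul, map_sum]
  congr 1
  exact Fintype.sum_equiv (Equiv.mulLeft ⟨a, ha⟩) _ _ fun u => (apply_mul R _ _ x).symm

omit hU in
theorem avg_apply_mem {a : G} (ha : a ∈ U) (x : V) : avg U R (R a x) = avg U R x := by
  haveI := Fintype.ofFinite U
  rw [avg_apply, avg_apply]
  congr 1
  exact Fintype.sum_equiv (Equiv.mulRight ⟨a, ha⟩) _ _ fun u => (apply_mul R _ _ x).symm

omit hU in
theorem avg_avg (x : V) : avg U R (avg U R x) = avg U R x :=
  avg_of_fixed R fun _ hu => apply_avg R hu x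

theorem avg_comm {b : G} (hb : b ∈ P.B) (x : V) : avg U R (R b x) = R b (avg U R x) := by
  haveI := Fintype.ofFinite U
  rw [avg_apply, avg_apply, map_smul, map_sum]
  congr 1
  let e : U ≃ U :=
    { toFun := fun u => ⟨b⁻¹ * u * b⁻¹⁻¹, hU.normal _ (P.B.inv_mem hb) u u.2⟩
      invFun := fun u => ⟨b * u * b⁻¹, hU.normal _ hb u u.2⟩
      left_inv := fun u => Subtype.ext (by simp [mul_assoc])
      right_inv := fun u => Subtype.ext (by simp [mul_assoc]) }
  refine Fintype.sum_equiv e _ _ fun u => ?_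
  rw [← apply_mul, ← apply_mul]
  congr 2
  show (u : G) * b = b * (b⁻¹ * u * b⁻¹⁻¹)
  group

variable (U) in
omit hU in
/-- `E g`. -/
noncomputable def op (g : G) : V →ₗ[ℂ] V := avg U R ∘ₗ R g

omit hU in
theorem op_apply (g : G) (x : V) : op U R g x = avg U R (R g x) := rfl

theorem op_left {b : G} (hb : b ∈ P.B) {a c : G} (hc : c ∈ U) {x : V} (hx : avg U R x = x) :
    op U R (b * a * c) x = R b (op U R a x) := by
  rw [op_apply, op_apply, apply_mul, apply_mul, ← hx, apply_avg R hc, avg_comm P hU R hb]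

omit hU in
theorem op_op [Fintype U] (a z : G) (x : V) :
    op U R a (op U R z x) = (Nat.card U : ℂ)⁻¹ • ∑ u : U, op U R (a * u * z) x := by
  simp only [op_apply, avg_apply (U := U) R (R z x), map_smul, map_sum, apply_mul]

variable (hR : ∀ g x y, ⟪R g x, R g y⟫_ℂ = ⟪x, y⟫_ℂ)
include hR

omit hU in
theorem norm_apply (g : G) (x : V) : ‖R g x‖ = ‖x‖ := by
  rw [norm_eq_sqrt_re_inner (𝕜 := ℂ), norm_eq_sqrt_re_inner (𝕜 := ℂ), hR]

omit hU in
theorem inner_apply_left (g : G) (x y : V) : ⟪R g x, y⟫_ℂ = ⟪x, R g⁻¹ y⟫_ℂ := by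
  conv_rhs => rw [← hR g, ← apply_mul, mul_inv_cancel, map_one]
  rfl

omit hU in
theorem inner_avg (x y : V) : ⟪avg U R x, y⟫_ℂ = ⟪x, avg U R y⟫_ℂ := by
  haveI := Fintype.ofFinite U
  rw [avg_apply, avg_apply, inner_smul_left, inner_smul_right, sum_inner, inner_sum, map_inv₀,
    map_natCast]
  congr 1
  refine Fintype.sum_equiv (Equiv.inv U) _ _ fun u => ?_
  rw [inner_apply_left R hR]
  rfl

theorem norm_op_left {n : P.N} {g : G} (hg : g ∈ cell P (QuotientGroup.mk n)) {x : V}
    (hx : avg U R x = x) : ‖op U R g x‖ = ‖op U R (n : G) x‖ := by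
  obtain ⟨b, hb, u, hu, rfl⟩ := exists_left P hU hg
  rw [op_left P hU R hb hu hx, norm_apply R hR]

theorem norm_op_op_le {n m : P.N} (h : len P (QuotientGroup.mk n * QuotientGroup.mk m) =
      len P (QuotientGroup.mk n) + len P (QuotientGroup.mk m)) {x : V} (hx : avg U R x = x) :
    ‖op U R (n : G) (op U R (m : G) x)‖ ≤ ‖op U R ((n : G) * m) x‖ := by
  haveI := Fintype.ofFinite U
  rw [op_op, norm_smul, norm_inv, Complex.norm_natCast]
  have hb : ∀ u : U, ‖op U R ((n : G) * u * m) x‖ = ‖op U R ((n : G) * m) x‖ := by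
    intro u
    refine norm_op_left P hU R hR (n := n * m) ?_ hx
    rw [QuotientGroup.mk_mul]
    refine mul_mem_of_additive P h ?_ (mem_cell_self P m)
    simpa using mul_mem_cell P (mem_cell_self P n) P.B.one_mem (hU.le u.2)
  refine (mul_le_mul_of_nonneg_left (norm_sum_le _ _) (by positivity)).trans (le_of_eq ?_)
  rw [Finset.sum_congr rfl fun u _ => hb u, Finset.sum_const, Finset.card_univ,
    ← Nat.card_eq_fintype_card, nsmul_eq_mul, ← mul_assoc,
    inv_mul_cancel₀ (Nat.cast_ne_zero.2 Nat.card_pos.ne'), one_mul]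

/-! ### Rank one -/

omit hR in
/-- The quadratic relation of a simple reflection. -/
theorem exists_quadratic (s : P.S) [Fintype U] :
    ∃ (bad : Finset U) (β : U → G), (∀ u ∈ bad, β u ∈ P.B) ∧
      (∀ u ∈ bad, ∃ v ∈ U, (s : G) * u * s = β u * s * v) ∧
      (∀ u : U, (∃ b ∈ P.B, ∃ v ∈ U, (s : G) * u * s = b * s * v) → u ∈ bad) ∧
      (bad.card : ℝ) = (Nat.card U : ℝ) - (Nat.card U : ℝ) / cellCount P (refl P s) ∧
      ∀ x, avg U R x = x →
        op U R (s : G) (op U R (s : G) x) = (cellCount P (refl P s) : ℂ)⁻¹ • R ((s : G) * s) x +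
          (Nat.card U : ℂ)⁻¹ • ∑ u ∈ bad, R (β u) (op U R (s : G) x) := by
  classical
  set σ : P.N := ⟨s.1, P.subset s.2⟩
  have hrefl : refl P s = QuotientGroup.mk σ := rfl
  set good : Finset U := Finset.univ.filter (fun u : U => (s : G) * u * s ∈ P.B)
  set bad : Finset U := Finset.univ.filter (fun u : U => ¬ ((s : G) * u * s ∈ P.B)) with hbad
  have hcase : ∀ u : U, (s : G) * u * s ∈ cell P 1 ∨ (s : G) * u * s ∈ cell P (refl P s) := by
    intro u
    have h1 : (s : G) * u ∈ cell P (refl P s) := by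
      simpa using mul_mem_cell P (coe_mem_cell_refl P s) P.B.one_mem (hU.le u.2)
    rcases mul_mem_or P h1 (coe_mem_cell_refl P s) with h | h
    · rw [refl_mul_self] at h; exact Or.inl h
    · exact Or.inr h
  have hdec : ∀ u : U, ∃ b, u ∈ bad → b ∈ P.B ∧ ∃ v ∈ U, (s : G) * u * s = b * s * v := by
    intro u
    by_cases hu : u ∈ bad
    · have hu' := (Finset.mem_filter.1 hu).2
      obtain ⟨b, hb, v, hv, e⟩ := exists_left P hU (n := σ)
        ((hcase u).resolve_left fun h => hu' ((mem_cell_one P).1 h))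
      exact ⟨b, fun _ => ⟨hb, v, hv, e⟩⟩
    · exact ⟨1, fun h => absurd h hu⟩
  choose β hβ using hdec
  have hgood : good.card * cellCount P (refl P s) = Nat.card U := by
    rw [← cellCount_mul_stab P hU σ, mul_comm, ← hrefl]
    congr 1
    rw [← Fintype.card_subtype, ← Nat.card_eq_fintype_card]
    refine Nat.card_congr (Equiv.subtypeEquivRight fun u => ?_)
    have h2 := P.sq_mem _ s.2
    show (s : G) * u * s ∈ P.B ↔ (s : G)⁻¹ * u * s ∈ P.B
    constructor
    · intro h
      have := P.B.mul_mem (P.B.inv_mem h2) h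
      simpa [mul_assoc] using this
    · intro h
      have := P.B.mul_mem h2 h
      simpa [mul_assoc] using this
  have hq : 0 < cellCount P (refl P s) := cellCount_pos P _
  refine ⟨bad, β, fun u hu => (hβ u hu).1, fun u hu => (hβ u hu).2, ?_, ?_, ?_⟩
  · rintro u ⟨b, hb, v, hv, e⟩
    refine Finset.mem_filter.2 ⟨Finset.mem_univ _, fun h => ?_⟩
    have hc : (s : G) * u * s ∈ cell P (refl P s) := by
      rw [e]; exact mul_mem_cell P (coe_mem_cell_refl P s) hb (hU.le hv)
    exact refl_ne_one P s (cell_disjoint P hc ((mem_cell_one P).2 h))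
  · have h := Finset.card_filter_add_card_filter_not (s := (Finset.univ : Finset U))
      (fun u : U => (s : G) * u * s ∈ P.B)
    rw [Finset.card_univ, ← Nat.card_eq_fintype_card] at h
    have h' : (good.card : ℝ) + bad.card = Nat.card U := by exact_mod_cast h
    have hg : (good.card : ℝ) * cellCount P (refl P s) = Nat.card U := by exact_mod_cast hgood
    have hq' : (cellCount P (refl P s) : ℝ) ≠ 0 := Nat.cast_ne_zero.2 hq.ne'
    rw [← hg]
    field_simp
    linarith
  · intro x hx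
    rw [op_op, ← Finset.sum_filter_add_sum_filter_not Finset.univ
      (fun u : U => (s : G) * u * s ∈ P.B) (fun u : U => op U R ((s : G) * u * s) x), smul_add]
    have e1 : ∀ u ∈ good, op U R ((s : G) * u * s) x = R ((s : G) * s) x := by
      intro u hu
      have hB := (Finset.mem_filter.1 hu).2
      have hcB : (s : G) * u * (s : G)⁻¹ ∈ P.B := by
        have := P.B.mul_mem hB (P.B.inv_mem (P.sq_mem _ s.2))
        simpa [mul_assoc] using this
      have hcU : (s : G) * u * (s : G)⁻¹ ∈ U := by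
        have := conj_mem_U P hU u.2 (g := (s : G)⁻¹) (by rwa [inv_inv])
        rwa [inv_inv] at this
      rw [op_apply, show (s : G) * u * s = (s : G) * u * (s : G)⁻¹ * ((s : G) * s) by group,
        apply_mul R ((s : G) * u * (s : G)⁻¹), avg_apply_mem R hcU,
        avg_comm P hU R (P.sq_mem _ s.2), hx]
    have e2 : ∀ u ∈ bad, op U R ((s : G) * u * s) x = R (β u) (op U R (s : G) x) := by
      intro u hu
      obtain ⟨hb, v, hv, e⟩ := hβ u hu
      rw [e, op_left P hU R hb hv hx]
    rw [Finset.sum_congr rfl e1, Finset.sum_congr rfl e2, Finset.sum_const,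
      ← Nat.cast_smul_eq_nsmul ℂ, smul_smul]
    congr 2
    rw [← hgood, Nat.cast_mul, mul_inv, mul_assoc, mul_comm (cellCount P (refl P s) : ℂ)⁻¹,
      ← mul_assoc, inv_mul_cancel₀, one_mul]
    intro h0
    rw [Nat.cast_eq_zero] at h0
    have := hgood
    rw [h0, zero_mul] at this
    exact Nat.card_pos.ne' this.symm

omit hU in
/-- `E n⁻¹ E n` on the fixed space. -/
theorem inner_op (n : G) {x y : V} :
    ⟪op U R n x, op U R n y⟫_ℂ = ⟪x, R n⁻¹ (avg U R (R n y))⟫_ℂ := by
  rw [op_apply, op_apply, inner_avg R hR, avg_avg, inner_apply_left R hR]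

omit hU in
theorem inner_mid (n : G) {x y : V} (hx : avg U R x = x) :
    ⟪x, avg U R (R n⁻¹ (avg U R (R n y)))⟫_ℂ = ⟪op U R n x, op U R n y⟫_ℂ := by
  rw [inner_op R hR, ← inner_avg R hR, hx]

/-- The quadratic relation as a norm inequality. -/
theorem norm_le_of_quadratic (s : P.S) {x : V} (hx : avg U R x = x) :
    ‖x‖ ≤ (cellCount P (refl P s) : ℝ) * ‖op U R (s : G) (op U R (s : G) x)‖ +
      ((cellCount P (refl P s) : ℝ) - 1) * ‖op U R (s : G) x‖ := by
  haveI := Fintype.ofFinite U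
  obtain ⟨bad, β, -, -, -, hcard, h⟩ := exists_quadratic P hU R s
  have h' := h x hx
  set q : ℝ := (cellCount P (refl P s) : ℝ) with hqd
  have hq : 0 < q := Nat.cast_pos.2 (cellCount_pos P _)
  have hU0 : (0 : ℝ) < Nat.card U := Nat.cast_pos.2 Nat.card_pos
  rw [← sub_eq_iff_eq_add] at h'
  have h2 : ‖(cellCount P (refl P s) : ℂ)⁻¹ • R ((s : G) * s) x‖ ≤
      ‖op U R (s : G) (op U R (s : G) x)‖ +
        ‖(Nat.card U : ℂ)⁻¹ • ∑ u ∈ bad, R (β u) (op U R (s : G) x)‖ := by
    rw [← h']; exact norm_sub_le _ _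
  rw [norm_smul, norm_smul, norm_inv, norm_inv, Complex.norm_natCast, Complex.norm_natCast,
    norm_apply R hR] at h2
  have h3 : ‖∑ u ∈ bad, R (β u) (op U R (s : G) x)‖ ≤ (bad.card : ℝ) * ‖op U R (s : G) x‖ := by
    refine (norm_sum_le _ _).trans ?_
    rw [Finset.sum_congr rfl fun u _ => norm_apply R hR _ _, Finset.sum_const, nsmul_eq_mul]
  have h4 : (Nat.card U : ℝ)⁻¹ * ‖∑ u ∈ bad, R (β u) (op U R (s : G) x)‖ ≤
      (1 - 1 / q) * ‖op U R (s : G) x‖ := by
    refine (mul_le_mul_of_nonneg_left h3 (by positivity)).trans (le_of_eq ?_)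
    rw [hcard]
    field_simp
  have h5 : q⁻¹ * ‖x‖ ≤ ‖op U R (s : G) (op U R (s : G) x)‖ + (1 - 1 / q) * ‖op U R (s : G) x‖ := by
    linarith
  have h6 := mul_le_mul_of_nonneg_left h5 hq.le
  rw [← mul_assoc, mul_inv_cancel₀ hq.ne', one_mul, mul_add, ← mul_assoc, mul_sub, mul_one,
    mul_one_div_cancel hq.ne'] at h6
  exact h6

omit hU hR in
/-- The fixed space of `U`. -/
noncomputable abbrev fixedSpace (U : Subgroup G) (R : Representation ℂ G V) : Submodule ℂ V :=
  LinearMap.range (avg U R)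

omit hU hR in
theorem avg_of_mem {x : V} (hx : x ∈ fixedSpace U R) : avg U R x = x := by
  obtain ⟨y, rfl⟩ := hx
  exact avg_avg R y

omit hU hR in
/-- `E n⁻¹ E n` restricted to the fixed space. -/
noncomputable def midOp (n : G) : fixedSpace U R →ₗ[ℂ] fixedSpace U R :=
  ((avg U R ∘ₗ R n⁻¹) ∘ₗ (avg U R ∘ₗ R n)).restrict fun x _ => LinearMap.mem_range_self _ _

omit hU in
theorem inner_midOp (n : G) (x y : fixedSpace U R) :
    ⟪x, midOp R n y⟫_ℂ = ⟪op U R n x.1, op U R n y.1⟫_ℂ :=
  inner_mid R hR n (avg_of_mem R x.2)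

omit hU in
theorem isSymmetric_midOp (n : G) : (midOp (U := U) R n).IsSymmetric := by
  intro x y
  rw [← inner_conj_symm, inner_midOp R hR, inner_midOp R hR, inner_conj_symm]

/-- A simple reflection is bounded below by `1/q` on the fixed space. -/
theorem norm_le_op_refl (s : P.S) {x : V} (hx : avg U R x = x) :
    ‖x‖ ≤ (cellCount P (refl P s) : ℝ) * ‖op U R (s : G) x‖ := by
  classical
  set q : ℝ := (cellCount P (refl P s) : ℝ) with hqd
  have hq : 1 ≤ q := Nat.one_le_cast.2 (cellCount_pos P _)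
  have hT := isSymmetric_midOp (U := U) R hR (s : G)
  set e := hT.eigenvectorBasis rfl
  set μ := hT.eigenvalues rfl
  have key : ∀ i, (1 / q) ^ 2 ≤ μ i := by
    intro i
    have hvec := hT.apply_eigenvectorBasis rfl i
    have he : ‖(e i).1‖ = 1 := e.orthonormal.1 i
    have hxe := avg_of_mem R (e i).2
    have hsq : ‖op U R (s : G) (e i).1‖ ^ 2 = μ i := by
      have h1 := inner_midOp R hR (s : G) (e i) (e i)
      rw [hvec, inner_smul_right, inner_self_eq_norm_sq_to_K, inner_self_eq_norm_sq_to_K] at h1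
      have h1' : (μ i : ℂ) * ((‖(e i).1‖ : ℂ)) ^ 2 = ((‖op U R (s : G) (e i).1‖ : ℂ)) ^ 2 := h1
      rw [he] at h1'
      simp at h1'
      exact_mod_cast h1'.symm
    have hff : ‖op U R (s : G) (op U R (s : G) (e i).1)‖ = |μ i| := by
      have h1 : avg U R (R (s : G)⁻¹ (avg U R (R (s : G) (e i).1))) = (μ i : ℂ) • (e i).1 :=
        congrArg Subtype.val hvec
      have h2 : op U R (s : G) (op U R (s : G) (e i).1) =
          R ((s : G) * s) (avg U R (R (s : G)⁻¹ (avg U R (R (s : G) (e i).1)))) := by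
        rw [← avg_comm P hU R (P.sq_mem _ s.2), ← apply_mul, mul_inv_cancel_right]
        rfl
      rw [h2, norm_apply R hR, h1, norm_smul, he, mul_one, Complex.norm_real, Real.norm_eq_abs]
    have h := norm_le_of_quadratic P hU R hR s hxe
    rw [he, hff, ← hsq, abs_of_nonneg (sq_nonneg _), ← hqd] at h
    have h0 := norm_nonneg (op U R (s : G) (e i).1)
    rw [← hsq]
    have h7 : 1 / q ≤ ‖op U R (s : G) (e i).1‖ := by
      rw [div_le_iff₀ (by linarith)]
      nlinarith
    exact pow_le_pow_left₀ (by positivity) h7 2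
  set y : fixedSpace U R := ⟨x, ⟨x, hx⟩⟩
  have h1 : ‖op U R (s : G) x‖ ^ 2 = ∑ i, μ i * ‖e.repr y i‖ ^ 2 := by
    have h1 := inner_midOp R hR (s : G) y y
    rw [← e.repr.inner_map_map, PiLp.inner_apply, inner_self_eq_norm_sq_to_K] at h1
    have h2 : ((‖op U R (s : G) x‖ ^ 2 : ℝ) : ℂ) =
        ((∑ i, μ i * ‖e.repr y i‖ ^ 2 : ℝ) : ℂ) := by
      rw [Complex.ofReal_pow, Complex.ofReal_sum]
      refine h1.symm.trans (Finset.sum_congr rfl fun i _ => ?_)
      rw [hT.eigenvectorBasis_apply_self_apply, RCLike.inner_apply, mul_assoc, RCLike.mul_conj]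
      push_cast
      rfl
    exact_mod_cast h2
  have h2 : ‖x‖ ^ 2 = ∑ i, ‖e.repr y i‖ ^ 2 := by
    rw [show ‖x‖ = ‖y‖ from rfl, ← e.repr.norm_map y, EuclideanSpace.norm_sq_eq]
  have h3 : (1 / q) ^ 2 * ‖x‖ ^ 2 ≤ ‖op U R (s : G) x‖ ^ 2 := by
    rw [h1, h2, Finset.mul_sum]
    exact Finset.sum_le_sum fun i _ => mul_le_mul_of_nonneg_right (key i) (sq_nonneg _)
  rw [← mul_pow, pow_le_pow_iff_left₀ (by positivity) (norm_nonneg _) two_ne_zero,
    one_div, inv_mul_le_iff₀ (by linarith)] at h3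
  exact h3

/-- `F w` is bounded below by the inverse of the number of chambers. -/
theorem norm_le_op (n : P.N) {x : V} (hx : avg U R x = x) :
    ‖x‖ ≤ (cellCount P (QuotientGroup.mk n) : ℝ) * ‖op U R (n : G) x‖ := by
  obtain ⟨l, hl, hlen⟩ := exists_reduced P (QuotientGroup.mk n)
  induction l generalizing n with
  | nil =>
    rw [word_nil, eq_comm] at hl
    have hn : (n : G) ∈ P.B := (mk_eq_one P).1 hl
    rw [hl, cellCount_one, Nat.cast_one, one_mul, op_apply, avg_comm P hU R hn, hx, norm_apply R hR]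
  | cons s l ih =>
    rw [word_cons] at hl
    simp only [List.length_cons] at hlen
    set σ : P.N := ⟨s.1, P.subset s.2⟩
    have hm : QuotientGroup.mk (σ⁻¹ * n) = word P l := by
      rw [QuotientGroup.mk_mul, QuotientGroup.mk_inv, ← hl]
      exact inv_mul_cancel_left _ _
    have h1 := len_word_le P l
    have h2 : len P (QuotientGroup.mk n) ≤ len P (word P l) + 1 := by
      rw [← hl]; exact len_refl_mul_le P s _
    have hl2 : word P l = QuotientGroup.mk (σ⁻¹ * n) := hm.symm
    have hadd : len P (QuotientGroup.mk σ * QuotientGroup.mk (σ⁻¹ * n)) =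
        len P (QuotientGroup.mk σ) + len P (QuotientGroup.mk (σ⁻¹ * n)) := by
      rw [← QuotientGroup.mk_mul, mul_inv_cancel_left, hm,
        show len P (QuotientGroup.mk σ) = 1 from len_refl P s]
      omega
    have h3 := ih (σ⁻¹ * n) hl2 (by rw [hm]; omega)
    have h4 := norm_le_op_refl P hU R hR s (avg_avg (U := U) R (R ((σ⁻¹ * n : P.N) : G) x))
    have h5 := norm_op_op_le P hU R hR hadd hx
    have e0 : (σ : G) * ((σ⁻¹ * n : P.N) : G) = (n : G) := by simp
    rw [e0] at h5
    have hc := cellCount_mul P hadd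
    rw [← QuotientGroup.mk_mul, mul_inv_cancel_left] at hc
    rw [hc, Nat.cast_mul]
    refine h3.trans ?_
    rw [show (cellCount P (QuotientGroup.mk σ) : ℝ) * cellCount P (QuotientGroup.mk (σ⁻¹ * n)) =
      cellCount P (QuotientGroup.mk (σ⁻¹ * n)) * cellCount P (QuotientGroup.mk σ) from mul_comm _ _,
      mul_assoc]
    refine mul_le_mul_of_nonneg_left (h4.trans ?_) (Nat.cast_nonneg _)
    exact mul_le_mul_of_nonneg_left h5 (Nat.cast_nonneg _)

omit hU hR in
variable (U) in
/-- The squared Hilbert–Schmidt norm of `E g E`. -/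
noncomputable def phi (g : G) : ℝ :=
  (LinearMap.trace ℂ V ((avg U R ∘ₗ R g⁻¹) ∘ₗ (avg U R ∘ₗ R g))).re

omit hU in
theorem phi_eq_sum {ι : Type*} [Fintype ι] (n : G) (e : OrthonormalBasis ι ℂ (fixedSpace U R)) :
    phi U R n = ∑ i, ‖op U R n (e i).1‖ ^ 2 := by
  rw [phi, ← LinearMap.trace_restrict_eq_of_forall_mem (fixedSpace U R)
    ((avg U R ∘ₗ R n⁻¹) ∘ₗ (avg U R ∘ₗ R n)) (fun x => LinearMap.mem_range_self _ _) (fun x _ => LinearMap.mem_range_self _ _),
    LinearMap.trace_eq_sum_inner _ e, Complex.re_sum]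
  refine Finset.sum_congr rfl fun i _ => ?_
  have h := inner_midOp R hR n (e i) (e i)
  rw [inner_self_eq_norm_sq_to_K] at h
  change (⟪e i, midOp (U := U) R n (e i)⟫_ℂ).re = _
  rw [h]
  norm_cast

omit hR in
theorem phi_conj {b c g : G} (hb : b ∈ P.B) (hc : c ∈ P.B) : phi U R (b * g * c) = phi U R g := by
  have hb' : ∀ {d : G}, d ∈ P.B → avg U R ∘ₗ R d = R d ∘ₗ avg U R := fun hd =>
    LinearMap.ext fun x => avg_comm P hU R hd x
  simp only [phi, mul_inv_rev, map_mul, Module.End.mul_eq_comp]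
  congr 1
  have e : (avg U R ∘ₗ R c⁻¹ ∘ₗ R g⁻¹ ∘ₗ R b⁻¹) ∘ₗ (avg U R ∘ₗ (R b ∘ₗ R g) ∘ₗ R c) =
      (R c⁻¹ ∘ₗ ((avg U R ∘ₗ R g⁻¹) ∘ₗ (avg U R ∘ₗ R g))) ∘ₗ R c := by
    ext x
    simp only [LinearMap.comp_apply]
    rw [avg_comm P hU R (P.B.inv_mem hc), avg_comm P hU R hb, ← apply_mul R b⁻¹ b, inv_mul_cancel,
      map_one]
    rfl
  rw [show (avg U R ∘ₗ R c⁻¹ ∘ₗ (R g⁻¹ ∘ₗ R b⁻¹)) ∘ₗ (avg U R ∘ₗ (R b ∘ₗ R g) ∘ₗ R c) = _ from e,
    LinearMap.trace_comp_comm', ← LinearMap.comp_assoc, ← Module.End.mul_eq_comp (R c), ← map_mul,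
    mul_inv_cancel, map_one, Module.End.one_eq_id, LinearMap.id_comp]

omit hU hR in
theorem sum_phi [Fintype G] [R.IsIrreducible] :
    (∑ g : G, phi U R g) * Module.finrank ℂ V =
      (Nat.card G : ℝ) * (Module.finrank ℂ (fixedSpace U R) : ℝ) ^ 2 := by
  set T : V →ₗ[ℂ] V := ∑ g : G, R g⁻¹ ∘ₗ avg U R ∘ₗ R g with hT
  have hcomm : ∀ h, T * R h = R h * T := by
    intro h
    rw [hT, Finset.sum_mul, Finset.mul_sum]
    refine Fintype.sum_equiv (Equiv.mulRight h) _ _ fun g => LinearMap.ext fun x => ?_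
    simp only [Module.End.mul_apply, LinearMap.comp_apply, Equiv.coe_mulRight, mul_inv_rev,
      ← apply_mul R]
    rw [show h * (h⁻¹ * g⁻¹) = g⁻¹ from by group]
  obtain ⟨c, hc⟩ := Clifford.exists_scalar_of_commute R T hcomm
  have hproj : LinearMap.IsProj (fixedSpace U R) (avg U R) :=
    ⟨fun x => LinearMap.mem_range_self _ _, fun x hx => avg_of_mem R hx⟩
  have hE := hproj.trace
  have h1 : ∑ g : G, LinearMap.trace ℂ V ((avg U R ∘ₗ R g⁻¹) ∘ₗ (avg U R ∘ₗ R g)) =
      c * Module.finrank ℂ (fixedSpace U R) := by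
    rw [← map_sum]
    have e : ∑ g : G, (avg U R ∘ₗ R g⁻¹) ∘ₗ (avg U R ∘ₗ R g) = c • avg U R := by
      ext x
      have := congrArg (fun f : Module.End ℂ V => avg U R (f x)) hc
      simp only [hT, LinearMap.sum_apply, map_sum, LinearMap.comp_apply,
        Module.algebraMap_end_apply, map_smul] at this
      simpa [LinearMap.sum_apply] using this
    rw [e, map_smul, hE, smul_eq_mul]
  have h2 : c * Module.finrank ℂ V = (Nat.card G : ℂ) * Module.finrank ℂ (fixedSpace U R) := by
    have e := congrArg (LinearMap.trace ℂ V) hc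
    rw [Algebra.algebraMap_eq_smul_one, map_smul, LinearMap.trace_one, smul_eq_mul, hT, map_sum,
      Finset.sum_congr rfl fun g _ => by
        rw [← LinearMap.comp_assoc, LinearMap.trace_comp_cycle', ← Module.End.mul_eq_comp (R g),
          ← map_mul, mul_inv_cancel, map_one, Module.End.one_eq_id, LinearMap.id_comp],
      hE, Finset.sum_const, Finset.card_univ, ← Nat.card_eq_fintype_card, nsmul_eq_mul] at e
    exact e.symm
  have h3 : (∑ g : G, LinearMap.trace ℂ V ((avg U R ∘ₗ R g⁻¹) ∘ₗ (avg U R ∘ₗ R g))) *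
      (Module.finrank ℂ V : ℂ) =
      (((Nat.card G : ℝ) * (Module.finrank ℂ (fixedSpace U R) : ℝ) ^ 2 : ℝ) : ℂ) := by
    rw [h1, mul_right_comm, h2]
    push_cast
    ring
  have h4 := congrArg Complex.re h3
  rw [Complex.ofReal_re, Complex.mul_re, Complex.natCast_re, Complex.natCast_im, mul_zero, sub_zero,
    Complex.re_sum] at h4
  exact h4

theorem phi_ge (g : G) :
    (Module.finrank ℂ (fixedSpace U R) : ℝ) / (cellCount P (wIdx P g) : ℝ) ^ 2 ≤ phi U R g := by
  obtain ⟨n, hn⟩ := QuotientGroup.mk_surjective (wIdx P g)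
  obtain ⟨b, hb, c, hc, e⟩ :=
    exists_of_mem_cell P (mem_cell_wIdx P g) (hn ▸ mem_cell_self P n)
  rw [e, phi_conj P hU R hb hc, phi_eq_sum R hR (n : G) (stdOrthonormalBasis ℂ _), ← e]
  set q : ℝ := (cellCount P (wIdx P g) : ℝ)
  have hq : 0 < q := Nat.cast_pos.2 (cellCount_pos P _)
  have hle : ∀ i, 1 / q ^ 2 ≤ ‖op U R (n : G) (stdOrthonormalBasis ℂ (fixedSpace U R) i).1‖ ^ 2 := by
    intro i
    set z := stdOrthonormalBasis ℂ (fixedSpace U R) i
    have h := norm_le_op P hU R hR n (avg_of_mem R z.2)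
    have hz : ‖z.1‖ = 1 := (stdOrthonormalBasis ℂ (fixedSpace U R)).orthonormal.1 i
    rw [hz, hn] at h
    rw [div_le_iff₀ (by positivity), ← mul_pow]
    exact one_le_pow₀ (by rw [mul_comm]; exact h)
  refine le_trans (le_of_eq ?_) (Finset.sum_le_sum fun i _ => hle i)
  rw [Finset.sum_const, Finset.card_univ, Fintype.card_fin, nsmul_eq_mul, mul_one_div]

/-- All lower bounds are attained. -/
theorem phi_eq [R.IsIrreducible] (hvan : ∀ u ∈ U, u ≠ 1 → R.character u = 0) {n0 : P.N}
    (hn0 : NoAsc P (QuotientGroup.mk n0))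
    (htriv : ∀ u ∈ U, (n0 : G)⁻¹ * u * n0 ∈ P.B → u = 1) (g : G) :
    phi U R g = (Module.finrank ℂ (fixedSpace U R) : ℝ) / (cellCount P (wIdx P g) : ℝ) ^ 2 := by
  classical
  haveI := Fintype.ofFinite G
  haveI := Fintype.ofFinite U
  haveI : Fintype (Weyl P) := Fintype.ofFinite _
  set m : ℝ := (Module.finrank ℂ (fixedSpace U R) : ℝ) with hm
  set w0 : Weyl P := QuotientGroup.mk n0 with hw0
  have hc0 : cellCount P w0 = Nat.card U := by
    have h := cellCount_mul_stab P hU n0
    rwa [show Nat.card {u : U // (n0 : G)⁻¹ * u * n0 ∈ P.B} = 1 from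
      Nat.card_eq_one_iff_unique.2 ⟨⟨fun a b => Subtype.ext (Subtype.ext
        ((htriv _ a.1.2 a.2).trans (htriv _ b.1.2 b.2).symm))⟩,
        ⟨⟨1, by simp⟩⟩⟩, mul_one] at h
  have hdual : ∀ w, cellCount P w * cellCount P (w⁻¹ * w0) = Nat.card U := by
    intro w
    obtain ⟨r, hr, hrl⟩ := exists_reduced P w
    obtain ⟨a, ea, hlen⟩ := exists_factor_of_noLeftAsc P
      (w := w0) (NoAsc.noLeftAsc P hn0) r (by rw [hr, hrl])
    rw [hr] at ea
    rw [← hc0, show w⁻¹ * w0 = a by rw [ea, inv_mul_cancel_left], ea]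
    exact (cellCount_mul P (by rw [← ea]; omega)).symm
  have hn : (Module.finrank ℂ V : ℝ) = (Nat.card U : ℝ) * m := by
    have hproj : LinearMap.IsProj (fixedSpace U R) (avg U R) :=
      ⟨fun x => LinearMap.mem_range_self _ _, fun x hx => avg_of_mem R hx⟩
    have hE := hproj.trace
    have e : LinearMap.trace ℂ V (avg U R) =
        (Nat.card U : ℂ)⁻¹ * ∑ u : U, R.character (u : G) := by
      rw [show avg U R = (Nat.card U : ℂ)⁻¹ • ∑ u : U, R (u : G) from
        LinearMap.ext fun x => by simp [avg_apply, LinearMap.sum_apply], map_smul, map_sum,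
        smul_eq_mul]
      rfl
    rw [e, Finset.sum_eq_single (1 : U), Subgroup.coe_one, Representation.char_one] at hE
    · have h2 : (Module.finrank ℂ V : ℂ) =
          (Nat.card U : ℂ) * Module.finrank ℂ (fixedSpace U R) := by
        rw [← hE, ← mul_assoc, mul_inv_cancel₀ (Nat.cast_ne_zero.2 Nat.card_pos.ne'), one_mul]
      rw [hm]
      exact_mod_cast h2
    · exact fun u _ hu => hvan u u.2 fun h => hu (Subtype.ext h)
    · exact fun h => absurd (Finset.mem_univ _) h
  have hmpos : 0 < m := by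
    rw [hm, Nat.cast_pos]
    refine Nat.pos_of_ne_zero fun h0 => ?_
    rw [hm, h0, Nat.cast_zero, mul_zero, Nat.cast_eq_zero] at hn
    haveI := Char.nontrivial_of_isIrreducible R
    exact Module.finrank_pos.ne' hn
  have hG : (Nat.card G : ℝ) = (Nat.card P.B : ℝ) * ∑ w, (cellCount P w : ℝ) := by
    have h := sum_wIdx P (fun _ => (1 : ℝ))
    simpa [Nat.card_eq_fintype_card] using h
  have htot : ∑ g : G, phi U R g = ∑ g : G, m / (cellCount P (wIdx P g) : ℝ) ^ 2 := by
    rw [sum_wIdx P (fun w => m / (cellCount P w : ℝ) ^ 2)]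
    have h1 := sum_phi (U := U) R
    rw [hn, ← hm, hG] at h1
    have hU0 : (0 : ℝ) < Nat.card U := Nat.cast_pos.2 Nat.card_pos
    have e1 : ∑ w, (cellCount P w : ℝ) * (m / (cellCount P w : ℝ) ^ 2) =
        m / Nat.card U * ∑ w, (cellCount P (w⁻¹ * w0) : ℝ) := by
      rw [Finset.mul_sum]
      refine Finset.sum_congr rfl fun w _ => ?_
      have hw : (cellCount P w : ℝ) * cellCount P (w⁻¹ * w0) = Nat.card U := by
        exact_mod_cast hdual w
      have hw' : (cellCount P w : ℝ) ≠ 0 := Nat.cast_ne_zero.2 (cellCount_pos P w).ne'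
      have hw'' : (cellCount P (w⁻¹ * w0) : ℝ) ≠ 0 := Nat.cast_ne_zero.2 (cellCount_pos P _).ne'
      rw [← hw]
      field_simp
    rw [e1, Fintype.sum_equiv ((Equiv.inv (Weyl P)).trans (Equiv.mulRight w0))
      (fun w => (cellCount P (w⁻¹ * w0) : ℝ)) (fun w => (cellCount P w : ℝ)) fun w => rfl]
    field_simp
    nlinarith [h1, hmpos]
  exact ((Finset.sum_eq_sum_iff_of_le fun g _ => phi_ge P hU R hR g).1 htot.symm g
    (Finset.mem_univ g)).symm

/-- The conclusions on the fixed space. -/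
theorem fixed_facts [R.IsIrreducible] (hvan : ∀ u ∈ U, u ≠ 1 → R.character u = 0) {n0 : P.N}
    (hn0 : NoAsc P (QuotientGroup.mk n0))
    (htriv : ∀ u ∈ U, (n0 : G)⁻¹ * u * n0 ∈ P.B → u = 1) (s : P.S) :
    (∀ x, avg U R x = x → R (s : G) x = x → x = 0) ∧
      ∀ u1 u2 b1 b2 v1 v2, u1 ∈ U → u2 ∈ U → b1 ∈ P.B → b2 ∈ P.B → v1 ∈ U → v2 ∈ U →
        (s : G) * u1 * s = b1 * s * v1 → (s : G) * u2 * s = b2 * s * v2 →
          ∀ y, avg U R y = y → R (b1⁻¹ * b2) y = y := by
  classical
  haveI := Fintype.ofFinite U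
  set q : ℝ := (cellCount P (refl P s) : ℝ) with hqd
  have hq : 2 ≤ q := by rw [hqd]; exact_mod_cast two_le_cellCount_refl P hU s
  have hiso : ∀ x, avg U R x = x → q * ‖op U R (s : G) x‖ = ‖x‖ := by
    intro x hx
    by_contra hne
    have hlt : ‖x‖ < q * ‖op U R (s : G) x‖ :=
      lt_of_le_of_ne (norm_le_op_refl P hU R hR s hx) (Ne.symm hne)
    have hphi := phi_eq P hU R hR hvan hn0 htriv (s : G)
    rw [wIdx_eq P (coe_mem_cell_refl P s), ← hqd] at hphi
    -- an orthonormal basis of eigenvectors shows that the operator is a multiple of an isometry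
    set e := (isSymmetric_midOp (U := U) R hR (s : G)).eigenvectorBasis rfl
    rw [phi_eq_sum R hR (s : G) e] at hphi
    have hge : ∀ i ∈ (Finset.univ : Finset (Fin (Module.finrank ℂ (fixedSpace U R)))),
        1 / q ^ 2 ≤ ‖op U R (s : G) (e i).1‖ ^ 2 := by
      intro i _
      have h := norm_le_op_refl P hU R hR s (avg_of_mem R (e i).2)
      have hz : ‖(e i).1‖ = 1 := e.orthonormal.1 i
      rw [hz, ← hqd] at h
      rw [div_le_iff₀ (by positivity), ← mul_pow]
      exact one_le_pow₀ (by rw [mul_comm]; exact h)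
    have heq := (Finset.sum_eq_sum_iff_of_le hge).1 (by
      rw [hphi, Finset.sum_const, Finset.card_univ, Fintype.card_fin, nsmul_eq_mul, mul_one_div])
    have hT := isSymmetric_midOp (U := U) R hR (s : G)
    have hμ : ∀ i, midOp R (s : G) (e i) = ((1 / q ^ 2 : ℝ) : ℂ) • e i := by
      intro i
      have hv := hT.apply_eigenvectorBasis rfl i
      have h1 := inner_midOp R hR (s : G) (e i) (e i)
      rw [hv, inner_smul_right, inner_self_eq_norm_sq_to_K, inner_self_eq_norm_sq_to_K] at h1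
      have h2 : (hT.eigenvalues rfl i : ℂ) * ((‖(e i).1‖ : ℂ)) ^ 2 =
          ((‖op U R (s : G) (e i).1‖ : ℂ)) ^ 2 := h1
      rw [show ‖(e i).1‖ = 1 from e.orthonormal.1 i] at h2
      simp at h2
      rw [hv, heq i (Finset.mem_univ i)]
      congr 1
      push_cast
      exact h2
    have hall : midOp (U := U) R (s : G) = ((1 / q ^ 2 : ℝ) : ℂ) • LinearMap.id :=
      e.toBasis.ext fun i => by simpa using hμ i
    have h1 := inner_midOp R hR (s : G) (⟨x, x, hx⟩ : fixedSpace U R) ⟨x, x, hx⟩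
    rw [hall, LinearMap.smul_apply, LinearMap.id_apply, inner_smul_right, inner_self_eq_norm_sq_to_K,
      inner_self_eq_norm_sq_to_K] at h1
    have h2 : ((1 / q ^ 2 : ℝ) : ℂ) * ((‖x‖ : ℂ)) ^ 2 = ((‖op U R (s : G) x‖ : ℂ)) ^ 2 := h1
    have h3 : 1 / q ^ 2 * ‖x‖ ^ 2 = ‖op U R (s : G) x‖ ^ 2 := by exact_mod_cast h2
    have h4 : ‖x‖ ^ 2 = (q * ‖op U R (s : G) x‖) ^ 2 := by
      rw [mul_pow, ← h3]
      field_simp
    exact absurd (pow_left_inj₀ (norm_nonneg _) (by positivity) two_ne_zero |>.1 h4) hlt.ne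
  constructor
  · intro x hx hfix
    have h := hiso x hx
    rw [op_apply, hfix, hx] at h
    have : ‖x‖ = 0 := by nlinarith [norm_nonneg x]
    exact norm_eq_zero.1 this
  · intro u1 u2 b1 b2 v1 v2 hu1 hu2 hb1 hb2 hv1 hv2 e1 e2 y hy
    obtain ⟨bad, β, hβB, hβ, hmem, hcard, hquad⟩ := exists_quadratic P hU R s
    have hinj : Function.Injective ((op U R (s : G)).restrict
        (p := fixedSpace U R) (q := fixedSpace U R) fun z _ => LinearMap.mem_range_self _ _) := by
      rw [injective_iff_map_eq_zero]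
      rintro ⟨z, hz⟩ h0
      have h1 : op U R (s : G) z = 0 := congrArg Subtype.val h0
      have h2 := hiso z (avg_of_mem R hz)
      rw [h1, norm_zero, mul_zero, eq_comm, norm_eq_zero] at h2
      exact Subtype.ext h2
    obtain ⟨⟨x, hx⟩, hxy⟩ := (LinearMap.injective_iff_surjective.1 hinj) ⟨y, y, hy⟩
    have hy' : op U R (s : G) x = y := congrArg Subtype.val hxy
    have hxx := avg_of_mem R hx
    have hq' := hquad x hxx
    have e3 : ‖op U R (s : G) y‖ = ‖y‖ / q := by
      rw [eq_div_iff (by linarith), mul_comm]; exact hiso y hy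
    have hxn : ‖x‖ = q * ‖y‖ := by rw [← hy']; exact (hiso x hxx).symm
    rw [hy'] at hq'
    rw [← sub_eq_iff_eq_add'] at hq'
    have h5 := norm_sub_norm_le ((cellCount P (refl P s) : ℂ)⁻¹ • R ((s : G) * s) x)
      (op U R (s : G) y)
    rw [norm_sub_rev _ (op U R (s : G) y), hq', norm_smul, norm_smul, norm_inv, norm_inv,
      Complex.norm_natCast, Complex.norm_natCast, norm_apply R hR, hxn, e3, ← hqd, ← mul_assoc,
      inv_mul_cancel₀ (by linarith), one_mul] at h5
    have hbound : (bad.card : ℝ) * ‖y‖ ≤ ‖∑ u ∈ bad, R (β u) y‖ := by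
      have hU0 : (0 : ℝ) < Nat.card U := Nat.cast_pos.2 Nat.card_pos
      rw [hcard, ← hqd]
      have h6 := mul_le_mul_of_nonneg_left h5 hU0.le
      rw [← mul_assoc, mul_inv_cancel₀ hU0.ne', one_mul] at h6
      refine le_trans (le_of_eq ?_) h6
      field_simp
    have key : ∀ (u : G) (hu : u ∈ U) (b v : G), b ∈ P.B → v ∈ U →
        (s : G) * u * s = b * s * v → (⟨u, hu⟩ : U) ∈ bad ∧ R b y = R (β ⟨u, hu⟩) y := by
      intro u hu b v hb hv e
      have hm := hmem ⟨u, hu⟩ ⟨b, hb, v, hv, e⟩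
      obtain ⟨v', hv', e'⟩ := hβ _ hm
      refine ⟨hm, ?_⟩
      rw [← hy', ← op_left P hU R hb hv hxx, ← e, e', op_left P hU R (hβB _ hm) hv' hxx]
    obtain ⟨m1, k1⟩ := key u1 hu1 b1 v1 hb1 hv1 e1
    obtain ⟨m2, k2⟩ := key u2 hu2 b2 v2 hb2 hv2 e2
    have heq := eq_of_norm_sum_eq (fun u _ => norm_apply R hR (β u) y) hbound m1 m2
    rw [apply_mul, k2, ← heq, ← k1, ← apply_mul, inv_mul_cancel, map_one]
    rfl

end unitary

/-- An irreducible character vanishing on `U` away from the identity is the Steinberg character. -/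
theorem eq_st_of_vanishes [Fintype P.S] {n0 : P.N} (hn0 : NoAsc P (QuotientGroup.mk n0))
    (htriv : ∀ u ∈ U, (n0 : G)⁻¹ * u * n0 ∈ P.B → u = 1)
    (hgen : ∀ K : Subgroup G, U ≤ K →
      (∀ (s : P.S) (u1 u2 b1 b2 v1 v2 : G), u1 ∈ U → u2 ∈ U → b1 ∈ P.B → b2 ∈ P.B → v1 ∈ U → v2 ∈ U →
        (s : G) * u1 * s = b1 * s * v1 → (s : G) * u2 * s = b2 * s * v2 → b1⁻¹ * b2 ∈ K) → P.B ≤ K)
    {χ : G → ℂ} (hχ : IsIrrCharacter G χ) (hvan : ∀ u ∈ U, u ≠ 1 → χ u = 0) : χ = st P := by
  classical
  haveI := Fintype.ofFinite G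
  obtain ⟨V, _, _, _, R, hirr, hRχ, hR⟩ := exists_unitary hχ
  haveI := hirr
  subst hRχ
  have hfacts := fixed_facts P hU R hR hvan hn0 htriv
  let K : Subgroup G :=
    { carrier := {g | ∀ y, avg U R y = y → R g y = y}
      one_mem' := fun y _ => by rw [map_one]; rfl
      mul_mem' := fun {a b} ha hb y hy => by rw [apply_mul, hb y hy, ha y hy]
      inv_mem' := fun {a} ha y hy => by
        conv_lhs => rw [← ha y hy]
        rw [← apply_mul, inv_mul_cancel, map_one]
        rfl }
  have hBK : P.B ≤ K := hgen K (fun u hu y hy => by rw [← hy]; exact apply_avg R hu y)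
    fun s u1 u2 b1 b2 v1 v2 a1 a2 a3 a4 a5 a6 e1 e2 y hy =>
      (hfacts s).2 u1 u2 b1 b2 v1 v2 a1 a2 a3 a4 a5 a6 e1 e2 y hy
  -- the multiplicities in the parabolic permutation characters
  have hsum : ∀ J : Finset P.S, ∑ h : par P (J : Set P.S), R.character (h : G) =
      if J = ∅ then (Nat.card P.B : ℂ) * Module.finrank ℂ (fixedSpace U R) else 0 := by
    intro J
    have etr : ∑ h : par P (J : Set P.S), R.character (h : G) =
        LinearMap.trace ℂ V (∑ h : par P (J : Set P.S), R (h : G)) := by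
      rw [map_sum]; rfl
    have hfix : ∀ (x : V) (a : G), a ∈ par P (J : Set P.S) →
        R a ((∑ h : par P (J : Set P.S), R (h : G)) x) =
          (∑ h : par P (J : Set P.S), R (h : G)) x := by
      intro x a ha
      rw [LinearMap.sum_apply, map_sum]
      exact Fintype.sum_equiv (Equiv.mulLeft ⟨a, ha⟩) _ _ fun h => (apply_mul R _ _ x).symm
    have havg : ∀ x, avg U R ((∑ h : par P (J : Set P.S), R (h : G)) x) =
        (∑ h : par P (J : Set P.S), R (h : G)) x := fun x =>
      avg_of_fixed R fun u hu => hfix x u (B_le_par P _ (hU.le hu))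
    rw [etr]
    split_ifs with hJ
    · subst hJ
      have hparB : par P ((∅ : Finset P.S) : Set P.S) = P.B := by
        rw [par, Finset.coe_empty, Set.image_empty, Cfsg.BNPair.parabolic, Subgroup.closure_empty,
          sup_bot_eq]
      have hop : (∑ h : par P ((∅ : Finset P.S) : Set P.S), R (h : G)) =
          (Nat.card P.B : ℂ) • avg U R := by
        ext x
        have hcomm : (∑ h : par P ((∅ : Finset P.S) : Set P.S), R (h : G)) x =
            (∑ h : par P ((∅ : Finset P.S) : Set P.S), R (h : G)) (avg U R x) := by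
          conv_lhs => rw [← havg x]
          simp only [LinearMap.sum_apply, map_sum]
          exact Finset.sum_congr rfl fun h _ => avg_comm P hU R (hparB.le h.2) x
        rw [hcomm, LinearMap.smul_apply, LinearMap.sum_apply,
          Finset.sum_congr rfl fun h _ => hBK (hparB.le h.2) _ (avg_avg R x), Finset.sum_const,
          Finset.card_univ, ← Nat.card_eq_fintype_card, ← Nat.cast_smul_eq_nsmul ℂ]
        rw [hparB]
      have hproj : LinearMap.IsProj (fixedSpace U R) (avg U R) :=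
        ⟨fun x => LinearMap.mem_range_self _ _, fun x hx => avg_of_mem R hx⟩
      rw [hop, map_smul, hproj.trace, smul_eq_mul]
    · obtain ⟨s, hs⟩ := Finset.nonempty_iff_ne_empty.2 hJ
      have h0 : (∑ h : par P (J : Set P.S), R (h : G)) = 0 := LinearMap.ext fun x =>
        (hfacts s).1 _ (havg x)
          (hfix x s (mem_par_of_cell P (l := [s]) (by simpa using hs)
            (by rw [word_singleton]; exact coe_mem_cell_refl P s)))
      rw [h0, map_zero]
  have hcls : ∀ J : Finset P.S,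
      classInner (fixedPointCharacter (par P (J : Set P.S))) R.character =
        conj ((Nat.card (par P (J : Set P.S)) : ℂ)⁻¹ *
          ∑ h : par P (J : Set P.S), R.character (h : G)) := by
    intro J
    set H := par P (J : Set P.S)
    haveI := Fintype.ofFinite (G ⧸ H)
    have key : ∑ g : G, fixedPointCharacter H g * conj (R.character g) =
        (Nat.card (G ⧸ H) : ℂ) * ∑ h : H, conj (R.character (h : G)) := by
      simp only [fixedPointCharacter, Nat.card_eq_fintype_card, Fintype.card_subtype,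
        Finset.card_filter, Nat.cast_sum, Finset.sum_mul, Nat.cast_ite, Nat.cast_one,
        Nat.cast_zero, ite_mul, one_mul, zero_mul, MulAction.mem_fixedBy]
      rw [Finset.sum_comm]
      have : ∀ x : G ⧸ H, (∑ g : G, if g • x = x then conj (R.character g) else 0) =
          ∑ h : H, conj (R.character (h : G)) := by
        intro x
        rw [← Finset.sum_filter, Finset.sum_subtype (p := fun g : G => g • x = x) _ (by simp)]
        let e : {g : G // g • x = x} ≃ H :=
          { toFun := fun g => ⟨x.out⁻¹ * g.1 * x.out, conj_out_mem x g.2⟩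
            invFun := fun h => ⟨x.out * h.1 * x.out⁻¹, conj_out_smul x h.2⟩
            left_inv := fun g => Subtype.ext (by simp [mul_assoc])
            right_inv := fun h => Subtype.ext (by simp [mul_assoc]) }
        refine Fintype.sum_equiv e _ _ fun g => ?_
        congr 1
        exact (Char.IsClassFunction.apply_of_isConj
          (Char.IsCharacter.isClassFunction (Char.isCharacter_character R))
          (isConj_iff.2 ⟨x.out⁻¹, by simp [e]⟩))
      rw [Finset.sum_congr rfl fun x _ => this x, Finset.sum_const, Finset.card_univ, nsmul_eq_mul]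
    rw [classInner, key, map_mul, map_inv₀, map_natCast, map_sum, ← mul_assoc]
    congr 1
    rw [H.card_eq_card_quotient_mul_card_subgroup, Nat.cast_mul, mul_inv,
      mul_comm (Nat.card (G ⧸ H) : ℂ)⁻¹, mul_assoc,
      inv_mul_cancel₀ (Nat.cast_ne_zero.2 Nat.card_pos.ne'), mul_one]
  have hst : classInner (st P) R.character = (Module.finrank ℂ (fixedSpace U R) : ℂ) := by
    have e : classInner (st P) R.character = ∑ J : Finset P.S,
        (-1 : ℂ) ^ J.card * classInner (fixedPointCharacter (par P (J : Set P.S))) R.character := by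
      simp only [classInner, st, Finset.sum_mul, Finset.mul_sum]
      rw [Finset.sum_comm]
      exact Finset.sum_congr rfl fun J _ => Finset.sum_congr rfl fun g _ => by ring
    rw [e, Finset.sum_eq_single (∅ : Finset P.S)]
    · rw [hcls, hsum, if_pos rfl, Finset.card_empty, pow_zero, one_mul]
      have hparB : par P ((∅ : Finset P.S) : Set P.S) = P.B := by
        rw [par, Finset.coe_empty, Set.image_empty, Cfsg.BNPair.parabolic, Subgroup.closure_empty,
          sup_bot_eq]
      rw [hparB, ← mul_assoc, inv_mul_cancel₀ (Nat.cast_ne_zero.2 Nat.card_pos.ne'), one_mul,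
        map_natCast]
    · intro J _ hJ
      rw [hcls, hsum, if_neg hJ, mul_zero, map_zero, mul_zero]
    · exact fun h => absurd (Finset.mem_univ _) h
  by_contra hne
  have h0 := Char.classInner_irr_of_ne (isIrrCharacter_st P) (Char.isIrrCharacter_character R hirr)
    (fun h => hne h.symm)
  rw [hst, Nat.cast_eq_zero] at h0
  have h1 : (LinearMap.trace ℂ V) (avg U R) = (Nat.card U : ℂ)⁻¹ * R.character 1 := by
    haveI := Fintype.ofFinite U
    rw [show avg U R = (Nat.card U : ℂ)⁻¹ • ∑ u : U, R (u : G) from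
      LinearMap.ext fun x => by simp [avg_apply, LinearMap.sum_apply], map_smul, map_sum, smul_eq_mul,
      Finset.sum_eq_single (1 : U)]
    · rfl
    · exact fun u _ hu => hvan u u.2 fun h => hu (Subtype.ext h)
    · exact fun h => absurd (Finset.mem_univ _) h
  have hproj : LinearMap.IsProj (fixedSpace U R) (avg U R) :=
    ⟨fun x => LinearMap.mem_range_self _ _, fun x hx => avg_of_mem R hx⟩
  rw [hproj.trace, h0, Nat.cast_zero, eq_comm, mul_eq_zero, inv_eq_zero, Nat.cast_eq_zero] at h1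
  exact Char.IsIrrCharacter.apply_one_ne_zero (Char.isIrrCharacter_character R hirr)
    (h1.resolve_left Nat.card_pos.ne')

end split

end Cfsg.Agent.BN
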