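/-
The values of the Steinberg character of a finite group with a split (B,N)-pair of characteristic `p` at the
elements of order prime to `p`: up to sign, the `p`-part of the order of the centralizer.

If no conjugate of `s` lies in a parabolic subgroup smaller than `P_K ∋ s`, the only `P_K`-orbit on cosets of
parabolic subgroups with fixed points of `s` and a nonzero alternating sum carries a regular action of the
`p`-core of `P_K`, so `|st s|` is at most the `p`-part of `|C(s)|`; the fixed point counts show that this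
`p`-part divides `st s`, and congruences modulo the primes dividing the order of `s` show that `st s ≠ 0`.
-/
import Cfsg.Agent.Lib.BNPair.DefectZero
import Mathlib.GroupTheory.PGroup

set_option autoImplicit false
set_option linter.style.haveILetI false
set_option linter.unusedSectionVars false

namespace Cfsg.Agent.BN

open Cfsg

universe u

variable {G : Type u} [Group G] (P : BNPair G)

/-! ### Kilmoyer -/

/-- The elements of `K` that `w` conjugates into `J`. -/
def lPart (K J : Set P.S) (w : Weyl P) : Set P.S :=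
  {k | k ∈ K ∧ ∃ j ∈ J, refl P k * w = w * refl P j}

/-- The elements of `J` that `w` conjugates into `K`. -/
def rPart (K J : Set P.S) (w : Weyl P) : Set P.S :=
  {j | j ∈ J ∧ ∃ k ∈ K, refl P k * w = w * refl P j}

theorem len_mul_of_asc_left {K : Set P.S} {w x : Weyl P} (hw : ∀ k ∈ K, len P w < len P (refl P k * w))
    (hx : InW P K x) : len P (x * w) = len P x + len P w := by
  have h : Asc P ∅ K w⁻¹ := by
    refine ⟨by simp, fun k hk => ?_⟩
    have : w⁻¹ * refl P k = (refl P k * w)⁻¹ := by rw [mul_inv_rev, refl_inv]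
    rw [this, len_inv, len_inv]
    exact hw k hk
  have := len_mul_of_asc P h hx.inv
  rw [← mul_inv_rev, len_inv, len_inv, len_inv] at this
  omega

theorem kilmoyer {K J : Set P.S} {w : Weyl P} (hl : ∀ k ∈ K, len P w < len P (refl P k * w))
    (hr : Asc P ∅ J w) :
    ∀ (n : ℕ) (x y : Weyl P), len P x = n → InW P K x → InW P J y → x * w = w * y →
      InW P (lPart P K J w) x ∧ InW P (rPart P K J w) y := by
  intro n
  induction n with
  | zero =>
    intro x y hx _ _ e
    obtain rfl := (len_eq_zero P).1 hx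
    rw [one_mul, left_eq_mul] at e
    exact ⟨⟨[], by simp, rfl⟩, ⟨[], by simp, by simp [e]⟩⟩
  | succ n ih =>
    intro x y hx hxK hyJ e
    obtain ⟨l, hl', rfl⟩ := hxK
    obtain ⟨r, hrK, hrw, hrl⟩ := exists_reduced_sublist P l hl'
    rw [← hrw] at e hx ⊢
    rw [← hrw] at hrl
    cases r with
    | nil =>
      rw [word_nil, (len_eq_zero P).2 rfl] at hx
      omega
    | cons k r =>
      have hkK : k ∈ K := hrK k List.mem_cons_self
      have hrK' : InW P K (word P r) := ⟨r, fun s hs => hrK s (List.mem_cons_of_mem _ hs), rfl⟩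
      have hxK : InW P K (word P (k :: r)) := ⟨k :: r, hrK, rfl⟩
      simp only [List.length_cons] at hrl
      have h1 := len_word_le P r
      have h2 : len P (word P (k :: r)) ≤ len P (word P r) + 1 := by
        rw [word_cons]; exact len_refl_mul_le P k _
      have hlt : len P (refl P k * (w * y)) < len P (w * y) := by
        rw [← e, ← mul_assoc, word_cons, refl_cancel_left, ← word_cons,
          len_mul_of_asc_left P hl hrK', len_mul_of_asc_left P hl hxK]
        omega
      obtain ⟨α, hα, hαl⟩ := exists_reduced P w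
      obtain ⟨l2, hl2, hl2e⟩ := id hyJ
      obtain ⟨β, hβJ, hβw, hβl⟩ := exists_reduced_sublist P l2 hl2
      rw [hl2e] at hβw hβl
      have hwy : word P (α ++ β) = w * y := by rw [word_append, hα, hβw]
      obtain ⟨i, hi, hi'⟩ := exchange P k (α ++ β)
        (by rw [hwy, List.length_append, len_mul_of_asc P hr hyJ]; omega)
        (by rw [hwy, List.length_append]; have := len_mul_of_asc P hr hyJ; omega)
      rw [hwy] at hi'
      rw [List.length_append] at hi
      by_cases hia : i < α.length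
      · exfalso
        rw [List.eraseIdx_append_of_lt_length hia, word_append, hβw, ← mul_assoc] at hi'
        have e1 := mul_right_cancel hi'
        have h3 := len_word_le P (α.eraseIdx i)
        rw [← e1, List.length_eraseIdx, if_pos hia] at h3
        have := hl k hkK
        omega
      · rw [List.eraseIdx_append_of_length_le (not_lt.1 hia), word_append, hα] at hi'
        set y' := word P (β.eraseIdx (i - α.length)) with hy'
        have hy'J : InW P J y' := ⟨_, fun s hs => hβJ s (List.mem_of_mem_eraseIdx hs), rfl⟩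
        have htJ : InW P J (y' * y⁻¹) := hy'J.mul hyJ.inv
        have et : refl P k * w = w * (y' * y⁻¹) := by
          rw [← mul_assoc, ← hi']; group
        have hlt1 : len P (y' * y⁻¹) = 1 := by
          have h3 := len_mul_of_asc P hr htJ
          rw [← et] at h3
          have h4 := len_refl_mul_le P k w
          have := hl k hkK
          omega
        obtain ⟨lt, hlt2, hlt3⟩ := id htJ
        obtain ⟨t, ht, htw, htl⟩ := exists_reduced_sublist P lt hlt2
        rw [hlt3, hlt1] at htl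
        obtain ⟨j, rfl⟩ := List.length_eq_one_iff.1 htl.symm
        have hjJ : j ∈ J := ht j List.mem_cons_self
        rw [word_singleton, hlt3] at htw
        rw [← htw] at et
        have hyeq : y = refl P j * y' := by
          rw [htw]
          calc y = (y' * y⁻¹)⁻¹ * y' := by group
            _ = _ := by rw [← htw, refl_inv]
        have e' : word P r * w = w * y' := by
          rw [← hi', ← e, ← mul_assoc, word_cons, refl_cancel_left]
        obtain ⟨⟨a, ha, ha'⟩, ⟨b, hb, hb'⟩⟩ := ih (word P r) y' (by omega) hrK' hy'J e'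
        refine ⟨⟨k :: a, ?_, by rw [word_cons, word_cons, ha']⟩, ⟨j :: b, ?_, by rw [word_cons, hb', hyeq]⟩⟩
        · intro s hs
          rcases List.mem_cons.1 hs with rfl | hs
          exacts [⟨hkK, j, hjJ, et⟩, ha s hs]
        · intro s hs
          rcases List.mem_cons.1 hs with rfl | hs
          exacts [⟨hjJ, k, hkK, et⟩, hb s hs]

/-- If `c ∈ P_K` and `g⁻¹ c g ∈ P_J` with `g` in a cell of minimal length in its double coset, both lie in the
parabolic subgroups of the conjugate parts. -/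
theorem mem_par_parts {K J : Set P.S} {w : Weyl P} (hl : ∀ k ∈ K, len P w < len P (refl P k * w))
    (hr : Asc P ∅ J w) {g c : G} (hg : g ∈ cell P w) (hc : c ∈ par P K) (hcg : g⁻¹ * c * g ∈ par P J) :
    c ∈ par P (lPart P K J w) ∧ g⁻¹ * c * g ∈ par P (rPart P K J w) ∧
      wIdx P c * w = w * wIdx P (g⁻¹ * c * g) := by
  have hx := inW_wIdx P hc
  have hy := inW_wIdx P hcg
  have h1 := mul_mem_of_additive P (len_mul_of_asc_left P hl hx) (mem_cell_wIdx P c) hg
  have h2 := mul_mem_of_additive P (len_mul_of_asc P hr hy) hg (mem_cell_wIdx P (g⁻¹ * c * g))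
  have e : g * (g⁻¹ * c * g) = c * g := by group
  rw [e] at h2
  have e' := cell_disjoint P h1 h2
  obtain ⟨⟨a, ha, ha'⟩, ⟨b, hb, hb'⟩⟩ := kilmoyer P hl hr _ _ _ rfl hx hy e'
  exact ⟨mem_par_of_cell P ha (ha' ▸ mem_cell_wIdx P c),
    mem_par_of_cell P hb (hb' ▸ mem_cell_wIdx P (g⁻¹ * c * g)), e'⟩

/-! ### Orbits of a parabolic subgroup -/

/-- All of `K` is conjugated by `w` to distinguished generators. -/
def Full (K : Set P.S) (w : Weyl P) : Prop := ∀ k ∈ K, ∃ j : P.S, refl P k * w = w * refl P j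

/-- The image of `K` under `w`. -/
def tgt (K : Set P.S) (w : Weyl P) : Set P.S := {j | ∃ k ∈ K, refl P k * w = w * refl P j}

/-- No conjugate under `P_K` of `s` lies in a smaller parabolic subgroup. -/
def Isolated (K : Set P.S) (s : G) : Prop :=
  s ∈ par P K ∧ ∀ L : Set P.S, L ⊆ K → L ≠ K → ∀ c ∈ par P K, c⁻¹ * s * c ∉ par P L

/-- A coset is reached from the cell of `w` by `P_K`. -/
def InOrbit (K : Set P.S) (w : Weyl P) {J : Set P.S} (x : G ⧸ par P J) : Prop :=
  ∃ c ∈ par P K, ∃ g ∈ cell P w, ((c * g : G) : G ⧸ par P J) = x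

theorem InOrbit.exists_rep {K : Set P.S} {w : Weyl P} {J : Set P.S} {x : G ⧸ par P J}
    (h : InOrbit P K w x) {g0 : G} (hg0 : g0 ∈ cell P w) :
    ∃ c ∈ par P K, ((c * g0 : G) : G ⧸ par P J) = x := by
  obtain ⟨c, hc, g, hg, rfl⟩ := h
  obtain ⟨b, hb, b', hb', rfl⟩ := exists_of_mem_cell P hg hg0
  refine ⟨c * b, (par P K).mul_mem hc (B_le_par P K hb), ?_⟩
  rw [QuotientGroup.eq]
  have : (c * b * g0)⁻¹ * (c * (b * g0 * b')) = b' := by group
  rw [this]
  exact B_le_par P J hb'

theorem InOrbit.eq {K J : Set P.S} {w w' : Weyl P} {x : G ⧸ par P J} (h : InOrbit P K w x)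
    (h' : InOrbit P K w' x) (hw : Asc P K J w) (hw' : Asc P K J w') : w' = w := by
  obtain ⟨c, hc, g, hg, rfl⟩ := h
  obtain ⟨c', hc', g', hg', e⟩ := h'
  rw [QuotientGroup.eq] at e
  obtain ⟨u, hu, hu'⟩ := exists_par_mul_mem P ((par P K).mul_mem ((par P K).inv_mem hc') hc) hg
  obtain ⟨v, hv, hv'⟩ := exists_mul_par_mem P ((par P J).inv_mem e) hu'
  have e2 : c'⁻¹ * c * g * ((c' * g')⁻¹ * (c * g))⁻¹ = g' := by group
  rw [e2] at hv'
  exact Asc.eq P hw hw' hu hv (cell_disjoint P hg' hv')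

theorem exists_inOrbit (K : Set P.S) {J : Set P.S} (x : G ⧸ par P J) :
    ∃ w, Asc P K J w ∧ InOrbit P K w x := by
  obtain ⟨y, rfl⟩ := QuotientGroup.mk_surjective x
  obtain ⟨m, hm, u, v, hu, hv, e⟩ := exists_dmin P K J (wIdx P y)
  obtain ⟨ab, hab, c, hc, e1⟩ := exists_factor P (e ▸ mem_cell_wIdx P y)
  obtain ⟨a, ha, b, hb, rfl⟩ := exists_factor P hab
  refine ⟨m, DMin.asc P hm, a, mem_par_of_cell P hu ha, b, hb, ?_⟩
  rw [QuotientGroup.eq, e1, ← mul_assoc, inv_mul_cancel, one_mul]
  exact mem_par_of_cell P hv hc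

/-- A fixed coset of an isolated element can only lie in the orbit of an element moving all of `K` into `J`. -/
theorem full_of_fixed {K J : Set P.S} {s : G} (hs : Isolated P K s) {w : Weyl P} (hw : Asc P K J w)
    {x : G ⧸ par P J} (hx : s • x = x) (ho : InOrbit P K w x) : Full P K w ∧ tgt P K w ⊆ J := by
  have hK : lPart P K J w = K := by
    by_contra hne
    obtain ⟨c, hc, g, hg, rfl⟩ := ho
    rw [MulAction.Quotient.smul_coe, smul_eq_mul, eq_comm, QuotientGroup.eq] at hx
    refine hs.2 _ (fun k hk => hk.1) hne c hc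
      (mem_par_parts P hw.1 ⟨by simp, hw.2⟩ hg ?_ ?_).1
    · exact (par P K).mul_mem ((par P K).mul_mem ((par P K).inv_mem hc) hs.1) hc
    · simpa [mul_assoc] using hx
  refine ⟨fun k hk => ?_, ?_⟩
  · rw [← hK] at hk
    exact ⟨_, hk.2.choose_spec.2⟩
  · rintro j ⟨k, hk, e⟩
    rw [← hK] at hk
    obtain ⟨-, j', hj', e'⟩ := hk
    rwa [refl_injective P (mul_left_cancel (e.symm.trans e'))]

theorem tgt_asc {K : Set P.S} {w : Weyl P} (hl : ∀ k ∈ K, len P w < len P (refl P k * w)) :
    Asc P ∅ (tgt P K w) w := by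
  refine ⟨by simp, ?_⟩
  rintro j ⟨k, hk, e⟩
  rw [← e]
  exact hl k hk

/-- The fixed cosets in the orbit of `w` do not depend on the parabolic subgroup. -/
theorem card_fixed_orbit {K J : Set P.S} {w : Weyl P} (hw : Asc P K J w) (hJ : tgt P K w ⊆ J) {s : G} (hs : s ∈ par P K) :
    Nat.card {x : G ⧸ par P J // s • x = x ∧ InOrbit P K w x} =
      Nat.card {x : G ⧸ par P (tgt P K w) // s • x = x ∧ InOrbit P K w x} := by
  obtain ⟨π, hπ⟩ : ∃ π : G ⧸ par P (tgt P K w) → G ⧸ par P J,
      ∀ a : G, π (a : G ⧸ par P (tgt P K w)) = (a : G ⧸ par P J) :=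
    ⟨Subgroup.quotientMapOfLE (par_mono P hJ), fun a => Subgroup.quotientMapOfLE_apply_mk _ a⟩
  have hsm : ∀ (a : G) (x : G ⧸ par P (tgt P K w)), π (a • x) = a • π x := by
    intro a x
    obtain ⟨y, rfl⟩ := QuotientGroup.mk_surjective x
    rw [MulAction.Quotient.smul_coe, hπ, hπ, MulAction.Quotient.smul_coe]
  have ho : ∀ x, InOrbit P K w x → InOrbit P K w (π x) := by
    rintro x ⟨c, hc, g, hg, rfl⟩
    exact ⟨c, hc, g, hg, (hπ _).symm⟩
  obtain ⟨g0, hg0⟩ := cell_nonempty P w
  have hinj : ∀ x x', InOrbit P K w x → InOrbit P K w x' → π x = π x' → x = x' := by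
    intro x x' hx hx' e
    obtain ⟨c, hc, rfl⟩ := hx.exists_rep P hg0
    obtain ⟨c', hc', rfl⟩ := hx'.exists_rep P hg0
    rw [hπ, hπ, QuotientGroup.eq] at e
    rw [QuotientGroup.eq]
    have e2 : (c * g0)⁻¹ * (c' * g0) = g0⁻¹ * (c⁻¹ * c') * g0 := by group
    rw [e2] at e ⊢
    refine par_mono P ?_ (mem_par_parts P hw.1 ⟨by simp, hw.2⟩ hg0
      ((par P K).mul_mem ((par P K).inv_mem hc) hc') e).2.1
    rintro j ⟨-, k, hk, h⟩
    exact ⟨k, hk, h⟩
  have horb : ∀ x : G ⧸ par P (tgt P K w), InOrbit P K w x → InOrbit P K w (s • x) := by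
    rintro x ⟨c, hc, g, hg, rfl⟩
    exact ⟨s * c, (par P K).mul_mem hs hc, g, hg, by
      rw [MulAction.Quotient.smul_coe, smul_eq_mul, mul_assoc]⟩
  refine (Nat.card_eq_of_bijective
    (fun x : {x : G ⧸ par P (tgt P K w) // s • x = x ∧ InOrbit P K w x} =>
      (⟨π x.1, by rw [← hsm, x.2.1], ho _ x.2.2⟩ :
        {x : G ⧸ par P J // s • x = x ∧ InOrbit P K w x})) ⟨?_, ?_⟩).symm
  · exact fun x x' e => Subtype.ext (hinj _ _ x.2.2 x'.2.2 (congrArg Subtype.val e))
  · rintro ⟨x, hx, hxo⟩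
    obtain ⟨c, hc, g, hg, rfl⟩ := id hxo
    have hxo' : InOrbit P K w ((c * g : G) : G ⧸ par P (tgt P K w)) := ⟨c, hc, g, hg, rfl⟩
    refine ⟨⟨((c * g : G) : G ⧸ par P (tgt P K w)), ?_, hxo'⟩, Subtype.ext (hπ _)⟩
    exact hinj _ _ (horb _ hxo') hxo' (by rw [hsm, hπ, hx])

/-! ### The character -/

variable [Finite G] [Fintype P.S]

/-- The Steinberg character as an integer. -/
noncomputable def stZ (g : G) : ℤ :=
  ∑ J : Finset P.S, (-1 : ℤ) ^ J.card *
    (Nat.card {x : G ⧸ par P (J : Set P.S) // g • x = x} : ℤ)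

theorem st_eq_stZ (g : G) : st P g = (stZ P g : ℂ) := by
  simp only [st, stZ, fixedPointCharacter, Int.cast_sum, Int.cast_mul, Int.cast_pow, Int.cast_neg,
    Int.cast_one, Int.cast_natCast]
  rfl

theorem stZ_conj (c g : G) : stZ P (c⁻¹ * g * c) = stZ P g := by
  refine Finset.sum_congr rfl fun J _ => ?_
  congr 2
  refine Nat.card_congr (Equiv.subtypeEquiv (MulAction.toPerm c) fun x => ?_)
  rw [MulAction.toPerm_apply, mul_smul, mul_smul, inv_smul_eq_iff]

/-- The fixed cosets in the orbit of `w`. -/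
noncomputable def orbitFix (K : Set P.S) (w : Weyl P) (s : G) : ℕ :=
  Nat.card {x : G ⧸ par P (tgt P K w) // s • x = x ∧ InOrbit P K w x}

/-- The right ascents. -/
def ascs (w : Weyl P) : Set P.S := {j | len P w < len P (w * refl P j)}

/-- The conditions on `w` for its orbit to contribute. -/
def Contributes (K : Set P.S) (w : Weyl P) : Prop :=
  (∀ k ∈ K, len P w < len P (refl P k * w)) ∧ Full P K w ∧ tgt P K w = ascs P w

theorem card_fixed_eq_sum [Fintype (Weyl P)] {K : Set P.S} {s : G} (hs : Isolated P K s) (J : Set P.S)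
    [∀ w : Weyl P, Decidable (Asc P K J w ∧ Full P K w ∧ tgt P K w ⊆ J)] :
    Nat.card {x : G ⧸ par P J // s • x = x} =
      ∑ w : Weyl P, if Asc P K J w ∧ Full P K w ∧ tgt P K w ⊆ J then orbitFix P K w s else 0 := by
  classical
  choose f hf1 hf2 using fun x : {x : G ⧸ par P J // s • x = x} => exists_inOrbit P K x.1
  haveI := Fintype.ofFinite {x : G ⧸ par P J // s • x = x}
  rw [Nat.card_eq_fintype_card, ← Finset.card_univ,
    Finset.card_eq_sum_card_fiberwise (f := f) (t := Finset.univ) fun x _ => Finset.mem_univ _]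
  refine Finset.sum_congr rfl fun w _ => ?_
  by_cases hw : Asc P K J w ∧ Full P K w ∧ tgt P K w ⊆ J
  · rw [if_pos hw, orbitFix, ← card_fixed_orbit P hw.1 hw.2.2 hs.1, ← Fintype.card_subtype,
      ← Nat.card_eq_fintype_card]
    exact Nat.card_congr
      { toFun := fun x => ⟨x.1.1, x.1.2,
          (congrArg (fun v => InOrbit P K v x.1.1) x.2).mp (hf2 x.1)⟩
        invFun := fun x => ⟨⟨x.1, x.2.1⟩,
          (InOrbit.eq P x.2.2 (hf2 ⟨x.1, x.2.1⟩) hw.1 (hf1 ⟨x.1, x.2.1⟩))⟩
        left_inv := fun _ => rfl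
        right_inv := fun _ => rfl }
  · rw [if_neg hw, Finset.card_eq_zero, Finset.filter_eq_empty_iff]
    intro x _ e
    subst e
    exact hw ⟨hf1 x, full_of_fixed P hs (hf1 x) x.2 (hf2 x)⟩

theorem asc_iff_subset {K : Set P.S} {J : Set P.S} {w : Weyl P}
    (hl : ∀ k ∈ K, len P w < len P (refl P k * w)) : Asc P K J w ↔ J ⊆ ascs P w :=
  ⟨fun h j hj => h.2 j hj, fun h => ⟨hl, fun j hj => h hj⟩⟩

theorem sum_interval (T A : Set P.S) (hTA : T ⊆ A) [Decidable (T = A)]
    [∀ J : Finset P.S, Decidable (T ⊆ ↑J ∧ ↑J ⊆ A)] :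
    ∃ ε : ℤ, ε.natAbs = 1 ∧ ∑ J : Finset P.S, (if T ⊆ ↑J ∧ ↑J ⊆ A then (-1 : ℤ) ^ J.card else 0) =
      if T = A then ε else 0 := by
  classical
  by_cases h : T = A
  · subst h
    refine ⟨(-1) ^ T.toFinset.card, by simp [Int.natAbs_pow], ?_⟩
    rw [if_pos rfl, Finset.sum_eq_single T.toFinset]
    · rw [if_pos (by simp)]
    · intro J _ hne
      rw [if_neg fun hh => hne (Finset.coe_injective (by simp [Set.Subset.antisymm hh.2 hh.1]))]
    · simp
  · obtain ⟨a, haA, haT⟩ := Set.exists_of_ssubset (lt_of_le_of_ne hTA h)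
    refine ⟨1, rfl, ?_⟩
    rw [if_neg h]
    refine Finset.sum_involution (fun J _ => if a ∈ J then J.erase a else insert a J) ?_ ?_ ?_ ?_
    · intro J _
      by_cases ha : a ∈ J
      · simp only [if_pos ha]
        have hc : T ⊆ ↑(J.erase a) ∧ ↑(J.erase a) ⊆ A ↔ T ⊆ ↑J ∧ ↑J ⊆ A := by
          rw [Finset.coe_erase]
          constructor
          · exact fun hh => ⟨hh.1.trans Set.sdiff_subset, fun x hx => by
              by_cases hxa : x = a
              exacts [hxa ▸ haA, hh.2 ⟨hx, hxa⟩]⟩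
          · exact fun hh => ⟨fun x hx => ⟨hh.1 hx, fun hxa => haT (hxa ▸ hx)⟩,
              Set.sdiff_subset.trans hh.2⟩
        simp only [hc]
        split_ifs
        · rw [← Finset.card_erase_add_one ha, pow_succ]; ring
        · rfl
      · simp only [if_neg ha]
        have hc : T ⊆ ↑(insert a J) ∧ ↑(insert a J) ⊆ A ↔ T ⊆ ↑J ∧ ↑J ⊆ A := by
          rw [Finset.coe_insert]
          constructor
          · exact fun hh => ⟨fun x hx => (hh.1 hx).resolve_left fun hxa => haT (hxa ▸ hx),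
              (Set.subset_insert _ _).trans hh.2⟩
          · exact fun hh => ⟨hh.1.trans (Set.subset_insert _ _), Set.insert_subset haA hh.2⟩
        simp only [hc]
        split_ifs
        · rw [Finset.card_insert_of_notMem ha, pow_succ]; ring
        · rfl
    · intro J _ _
      by_cases ha : a ∈ J
      · simp only [if_pos ha]
        exact fun e => Finset.notMem_erase a J (e.symm ▸ ha)
      · simp only [if_neg ha]
        exact fun e => ha (e ▸ Finset.mem_insert_self a J)
    · exact fun J _ => Finset.mem_univ _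
    · intro J _
      by_cases ha : a ∈ J
      · simp [ha]
      · simp [ha]

theorem Contributes.unique {K : Set P.S} {w w' : Weyl P} (h : Contributes P K w)
    (h' : Contributes P K w') : w = w' := by
  obtain ⟨m, hm, hmd, -⟩ := exists_longest_inW P K
  have key : ∀ v, Contributes P K v → NoAsc P (m * v) := by
    rintro v ⟨hl, hfull, hT⟩ j
    have h0 := len_mul_of_asc_left P hl hm
    rw [mul_assoc, h0]
    by_cases hj : j ∈ ascs P v
    · rw [← hT] at hj
      obtain ⟨k, hk, e⟩ := hj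
      rw [← e, ← mul_assoc, len_mul_of_asc_left P hl (hm.mul (inW_refl P hk))]
      have := hmd k hk
      omega
    · have h1 := len_mul_le P m (v * refl P j)
      have h2 : ¬ len P v < len P (v * refl P j) := hj
      omega
  exact mul_left_cancel (NoAsc.unique P (key w h) (key w' h'))

theorem natAbs_stZ_of_isolated {K : Set P.S} {s : G} (hs : Isolated P K s) :
    stZ P s = 0 ∨ ∃ w, Contributes P K w ∧ (stZ P s).natAbs = orbitFix P K w s := by
  classical
  haveI := Fintype.ofFinite (Weyl P)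
  have hS : stZ P s = ∑ w : Weyl P, ∑ J : Finset P.S,
      if Asc P K (↑J) w ∧ Full P K w ∧ tgt P K w ⊆ ↑J then
        (-1 : ℤ) ^ J.card * (orbitFix P K w s : ℤ) else 0 := by
    rw [stZ, Finset.sum_comm]
    refine Finset.sum_congr rfl fun J _ => ?_
    rw [card_fixed_eq_sum P hs, Nat.cast_sum, Finset.mul_sum]
    refine Finset.sum_congr rfl fun w _ => ?_
    split_ifs <;> simp
  have hterm : ∀ w : Weyl P, ∃ ε : ℤ, ε.natAbs = 1 ∧ (∑ J : Finset P.S,
      if Asc P K (↑J) w ∧ Full P K w ∧ tgt P K w ⊆ ↑J then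
        (-1 : ℤ) ^ J.card * (orbitFix P K w s : ℤ) else 0) =
      if Contributes P K w then ε * (orbitFix P K w s : ℤ) else 0 := by
    intro w
    by_cases hw : (∀ k ∈ K, len P w < len P (refl P k * w)) ∧ Full P K w
    · have hTA : tgt P K w ⊆ ascs P w := fun j hj => (tgt_asc P hw.1).2 j hj
      obtain ⟨ε, hε, hsum⟩ := sum_interval P _ _ hTA
      refine ⟨ε, hε, ?_⟩
      have hc : Contributes P K w ↔ tgt P K w = ascs P w :=
        ⟨fun h => h.2.2, fun h => ⟨hw.1, hw.2, h⟩⟩
      calc _ = (∑ J : Finset P.S, if tgt P K w ⊆ ↑J ∧ ↑J ⊆ ascs P w then (-1 : ℤ) ^ J.card else 0) *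
            (orbitFix P K w s : ℤ) := by
            rw [Finset.sum_mul]
            refine Finset.sum_congr rfl fun J _ => ?_
            rw [ite_mul, zero_mul]
            refine if_congr ?_ rfl rfl
            rw [asc_iff_subset P hw.1]
            exact ⟨fun h => ⟨h.2.2, h.1⟩, fun h => ⟨h.2, hw.2, h.1⟩⟩
        _ = _ := by rw [hsum, ite_mul, zero_mul]; exact if_congr hc.symm rfl rfl
    · refine ⟨1, rfl, ?_⟩
      rw [if_neg fun h => hw ⟨h.1, h.2.1⟩]
      exact Finset.sum_eq_zero fun J _ => if_neg fun h => hw ⟨h.1.1, h.2.1⟩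
  choose ε hε hεs using hterm
  rw [hS, Finset.sum_congr rfl fun w _ => hεs w]
  by_cases h : ∃ w, Contributes P K w
  · obtain ⟨w, hw⟩ := h
    refine Or.inr ⟨w, hw, ?_⟩
    rw [Finset.sum_eq_single w (fun v _ hv => if_neg fun hv' => hv (Contributes.unique P hv' hw))
      (by simp), if_pos hw, Int.natAbs_mul, hε, one_mul, Int.natAbs_natCast]
  · exact Or.inl (Finset.sum_eq_zero fun w _ => if_neg fun hw => h ⟨w, hw⟩)

/-! ### The regular orbit -/

section split

variable {p : ℕ} [hp : Fact p.Prime] {U : Subgroup G} (hU : UnipotentData P p U)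
include hU

/-- The `p`-core of `P_K`. -/
def coreSub (K : Set P.S) : Subgroup G where
  carrier := coreSet P (U := U) K
  one_mem' := ⟨U.one_mem, fun g _ => by simpa using P.B.one_mem⟩
  mul_mem' {a b} ha hb := ⟨U.mul_mem ha.1 hb.1, fun g hg => by
    have := P.B.mul_mem (ha.2 g hg) (hb.2 g hg)
    simpa [mul_assoc] using this⟩
  inv_mem' {a} ha := ⟨U.inv_mem ha.1, fun g hg => by
    have := P.B.inv_mem (ha.2 g hg)
    simpa [mul_assoc] using this⟩

omit [Fintype P.S] in
theorem conj_mem_coreSub {K : Set P.S} {r c : G} (hr : r ∈ coreSub P (U := U) K) (hc : c ∈ par P K) :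
    c⁻¹ * r * c ∈ coreSub P (U := U) K := by
  refine ⟨conj_mem_U P hU hr.1 (hr.2 c hc), fun g hg => ?_⟩
  have := hr.2 (c * g) ((par P K).mul_mem hc hg)
  simpa [mul_assoc] using this

theorem card_coreSub_mul {K : Set P.S} {w : Weyl P} (hw : Contributes P K w) {n : P.N}
    (hn : NoAsc P (QuotientGroup.mk n)) (hopp : ∀ u ∈ U, (n : G)⁻¹ * u * n ∈ P.B → u = 1)
    {m : Weyl P} (hm : InW P K m) (hmd : Desc P K m) (hmw : m * w = QuotientGroup.mk n) :
    cellCount P w = Nat.card (coreSub P (U := U) K) := by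
  obtain ⟨a, rfl⟩ := QuotientGroup.mk_surjective m
  obtain ⟨l, hl, hlm⟩ := id hm
  have haK : (a : G) ∈ par P K := mem_par_of_cell P hl (hlm ▸ mem_cell_self P a)
  have h1 := cellCount_mul_stab P hU a
  have h2 := cellCount_mul_stab P hU n
  have e1 : Nat.card {u : U // (a : G)⁻¹ * u * a ∈ P.B} = Nat.card (coreSub P (U := U) K) :=
    Nat.card_congr
      { toFun := fun u => ⟨u.1.1, u.1.2, fun g hg => conj_mem_B_of_opposite P hU haK
          (by rw [wIdx_eq P (mem_cell_self P a)]; exact hmd) u.1.2 u.2 hg⟩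
        invFun := fun u => ⟨⟨u.1, u.2.1⟩, u.2.2 _ haK⟩
        left_inv := fun _ => rfl
        right_inv := fun _ => rfl }
  have e2 : Nat.card {u : U // (n : G)⁻¹ * u * n ∈ P.B} = 1 := by
    rw [Nat.card_eq_one_iff_unique]
    refine ⟨⟨fun u v => Subtype.ext (Subtype.ext ?_)⟩, ⟨⟨1, by simpa using P.B.one_mem⟩⟩⟩
    rw [hopp _ u.1.2 u.2, hopp _ v.1.2 v.2]
  rw [e2, mul_one, ← hmw, cellCount_mul P (len_mul_of_asc_left P hw.1 hm), ← h1, e1] at h2
  exact Nat.eq_of_mul_eq_mul_left (cellCount_pos P _) h2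

theorem orbitFix_le {K : Set P.S} {w : Weyl P} (hw : Contributes P K w) {n : P.N}
    (hn : NoAsc P (QuotientGroup.mk n)) (hopp : ∀ u ∈ U, (n : G)⁻¹ * u * n ∈ P.B → u = 1)
    {s : G} (hsK : s ∈ par P K) :
    orbitFix P K w s ≤ p ^ (Nat.card (Subgroup.centralizer ({s} : Set G))).factorization p := by
  classical
  obtain ⟨m, hm, hmd, -⟩ := exists_longest_inW P K
  have hN : NoAsc P (m * w) := by
    intro j
    rw [mul_assoc, len_mul_of_asc_left P hw.1 hm]
    by_cases hj : j ∈ ascs P w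
    · rw [← hw.2.2] at hj
      obtain ⟨k, hk, e⟩ := hj
      rw [← e, ← mul_assoc, len_mul_of_asc_left P hw.1 (hm.mul (inW_refl P hk))]
      have := hmd k hk
      omega
    · have h1 := len_mul_le P m (w * refl P j)
      have h2 : ¬ len P w < len P (w * refl P j) := hj
      omega
  have hmw : m * w = QuotientGroup.mk n := NoAsc.unique P hN hn
  have hcc := card_coreSub_mul P hU hw hn hopp hm hmd hmw
  obtain ⟨g0, hg0⟩ := QuotientGroup.mk_surjective w
  obtain ⟨c0, hc0⟩ := QuotientGroup.mk_surjective m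
  have hgw : (g0 : G) ∈ cell P w := hg0 ▸ mem_cell_self P g0
  have hcm : (c0 : G) ∈ cell P m := hc0 ▸ mem_cell_self P c0
  obtain ⟨l, hl, hlm⟩ := id hm
  have hcK : (c0 : G) ∈ par P K := mem_par_of_cell P hl (hlm.symm ▸ hcm)
  have hshift : ∀ l : List P.S, (∀ k ∈ l, k ∈ K) →
      ∃ l' : List P.S, (∀ j ∈ l', j ∈ tgt P K w) ∧ word P l * w = w * word P l' := by
    intro l
    induction l with
    | nil => exact fun _ => ⟨[], by simp, by simp⟩
    | cons k l ih =>
      intro hl
      obtain ⟨l', hl', e'⟩ := ih fun x hx => hl x (List.mem_cons_of_mem _ hx)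
      obtain ⟨j, hj⟩ := hw.2.1 k (hl k List.mem_cons_self)
      refine ⟨j :: l', ?_, by rw [word_cons, word_cons, mul_assoc, e', ← mul_assoc, hj, mul_assoc]⟩
      intro x hx
      rcases List.mem_cons.1 hx with rfl | hx
      exacts [⟨k, hl k List.mem_cons_self, hj⟩, hl' x hx]
  obtain ⟨l', hl', el'⟩ := hshift l hl
  have hdT : (g0 : G)⁻¹ * c0 * g0 ∈ par P (tgt P K w) := by
    refine mem_par_of_cell P hl' ?_
    have e : word P l' = QuotientGroup.mk (g0⁻¹ * c0 * g0) := by
      rw [QuotientGroup.mk_mul, QuotientGroup.mk_mul, QuotientGroup.mk_inv, hg0, hc0, mul_assoc,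
        ← hlm, el', inv_mul_cancel_left]
    rw [e]
    simpa using mem_cell_self P (g0⁻¹ * c0 * g0)
  let x0 : G ⧸ par P (tgt P K w) := ((g0 : G) : G ⧸ par P (tgt P K w))
  have hfix : ∀ r ∈ coreSub P (U := U) K, r • x0 = x0 → r = 1 := by
    intro r hr hrx
    have hB : ∀ q ∈ coreSub P (U := U) K, (g0 : G)⁻¹ * q * g0 ∈ par P (tgt P K w) →
        (g0 : G)⁻¹ * q * g0 ∈ P.B := by
      intro q hq hqT
      have e := (mem_par_parts P hw.1 (tgt_asc P hw.1) hgw (B_le_par P K (hU.le hq.1)) hqT).2.2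
      rw [wIdx_eq P ((mem_cell_one P).2 (hU.le hq.1)), one_mul, left_eq_mul] at e
      have h := mem_cell_wIdx P ((g0 : G)⁻¹ * q * g0)
      rwa [e, mem_cell_one] at h
    have hrT : (g0 : G)⁻¹ * r * g0 ∈ par P (tgt P K w) := by
      rw [MulAction.Quotient.smul_coe, smul_eq_mul, eq_comm, QuotientGroup.eq] at hrx
      simpa [mul_assoc] using hrx
    have hr' := hB _ (conj_mem_coreSub P hU hr hcK) (by
      have := (par P _).mul_mem ((par P _).mul_mem ((par P _).inv_mem hdT) hrT) hdT
      simpa [mul_assoc] using this)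
    have hz : (c0 : G) * g0 ∈ cell P (m * w) :=
      mul_mem_of_additive P (len_mul_of_asc_left P hw.1 hm) hcm hgw
    rw [hmw] at hz
    obtain ⟨b, hb, b', hb', e⟩ := exists_of_mem_cell P hz (mem_cell_self P n)
    have h3 : ((c0 : G) * g0)⁻¹ * r * (c0 * g0) ∈ P.B := by simpa [mul_assoc] using hr'
    have h4 : (n : G)⁻¹ * (b⁻¹ * r * b) * n ∈ P.B := by
      have := P.B.mul_mem (P.B.mul_mem hb' h3) (P.B.inv_mem hb')
      rw [e] at this
      simpa [mul_assoc] using this
    have h5 := hopp _ (by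
      have := hU.normal b⁻¹ (P.B.inv_mem hb) r hr.1
      simpa using this) h4
    have e2 : r = b * (b⁻¹ * r * b) * b⁻¹ := by group
    rw [e2, h5, mul_one, mul_inv_cancel]
  have hx0 : InOrbit P K w x0 := ⟨1, (par P K).one_mem, g0, hgw, by rw [one_mul]⟩
  have horb : ∀ r ∈ coreSub P (U := U) K, ∀ x : G ⧸ par P (tgt P K w),
      InOrbit P K w x → InOrbit P K w (r • x) := by
    rintro r hr x ⟨c, hc, g, hg, rfl⟩
    exact ⟨r * c, (par P K).mul_mem (B_le_par P K (hU.le hr.1)) hc, g, hg, by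
      rw [MulAction.Quotient.smul_coe, smul_eq_mul, mul_assoc]⟩
  let F : coreSub P (U := U) K → {x : G ⧸ par P (tgt P K w) // InOrbit P K w x} :=
    fun r => ⟨(r : G) • x0, horb _ r.2 _ hx0⟩
  have hFinj : Function.Injective F := by
    intro r r' e
    have e' : (r : G) • x0 = (r' : G) • x0 := congrArg Subtype.val e
    have := hfix _ (r'⁻¹ * r).2 (by
      rw [Subgroup.coe_mul, InvMemClass.coe_inv, mul_smul, e', inv_smul_smul])
    exact (inv_mul_eq_one.1 (Subtype.ext this)).symm
  have hle : Nat.card {x : G ⧸ par P (tgt P K w) // InOrbit P K w x} ≤ Nat.card (coreSub P (U := U) K) := by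
    rw [← hcc, cellCount]
    refine Nat.card_le_card_of_surjective
      (fun y : {y : G ⧸ P.B // qIdx P y = w} =>
        (⟨((y.1.out : G) : G ⧸ par P (tgt P K w)), 1, (par P K).one_mem, y.1.out,
          (by have := mem_cell_wIdx P y.1.out; rwa [qIdx_out, y.2] at this), by rw [one_mul]⟩ :
          {x : G ⧸ par P (tgt P K w) // InOrbit P K w x})) ?_
    rintro ⟨x, hx⟩
    obtain ⟨c, hc, rfl⟩ := hx.exists_rep P hgw
    obtain ⟨lc, hlc, hcl⟩ := exists_word_par P hc
    obtain ⟨lt, hlt, et⟩ := hshift lc hlc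
    have hcg := mul_mem_of_additive P
      (len_mul_of_asc_left P hw.1 (x := word P lc) ⟨lc, hlc, rfl⟩) hcl hgw
    rw [et] at hcg
    obtain ⟨a, ha, z, hz, e⟩ := exists_factor P hcg
    refine ⟨⟨(a : G ⧸ P.B), wIdx_eq P ha⟩, Subtype.ext ?_⟩
    show (((a : G ⧸ P.B).out : G) : G ⧸ par P (tgt P K w)) = _
    rw [QuotientGroup.eq, e]
    have hb : ((a : G ⧸ P.B).out)⁻¹ * a ∈ P.B := by rw [← QuotientGroup.eq, mk_out]
    have := (par P _).mul_mem (B_le_par P (tgt P K w) hb) (mem_par_of_cell P hlt hz)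
    simpa [mul_assoc] using this
  have hFbij : Function.Bijective F := hFinj.bijective_of_nat_card_le hle
  rw [orbitFix]
  by_cases hne : ∃ x : G ⧸ par P (tgt P K w), s • x = x ∧ InOrbit P K w x
  swap
  · haveI : IsEmpty {x : G ⧸ par P (tgt P K w) // s • x = x ∧ InOrbit P K w x} :=
      ⟨fun x => hne ⟨x.1, x.2⟩⟩
    simp
  obtain ⟨x1, hx1, hx1o⟩ := hne
  set R := coreSub P (U := U) K with hR
  set C : Subgroup G := R ⊓ Subgroup.centralizer ({s} : Set G) with hC
  obtain ⟨r1, hr1⟩ := hFbij.2 ⟨x1, hx1o⟩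
  have hr1' : (r1 : G) • x0 = x1 := congrArg Subtype.val hr1
  have hfix1 : ∀ r ∈ R, r • x1 = x1 → r = 1 := by
    intro r hr h
    rw [← hr1'] at h
    have hm' : (r1 : G)⁻¹ * r * r1 ∈ R := R.mul_mem (R.mul_mem (R.inv_mem r1.2) hr) r1.2
    have := hfix _ hm' (by rw [mul_assoc, mul_smul, mul_smul, h, inv_smul_smul])
    have e2 : r = (r1 : G) * ((r1 : G)⁻¹ * r * r1) * (r1 : G)⁻¹ := by group
    rw [e2, this, mul_one, mul_inv_cancel]
  have hsurj : ∀ x : {x : G ⧸ par P (tgt P K w) // s • x = x ∧ InOrbit P K w x},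
      ∃ r : C, (r : G) • x1 = x.1 := by
    rintro ⟨x, hx, hxo⟩
    obtain ⟨r, hr⟩ := hFbij.2 ⟨x, hxo⟩
    have hr' : (r : G) • x0 = x := congrArg Subtype.val hr
    have hq : (r : G) * (r1 : G)⁻¹ ∈ R := R.mul_mem r.2 (R.inv_mem r1.2)
    have hqx : ((r : G) * (r1 : G)⁻¹) • x1 = x := by
      rw [mul_smul, ← hr1', inv_smul_smul, hr']
    refine ⟨⟨(r : G) * (r1 : G)⁻¹, hq, ?_⟩, hqx⟩
    set q := (r : G) * (r1 : G)⁻¹
    have hsq : s * q * s⁻¹ ∈ R := by
      have := conj_mem_coreSub P hU hq ((par P K).inv_mem hsK)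
      rwa [inv_inv] at this
    have h1 := hfix1 _ (R.mul_mem (R.inv_mem hq) hsq) (by
      have hxs : s⁻¹ • x1 = x1 := by rw [inv_smul_eq_iff, hx1]
      rw [mul_smul, mul_smul, mul_smul, hxs, hqx, hx, ← hqx, inv_smul_smul])
    rw [inv_mul_eq_one] at h1
    show q ∈ Subgroup.centralizer ({s} : Set G)
    rw [Subgroup.mem_centralizer_singleton_iff]
    calc q * s = s * q * s⁻¹ * s := by rw [← h1]
      _ = s * q := by group
  choose f hf using hsurj
  have hle2 : Nat.card {x : G ⧸ par P (tgt P K w) // s • x = x ∧ InOrbit P K w x} ≤ Nat.card C :=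
    Nat.card_le_card_of_injective f fun x x' e => Subtype.ext (by rw [← hf x, ← hf x', e])
  refine hle2.trans ?_
  have hCp : IsPGroup p C := hU.isPGroup.to_le (fun x hx => hx.1.1)
  obtain ⟨a, ha⟩ := hCp.exists_card_eq
  have hdvd : p ^ a ∣ Nat.card (Subgroup.centralizer ({s} : Set G)) :=
    ha ▸ Subgroup.card_dvd_of_le inf_le_right
  rw [ha]
  exact Nat.pow_le_pow_right hp.out.pos
    ((hp.out.pow_dvd_iff_le_factorization Nat.card_pos.ne').1 hdvd)

/-! ### Divisibility and congruences -/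

omit hU in
theorem stab_of_coprime {X : Type*} [MulAction G X] {a b : G} (h : Commute a b)
    (hc : (orderOf a).Coprime (orderOf b)) {x : X} (hx : (a * b) • x = x) : a • x = x ∧ b • x = x := by
  have key : ∀ {a b : G}, Commute a b → (orderOf a).Coprime (orderOf b) → (a * b) • x = x → a • x = x := by
    intro a b h hc hx
    obtain ⟨i, hi⟩ := exists_pow_eq_self_of_coprime hc.symm
    have e : (a * b) ^ orderOf b = a ^ orderOf b := by
      rw [h.mul_pow, pow_orderOf_eq_one, mul_one]
    have hmem : a * b ∈ MulAction.stabilizer G x := hx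
    have := Subgroup.pow_mem _ (Subgroup.pow_mem _ hmem (orderOf b)) i
    rwa [e, hi, MulAction.mem_stabilizer_iff] at this
  exact ⟨key h hc hx, key h.symm hc.symm (by rwa [← h.eq])⟩

omit hU in
theorem dvd_sum_fixed (X : Type*) [MulAction G X] [Finite X] {s : G} (hs : ¬ p ∣ orderOf s)
    (Q : Subgroup G) [Fintype Q] (hQ : IsPGroup p Q) (hQc : Q ≤ Subgroup.centralizer ({s} : Set G)) :
    (Nat.card Q : ℤ) ∣ ∑ u : Q, (Nat.card {x : X // (s * u) • x = x} : ℤ) := by
  classical
  haveI := Fintype.ofFinite X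
  have hcomm : ∀ u : Q, Commute s (u : G) := fun u =>
    (Subgroup.mem_centralizer_singleton_iff.1 (hQc u.2)).symm
  letI act : MulAction Q {x : X // s • x = x} :=
    { smul := fun u x => ⟨(u : G) • x.1, by rw [← mul_smul, (hcomm u).eq, mul_smul, x.2]⟩
      one_smul := fun x => Subtype.ext (one_smul G x.1)
      mul_smul := fun u v x => Subtype.ext (mul_smul (u : G) (v : G) x.1) }
  have e : ∀ u : Q, Nat.card {x : X // (s * u) • x = x} =
      Fintype.card (MulAction.fixedBy {x : X // s • x = x} u) := by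
    intro u
    rw [← Nat.card_eq_fintype_card]
    have hco : (orderOf s).Coprime (orderOf (u : G)) := by
      obtain ⟨k, hk⟩ := IsPGroup.iff_orderOf.1 hQ u
      rw [Subgroup.orderOf_coe, hk]
      exact Nat.Coprime.pow_right k ((hp.out.coprime_iff_not_dvd.2 hs).symm)
    exact Nat.card_congr
      { toFun := fun x => ⟨⟨x.1, (stab_of_coprime (hcomm u) hco x.2).1⟩,
          Subtype.ext (stab_of_coprime (hcomm u) hco x.2).2⟩
        invFun := fun x => ⟨x.1.1, by
          have h2 : (u : G) • x.1.1 = x.1.1 := congrArg Subtype.val x.2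
          rw [mul_smul, h2, x.1.2]⟩
        left_inv := fun _ => rfl
        right_inv := fun _ => rfl }
  simp only [e]
  rw [← Nat.cast_sum, MulAction.sum_card_fixedBy_eq_card_orbits_mul_card_group, Nat.cast_mul,
    ← Nat.card_eq_fintype_card (α := Q)]
  exact dvd_mul_left _ _

theorem pPart_dvd_stZ {s : G} (hs : ¬ p ∣ orderOf s) (hvan : ∀ g : G, p ∣ orderOf g → stZ P g = 0) :
    ((p ^ (Nat.card (Subgroup.centralizer ({s} : Set G))).factorization p : ℕ) : ℤ) ∣ stZ P s := by
  classical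
  obtain ⟨Q0⟩ := (inferInstance : Nonempty (Sylow p (Subgroup.centralizer ({s} : Set G))))
  set Q : Subgroup G := (Q0 : Subgroup (Subgroup.centralizer ({s} : Set G))).map
    (Subgroup.centralizer ({s} : Set G)).subtype with hQ
  haveI := Fintype.ofFinite Q
  have hQp : IsPGroup p Q := Q0.isPGroup'.map _
  have hQc : Q ≤ Subgroup.centralizer ({s} : Set G) := by
    rintro x ⟨y, -, rfl⟩
    exact y.2
  have hcard : Nat.card Q = p ^ (Nat.card (Subgroup.centralizer ({s} : Set G))).factorization p := by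
    rw [hQ, Subgroup.card_subtype, Q0.card_eq_multiplicity]
  rw [← hcard]
  have hsum : stZ P s = ∑ u : Q, stZ P (s * u) := by
    rw [Finset.sum_eq_single (1 : Q) (fun u _ hu => ?_) (by simp), Subgroup.coe_one, mul_one]
    apply hvan
    obtain ⟨k, hk⟩ := IsPGroup.iff_orderOf.1 hQp u
    have hco : (orderOf s).Coprime (orderOf (u : G)) := by
      rw [Subgroup.orderOf_coe, hk]
      exact Nat.Coprime.pow_right k ((hp.out.coprime_iff_not_dvd.2 hs).symm)
    rw [Commute.orderOf_mul_eq_mul_orderOf_of_coprime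
      ((Subgroup.mem_centralizer_singleton_iff.1 (hQc u.2)).symm : Commute s (u : G)) hco, Subgroup.orderOf_coe, hk]
    refine dvd_mul_of_dvd_right (dvd_pow_self p fun h0 => hu ?_) _
    rw [h0, pow_zero, orderOf_eq_one_iff] at hk
    exact hk
  rw [hsum]
  simp only [stZ]
  rw [Finset.sum_comm]
  refine Finset.dvd_sum fun J _ => ?_
  rw [← Finset.mul_sum]
  exact dvd_mul_of_dvd_right (dvd_sum_fixed _ hs Q hQp hQc) _

omit hU hp in
theorem stZ_modEq_pow {s : G} {l e : ℕ} (hl : l.Prime) :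
    (l : ℤ) ∣ stZ P s - stZ P (s ^ l ^ e) := by
  classical
  haveI := Fact.mk hl
  simp only [stZ, ← Finset.sum_sub_distrib, ← mul_sub]
  refine Finset.dvd_sum fun J _ => dvd_mul_of_dvd_right ?_ _
  set a := s ^ l ^ e with ha
  let X := G ⧸ par P (J : Set P.S)
  let σ : Equiv.Perm {x : X // a • x = x} :=
    (MulAction.toPerm s).subtypePerm fun x => by
      show a • (s • x) = s • x ↔ a • x = x
      rw [← mul_smul, ha, ← pow_succ, pow_succ', mul_smul]
      exact (MulAction.injective s).eq_iff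
  have hpow : ∀ (k : ℕ) (x : {x : X // a • x = x}), ((σ ^ k) x).1 = (s ^ k) • x.1 := by
    intro k
    induction k with
    | zero => simp
    | succ k ih =>
      intro x
      rw [pow_succ', Equiv.Perm.mul_apply]
      show s • ((σ ^ k) x).1 = _
      rw [ih, ← mul_smul, ← pow_succ']
  have hσ : σ ^ l ^ e = 1 := Equiv.ext fun x => Subtype.ext (by rw [hpow, ← ha, x.2]; rfl)
  have hpg : IsPGroup l (Subgroup.zpowers σ) := by
    obtain ⟨i, -, hi⟩ := (Nat.dvd_prime_pow hl).1 (orderOf_dvd_of_pow_eq_one hσ)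
    exact IsPGroup.of_card (n := i) (by rw [Nat.card_zpowers, hi])
  have h := hpg.card_modEq_card_fixedPoints {x : X // a • x = x}
  have e1 : Nat.card (MulAction.fixedPoints (Subgroup.zpowers σ) {x : X // a • x = x}) =
      Nat.card {x : X // s • x = x} := by
    refine Nat.card_congr
      { toFun := fun x => ⟨x.1.1, congrArg Subtype.val (x.2 ⟨σ, Subgroup.mem_zpowers σ⟩)⟩
        invFun := fun x => ⟨⟨x.1, ?_⟩, ?_⟩
        left_inv := fun _ => rfl
        right_inv := fun _ => rfl }
    · have : s ∈ MulAction.stabilizer G x.1 := x.2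
      exact Subgroup.pow_mem _ this _
    · rintro ⟨τ, hτ⟩
      obtain ⟨i, rfl⟩ := Subgroup.mem_zpowers_iff.1 hτ
      exact Equiv.Perm.zpow_apply_eq_self_of_apply_eq_self (Subtype.ext x.2) i
  rw [e1] at h
  exact Nat.modEq_iff_dvd.1 h

theorem natAbs_stZ {n : P.N} (hn : NoAsc P (QuotientGroup.mk n))
    (hopp : ∀ u ∈ U, (n : G)⁻¹ * u * n ∈ P.B → u = 1)
    (hvan : ∀ g : G, p ∣ orderOf g → stZ P g = 0) (h1 : stZ P 1 ≠ 0) :
    ∀ s : G, ¬ p ∣ orderOf s →
      (stZ P s).natAbs = p ^ (Nat.card (Subgroup.centralizer ({s} : Set G))).factorization p := by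
  classical
  suffices H : ∀ k, ∀ s : G, orderOf s = k → ¬ p ∣ orderOf s →
      (stZ P s).natAbs = p ^ (Nat.card (Subgroup.centralizer ({s} : Set G))).factorization p from
    fun s => H _ s rfl
  intro k
  induction k using Nat.strong_induction_on with
  | _ k ih =>
    intro s hk hs
    have hne : stZ P s ≠ 0 := by
      by_cases hs1 : s = 1
      · rwa [hs1]
      obtain ⟨l, hl, hlk⟩ := Nat.exists_prime_and_dvd (mt orderOf_eq_one_iff.1 hs1)
      set e := (orderOf s).factorization l with he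
      have hdvd : l ^ e ∣ orderOf s := Nat.ordProj_dvd _ _
      have ho : orderOf (s ^ l ^ e) = orderOf s / l ^ e := by
        rw [orderOf_pow' s (pow_ne_zero _ hl.ne_zero), Nat.gcd_eq_right hdvd]
      have hlt : orderOf (s ^ l ^ e) < k := by
        rw [ho, hk]
        refine Nat.div_lt_self (hk ▸ orderOf_pos s) (Nat.one_lt_pow ?_ hl.one_lt)
        exact (hl.factorization_pos_of_dvd (orderOf_pos s).ne' hlk).ne'
      have hs' : ¬ p ∣ orderOf (s ^ l ^ e) := fun h => hs (h.trans (orderOf_pow_dvd _))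
      have h2 := ih _ hlt (s ^ l ^ e) rfl hs'
      intro h0
      have h3 := stZ_modEq_pow P (s := s) (e := e) hl
      rw [h0, zero_sub, dvd_neg, Int.natCast_dvd] at h3
      rw [h2] at h3
      exact hs ((Nat.prime_dvd_prime_iff_eq hl hp.out).1 (hl.dvd_of_dvd_pow h3) ▸ hlk)
    have hdvd := pPart_dvd_stZ P hU hs hvan
    rw [Int.natCast_dvd] at hdvd
    refine le_antisymm ?_ (Nat.le_of_dvd (Int.natAbs_pos.2 hne) hdvd)
    obtain ⟨K, ⟨c, hc⟩, hmin⟩ :=
      (Set.toFinite {K : Set P.S | ∃ c : G, c⁻¹ * s * c ∈ par P K}).exists_minimal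
        ⟨Set.univ, 1, by
          rw [par, Set.image_univ, Subtype.range_coe, parabolic_S]
          trivial⟩
    have hiso : Isolated P K (c⁻¹ * s * c) := by
      refine ⟨hc, fun L hL hne' d hd hmem => hne' (Set.Subset.antisymm hL (hmin ⟨c * d, ?_⟩ hL))⟩
      simpa [mul_assoc] using hmem
    have hcent : Nat.card (Subgroup.centralizer ({c⁻¹ * s * c} : Set G)) =
        Nat.card (Subgroup.centralizer ({s} : Set G)) := by
      refine Nat.card_congr (Equiv.subtypeEquiv (MulAut.conj c).toEquiv fun x => ?_)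
      rw [Subgroup.mem_centralizer_singleton_iff, Subgroup.mem_centralizer_singleton_iff]
      show _ ↔ c * x * c⁻¹ * s = s * (c * x * c⁻¹)
      constructor
      · intro h
        calc c * x * c⁻¹ * s = c * (x * (c⁻¹ * s * c)) * c⁻¹ := by group
          _ = _ := by rw [h]; group
      · intro h
        calc x * (c⁻¹ * s * c) = c⁻¹ * (c * x * c⁻¹ * s) * c := by group
          _ = _ := by rw [h]; group
    rcases natAbs_stZ_of_isolated P hiso with h | ⟨w, hw, h⟩
    · rw [stZ_conj] at h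
      exact absurd h hne
    · rw [stZ_conj] at h
      rw [h, ← hcent]
      exact orbitFix_le P hU hw hn hopp hiso.1

end split

end Cfsg.Agent.BN
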