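/-
An element of prime order dividing no order of a proper parabolic subgroup commutes with no nontrivial element
conjugate into the unipotent part of B: the alternating sum of its fixed coset counts would be both 0 and ±1
modulo that prime.
-/
import Cfsg.Agent.Lib.BNPair.SemisimpleValue

set_option autoImplicit false
set_option linter.style.haveILetI false
set_option linter.unusedSectionVars false

namespace Cfsg.Agent.BN

open Cfsg

universe u

variable {G : Type u} [Group G] (P : BNPair G) [Finite G] [Fintype P.S]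

/-- A nontrivial element of `U` fixes no chamber without ascents, if `U` is large enough. -/
theorem stZ_eq_zero_of_mem {U : Subgroup G} (hle : U ≤ P.B)
    (hdec : ∀ b ∈ P.B, ∃ u ∈ U, ∃ h ∈ P.N, h ∈ P.B ∧ b = u * h) {w : Weyl P}
    (hcard : Nat.card U ≤ cellCount P w) {a : G} (ha : a ∈ U) (ha1 : a ≠ 1) : stZ P a = 0 := by
  classical
  obtain ⟨w0, hw0, hw0l⟩ := exists_noAsc P
  obtain ⟨r, hr, hrl⟩ := exists_reduced P w
  obtain ⟨x, hx, hxl⟩ := exists_factor_of_noLeftAsc P hw0l r (by rw [hr, hrl])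
  rw [hr] at hx
  have hcard0 : Nat.card U ≤ cellCount P w0 := by
    rw [hx, cellCount_mul P (by rw [← hx, hxl, hrl])]
    exact hcard.trans (Nat.le_mul_of_pos_right _ (cellCount_pos P x))
  obtain ⟨n, hn⟩ := QuotientGroup.mk_surjective w0
  let f : U → {y : G ⧸ P.B // qIdx P y = w0} := fun u =>
    ⟨((((u : G) * n : G)) : G ⧸ P.B), by
      rw [qIdx_mk]
      exact wIdx_eq P (by simpa using mul_mem_cell P (hn ▸ mem_cell_self P n) (hle u.2) P.B.one_mem)⟩
  have hsurj : Function.Surjective f := by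
    rintro ⟨y, hy⟩
    obtain ⟨g, rfl⟩ := QuotientGroup.mk_surjective y
    have hg : g ∈ cell P w0 := by
      have := mem_cell_wIdx P g
      rwa [← qIdx_mk, hy] at this
    obtain ⟨b, hb, c, hc, rfl⟩ := exists_of_mem_cell P hg (hn ▸ mem_cell_self P n)
    obtain ⟨u, hu, h, hhN, hhB, rfl⟩ := hdec b hb
    refine ⟨⟨u, hu⟩, Subtype.ext ?_⟩
    show ((u * (n : G) : G) : G ⧸ P.B) = _
    rw [QuotientGroup.eq]
    have h2 := P.conj_mem (n : G)⁻¹ (P.N.inv_mem n.2) h ⟨hhB, hhN⟩
    rw [inv_inv] at h2
    have := P.B.mul_mem h2 hc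
    simpa [mul_assoc] using this
  have hinj : Function.Injective f :=
    (hsurj.bijective_of_nat_card_le (by rw [cellCount] at hcard0; exact hcard0)).1
  have hz : Nat.card {y : G ⧸ P.B // a • y = y ∧ NoAsc P (qIdx P y)} = 0 := by
    rw [Nat.card_eq_zero]
    refine Or.inl ⟨?_⟩
    rintro ⟨y, hy, hyn⟩
    obtain ⟨u, hu⟩ := hsurj ⟨y, NoAsc.unique P hyn hw0⟩
    have hu' : (((u : G) * n : G) : G ⧸ P.B) = y := congrArg Subtype.val hu
    have := @hinj (⟨a, ha⟩ * u) u (Subtype.ext (by
      show (((a * u : G) * n : G) : G ⧸ P.B) = (((u : G) * n : G) : G ⧸ P.B)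
      rw [mul_assoc, ← smul_eq_mul, ← MulAction.Quotient.smul_coe, hu', hy]))
    exact ha1 (congrArg Subtype.val (mul_eq_right.1 this))
  have h := st_eq_card P ⟨a, hle ha⟩
  rw [st_eq_stZ, hz, Nat.cast_zero] at h
  exact_mod_cast h

theorem not_commute_of_not_dvd_parabolic {U : Subgroup G} (hle : U ≤ P.B)
    (hdec : ∀ b ∈ P.B, ∃ u ∈ U, ∃ h ∈ P.N, h ∈ P.B ∧ b = u * h) {w : Weyl P}
    (hcard : Nat.card U ≤ cellCount P w) {a b c : G} (ha : c⁻¹ * a * c ∈ U) (ha1 : a ≠ 1) {r : ℕ}
    (hr : r.Prime) (hb : orderOf b = r) (hab : Commute a b)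
    (hpar : ∀ J : Set P.S, J ≠ Set.univ → ¬ r ∣ Nat.card (par P J)) : False := by
  classical
  haveI := Fact.mk hr
  have hz : stZ P a = 0 := by
    rw [← stZ_conj P c]
    exact stZ_eq_zero_of_mem P hle hdec hcard ha fun h => ha1 (by
      have : a = c * (c⁻¹ * a * c) * c⁻¹ := by group
      rw [this, h, mul_one, mul_inv_cancel])
  have hterm : ∀ J : Finset P.S, J ≠ Finset.univ →
      r ∣ Nat.card {x : G ⧸ par P (J : Set P.S) // a • x = x} := by
    intro J hJ
    let X := G ⧸ par P (J : Set P.S)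
    let σ : Equiv.Perm {x : X // a • x = x} :=
      (MulAction.toPerm b).subtypePerm fun x => by
        show a • (b • x) = b • x ↔ a • x = x
        rw [← mul_smul, hab.eq, mul_smul]
        exact (MulAction.injective b).eq_iff
    have hpow : ∀ (k : ℕ) (x : {x : X // a • x = x}), ((σ ^ k) x).1 = (b ^ k) • x.1 := by
      intro k
      induction k with
      | zero => simp
      | succ k ih =>
        intro x
        rw [pow_succ', Equiv.Perm.mul_apply]
        show b • ((σ ^ k) x).1 = _
        rw [ih, ← mul_smul, ← pow_succ']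
    have hσ : σ ^ r = 1 :=
      Equiv.ext fun x => Subtype.ext (by rw [hpow, ← hb, pow_orderOf_eq_one, one_smul]; rfl)
    have hpg : IsPGroup r (Subgroup.zpowers σ) := by
      obtain ⟨i, -, hi⟩ := (Nat.dvd_prime_pow hr (m := 1)).1 (by simpa using orderOf_dvd_of_pow_eq_one hσ)
      exact IsPGroup.of_card (n := i) (by rw [Nat.card_zpowers, hi])
    have h := hpg.card_modEq_card_fixedPoints {x : X // a • x = x}
    have e : Nat.card (MulAction.fixedPoints (Subgroup.zpowers σ) {x : X // a • x = x}) = 0 := by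
      rw [Nat.card_eq_zero]
      refine Or.inl ⟨?_⟩
      rintro ⟨⟨x, hx⟩, hfix⟩
      have hbx : b • x = x := congrArg Subtype.val (hfix ⟨σ, Subgroup.mem_zpowers σ⟩)
      obtain ⟨g, rfl⟩ := QuotientGroup.mk_surjective x
      rw [MulAction.Quotient.smul_coe, smul_eq_mul, eq_comm, QuotientGroup.eq] at hbx
      have := Subgroup.orderOf_dvd_natCard (par P (J : Set P.S)) hbx
      rw [← mul_assoc] at this
      have e2 : orderOf (g⁻¹ * b * g) = orderOf b := by
        simpa using (MulAut.conj g⁻¹).orderOf_eq b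
      rw [e2, hb] at this
      exact hpar _ (fun h => hJ (Finset.coe_injective (h.trans Finset.coe_univ.symm))) this
    rw [e] at h
    exact (Nat.modEq_zero_iff_dvd).1 h
  have htop : Nat.card {x : G ⧸ par P ((Finset.univ : Finset P.S) : Set P.S) // a • x = x} = 1 := by
    have e : par P ((Finset.univ : Finset P.S) : Set P.S) = ⊤ := by
      rw [Finset.coe_univ, par, Set.image_univ, Subtype.range_coe, parabolic_S]
    rw [e, Nat.card_eq_one_iff_unique]
    haveI : Subsingleton (G ⧸ (⊤ : Subgroup G)) :=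
      ⟨fun x y => by
        obtain ⟨g, rfl⟩ := QuotientGroup.mk_surjective x
        obtain ⟨g', rfl⟩ := QuotientGroup.mk_surjective y
        exact QuotientGroup.eq.2 trivial⟩
    exact ⟨inferInstance, ⟨⟨((1 : G) : G ⧸ (⊤ : Subgroup G)), Subsingleton.elim _ _⟩⟩⟩
  rw [stZ, ← Finset.add_sum_erase _ _ (Finset.mem_univ (Finset.univ : Finset P.S)), htop,
    Nat.cast_one, mul_one] at hz
  have hd : (r : ℤ) ∣ ∑ J ∈ (Finset.univ : Finset (Finset P.S)).erase Finset.univ,
      (-1 : ℤ) ^ J.card * (Nat.card {x : G ⧸ par P (J : Set P.S) // a • x = x} : ℤ) :=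
    Finset.dvd_sum fun J hJ =>
      dvd_mul_of_dvd_right (Int.natCast_dvd_natCast.2 (hterm J (Finset.mem_erase.1 hJ).1)) _
  rw [eq_neg_of_add_eq_zero_right hz, dvd_neg, Int.natCast_dvd, Int.natAbs_pow] at hd
  simp at hd
  exact hr.ne_one hd

/-- A parabolic subgroup of rank one: `B` and one further cell. -/
theorem card_par_singleton (t : P.S) :
    Nat.card (par P {t}) = Nat.card P.B * (1 + cellCount P (refl P t)) := by
  classical
  rw [← Nat.card_congr (Subgroup.subgroupOfEquivOfLe (B_le_par P ({t} : Set P.S))).toEquiv,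
    ← (P.B.subgroupOf (par P {t})).card_mul_index]
  congr 1
  have hcases : ∀ g ∈ par P {t}, wIdx P g = 1 ∨ wIdx P g = refl P t := by
    intro g hg
    obtain ⟨l, hl, hgl⟩ := exists_word_par P hg
    rw [wIdx_eq P hgl]
    clear hgl
    induction l with
    | nil => exact Or.inl (by simp)
    | cons s l ih =>
      obtain rfl : s = t := hl s List.mem_cons_self
      rcases ih fun x hx => hl x (List.mem_cons_of_mem _ hx) with h | h
      · exact Or.inr (by rw [word_cons, h, mul_one])
      · exact Or.inl (by rw [word_cons, h, refl_mul_self])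
  let e : par P {t} ⧸ P.B.subgroupOf (par P {t}) →
      {y : G ⧸ P.B // qIdx P y = 1 ∨ qIdx P y = refl P t} := fun x =>
    Quotient.liftOn' x (fun g => ⟨((g : G) : G ⧸ P.B), hcases _ g.2⟩) fun g g' h => by
      have := QuotientGroup.leftRel_apply.1 h
      rw [Subgroup.mem_subgroupOf] at this
      exact Subtype.ext (QuotientGroup.eq.2 (by simpa using this))
  have he : Function.Bijective e := by
    constructor
    · intro x x' h
      obtain ⟨g, rfl⟩ := QuotientGroup.mk_surjective x
      obtain ⟨g', rfl⟩ := QuotientGroup.mk_surjective x'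
      have h' : ((g : G) : G ⧸ P.B) = ((g' : G) : G ⧸ P.B) := congrArg Subtype.val h
      rw [QuotientGroup.eq] at h' ⊢
      rw [Subgroup.mem_subgroupOf]
      simpa using h'
    · rintro ⟨y, hy⟩
      obtain ⟨g, rfl⟩ := QuotientGroup.mk_surjective y
      rw [qIdx_mk] at hy
      have hg : g ∈ par P {t} := by
        rcases hy with h | h
        · exact B_le_par P _ ((mem_cell_one P).1 (h ▸ mem_cell_wIdx P g))
        · refine mem_par_of_cell P (l := [t]) (by simp) ?_
          rw [word_singleton]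
          exact h ▸ mem_cell_wIdx P g
      exact ⟨((⟨g, hg⟩ : par P {t}) : _ ⧸ _), Subtype.ext rfl⟩
  rw [Subgroup.index, Nat.card_congr (Equiv.ofBijective e he)]
  haveI := Fintype.ofFinite (G ⧸ P.B)
  rw [← cellCount_one P, cellCount, cellCount]
  simp only [Nat.card_eq_fintype_card]
  rw [Fintype.card_subtype_or_disjoint]
  rw [Pi.disjoint_iff]
  intro y
  simp only [Prop.disjoint_iff]
  rintro ⟨h1, h2⟩
  exact refl_ne_one P t (h2.symm.trans h1)

end Cfsg.Agent.BN
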